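import Mathlib
import Groth.Agent.RegLocal.GlobalDim

/-!
Finiteness of `Ext` between finite modules over a noetherian ring and the residue field criterion
for finite injective dimension.
-/

set_option autoImplicit false
universe u

namespace Groth.Agent.GorLib

open CategoryTheory Abelian IsLocalRing

variable {R : Type u} [CommRing R]

theorem ext_subsingleton_of_iso {N N' : ModuleCat.{u} R} (e : N ≅ N') (M : ModuleCat.{u} R) (n : ℕ)
    [Subsingleton (Ext N M n)] : Subsingleton (Ext N' M n) :=
  ⟨fun a b => by
    have ha : ∀ c : Ext N' M n, c = (Ext.mk₀ e.inv).comp ((Ext.mk₀ e.hom).comp c (zero_add n)) (zero_add n) := fun c => by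
      rw [← Ext.comp_assoc_of_second_deg_zero, Ext.mk₀_comp_mk₀, e.inv_hom_id, Ext.mk₀_id_comp]
    rw [ha a, ha b, Subsingleton.elim ((Ext.mk₀ e.hom).comp a (zero_add n)) ((Ext.mk₀ e.hom).comp b (zero_add n))]⟩

/-- `Ext` of finite modules over a noetherian ring is finite. -/
theorem finite_ext [IsNoetherianRing R] (n : ℕ) : ∀ (N M : ModuleCat.{u} R) [Module.Finite R N] [Module.Finite R M],
    Module.Finite R (Ext.{u} N M n) := by
  induction n with
  | zero =>
    intro N M _ _
    exact Module.Finite.equiv ((ModuleCat.homLinearEquiv (S := R)).symm.trans (Ext.linearEquiv₀ (R := R)).symm)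
  | succ n ih =>
    intro N M _ _
    obtain ⟨m, f, hf⟩ := Module.Finite.exists_fin' R N
    have hS := LinearMap.shortExact_shortComplexKer hf
    haveI : Module.Finite R f.shortComplexKer.X₁ := inferInstanceAs (Module.Finite R (LinearMap.ker f))
    haveI := ih f.shortComplexKer.X₁ M
    haveI : Projective f.shortComplexKer.X₂ := (IsProjective.iff_projective (R := R) (Fin m → R)).mp inferInstance
    refine Module.Finite.of_surjective
      (hS.extClass.precompOfLinear R M (add_comm 1 n)) fun e => ?_
    exact Ext.contravariant_sequence_exact₃ hS M e (by apply Ext.eq_zero_of_projective) (add_comm 1 n)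

theorem support_quotient (I : Ideal R) : Module.support R (R ⧸ I) = PrimeSpectrum.zeroLocus I := by
  rw [Module.support_eq_zeroLocus, Ideal.annihilator_quotient]

/-- Vanishing of `Ext` from the prime quotients in a support gives vanishing of `Ext` from any
finite module with that support. -/
theorem ext_subsingleton_of_primes [IsNoetherianRing R] (M : ModuleCat.{u} R) (n : ℕ)
    (S : Set (PrimeSpectrum R))
    (h : ∀ p ∈ S, Subsingleton (Ext (ModuleCat.of R (R ⧸ p.asIdeal)) M n))
    (N : Type u) [AddCommGroup N] [Module R N] [Module.Finite R N] (hN : Module.support R N ⊆ S) :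
    Subsingleton (Ext (ModuleCat.of R N) M n) := by
  revert hN
  refine IsNoetherianRing.induction_on_isQuotientEquivQuotientPrime R
    (motive := fun N _ _ _ => Module.support R N ⊆ S → Subsingleton (Ext (ModuleCat.of R N) M n)) ‹_›
    ?_ ?_ ?_
  · intro N _ _ _ _ _
    exact ⟨fun a b => by
      rw [← a.mk₀_id_comp, ← b.mk₀_id_comp, (ModuleCat.isZero_of_subsingleton (ModuleCat.of R N)).eq_zero_of_src (𝟙 _),
        Ext.mk₀_zero, Ext.zero_comp, Ext.zero_comp]⟩
  · intro N _ _ _ p e hN
    rw [e.support_eq, support_quotient] at hN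
    haveI := h p (hN ((PrimeSpectrum.mem_zeroLocus p _).mpr Set.Subset.rfl))
    exact ext_subsingleton_of_iso e.symm.toModuleIso M n
  · intro N₁ _ _ _ N₂ _ _ _ N₃ _ _ _ f g hf hg hfg h1 h3 hN
    haveI := h1 ((Module.support_subset_of_injective f hf).trans hN)
    haveI := h3 ((Module.support_subset_of_surjective g hg).trans hN)
    let T : ShortComplex (ModuleCat.{u} R) :=
      ShortComplex.mk (ModuleCat.ofHom f) (ModuleCat.ofHom g) (ModuleCat.hom_ext hfg.linearMap_comp_eq_zero)
    have hT : T.ShortExact :=
      { exact := (ShortComplex.ShortExact.moduleCat_exact_iff_function_exact _).2 hfg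
        mono_f := (ModuleCat.mono_iff_injective _).2 hf
        epi_g := (ModuleCat.epi_iff_surjective _).2 hg }
    haveI : Subsingleton (Ext T.X₁ M n) := h1 ((Module.support_subset_of_injective f hf).trans hN)
    haveI : Subsingleton (Ext T.X₃ M n) := h3 ((Module.support_subset_of_surjective g hg).trans hN)
    refine ⟨fun a b => sub_eq_zero.mp ?_⟩
    obtain ⟨x, hx⟩ := Ext.contravariant_sequence_exact₂ hT M (a - b) (Subsingleton.elim _ _)
    rw [← hx, Subsingleton.elim x 0, Ext.comp_zero]

variable [IsLocalRing R] [IsNoetherianRing R]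

theorem ext_subsingleton_quotient_prime (M : ModuleCat.{u} R) [Module.Finite R M] (N : ℕ)
    (h : ∀ i, N ≤ i → Subsingleton (Ext (ModuleCat.of R (ResidueField R)) M i))
    (p : PrimeSpectrum R) : ∀ i, N ≤ i → Subsingleton (Ext (ModuleCat.of R (R ⧸ p.asIdeal)) M i) := by
  suffices H : ∀ (I : Ideal R) (hI : I.IsPrime), ∀ i, N ≤ i → Subsingleton (Ext (ModuleCat.of R (R ⧸ I)) M i) from
    H p.asIdeal p.isPrime
  intro I
  induction I using IsNoetherian.induction with
  | _ I ih =>
    intro hI i hi
    by_cases hm : I = maximalIdeal R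
    · subst hm
      exact h i hi
    obtain ⟨x, hxm, hxI⟩ := SetLike.exists_of_lt (lt_of_le_of_ne (IsLocalRing.le_maximalIdeal hI.ne_top) hm)
    let μ : (R ⧸ I) →ₗ[R] (R ⧸ I) := x • LinearMap.id
    have hμ : Function.Injective μ := by
      rw [injective_iff_map_eq_zero]
      intro z hz
      induction z using Submodule.Quotient.induction_on with
      | H r =>
        have : x * r ∈ I := (Submodule.Quotient.mk_eq_zero I).mp hz
        exact (Submodule.Quotient.mk_eq_zero I).mpr ((hI.mem_or_mem this).resolve_left hxI)
    let T : ShortComplex (ModuleCat.{u} R) :=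
      ShortComplex.mk (ModuleCat.ofHom μ) (ModuleCat.ofHom (LinearMap.range μ).mkQ)
        (ModuleCat.hom_ext (LinearMap.exact_map_mkQ_range μ).linearMap_comp_eq_zero)
    have hT : T.ShortExact :=
      { exact := (ShortComplex.ShortExact.moduleCat_exact_iff_function_exact _).2 (LinearMap.exact_map_mkQ_range μ)
        mono_f := (ModuleCat.mono_iff_injective _).2 hμ
        epi_g := (ModuleCat.epi_iff_surjective _).2 (Submodule.mkQ_surjective _) }
    -- the third term has support in the primes strictly containing `I`
    haveI : Subsingleton (Ext T.X₃ M (i + 1)) := by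
      refine ext_subsingleton_of_primes M (i + 1) {q | I < q.asIdeal}
        (fun q hq => ih q.asIdeal hq q.isPrime (i + 1) (hi.trans (Nat.le_succ i))) ((R ⧸ I) ⧸ LinearMap.range μ) ?_
      intro q hq
      rw [Module.support_eq_zeroLocus, PrimeSpectrum.mem_zeroLocus] at hq
      have hI' : I ≤ q.asIdeal := fun r hr => hq (Module.mem_annihilator.mpr fun z => by
        induction z using Submodule.Quotient.induction_on with
        | H w =>
          induction w using Submodule.Quotient.induction_on with
          | H s =>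
            rw [← Submodule.Quotient.mk_smul, ← Submodule.Quotient.mk_smul,
              (Submodule.Quotient.mk_eq_zero I).mpr (show r • s ∈ I from Ideal.mul_mem_right s I hr)]
            rfl)
      have hx : x ∈ q.asIdeal := hq (Module.mem_annihilator.mpr fun z => by
        induction z using Submodule.Quotient.induction_on with
        | H w =>
          rw [← Submodule.Quotient.mk_smul, Submodule.Quotient.mk_eq_zero]
          exact ⟨w, rfl⟩)
      exact lt_of_le_of_ne hI' fun e => hxI (e ▸ hx)
    haveI : Module.Finite R (Ext.{u} (ModuleCat.of R (R ⧸ I)) M i) := finite_ext i _ _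
    have hbot : (⊤ : Submodule R (Ext.{u} (ModuleCat.of R (R ⧸ I)) M i)) = ⊥ := by
      refine Submodule.eq_bot_of_le_smul_of_le_jacobson_bot (maximalIdeal R) ⊤ Module.Finite.fg_top ?_
        (IsLocalRing.jacobson_eq_maximalIdeal ⊥ bot_ne_top).ge
      intro e _
      obtain ⟨e', he'⟩ := Ext.contravariant_sequence_exact₁ hT M e (n₁ := i + 1) (add_comm 1 i)
        (Subsingleton.elim _ _)
      have hTf : T.f = x • 𝟙 (ModuleCat.of R (R ⧸ I)) := ModuleCat.hom_ext rfl
      rw [hTf, Ext.mk₀_smul, Ext.smul_comp] at he'
      rw [← he', show (Ext.mk₀ (𝟙 (ModuleCat.of R (R ⧸ I)))).comp e' (zero_add i) = e' from Ext.mk₀_id_comp e']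
      exact Submodule.smul_mem_smul hxm trivial
    exact ⟨fun a b => ((Submodule.mem_bot R).mp (hbot.le (Submodule.mem_top (x := a)))).trans
      ((Submodule.mem_bot R).mp (hbot.le (Submodule.mem_top (x := b)))).symm⟩

/-- If `Ext^i(κ, M)` vanishes for `i > n` then `M` has injective dimension `≤ n`. -/
theorem hasInjectiveDimensionLT_of_residueField (M : ModuleCat.{u} R) [Module.Finite R M] (n : ℕ)
    (h : ∀ i, n + 1 ≤ i → Subsingleton (Ext (ModuleCat.of R (ResidueField R)) M i)) :
    HasInjectiveDimensionLT M (n + 1) := by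
  refine RegLocal.hasInjectiveDimensionLT_of_cyclic n M fun I => ?_
  exact ext_subsingleton_of_primes M (n + 1) Set.univ
    (fun p _ => ext_subsingleton_quotient_prime M (n + 1) h p (n + 1) le_rfl) _ (Set.subset_univ _)

theorem hasInjectiveDimensionLT_descend (M : ModuleCat.{u} R) [Module.Finite R M] (n : ℕ)
    [HasInjectiveDimensionLT M (n + 2)]
    (h : Subsingleton (Ext (ModuleCat.of R (ResidueField R)) M (n + 1))) :
    HasInjectiveDimensionLT M (n + 1) := by
  refine hasInjectiveDimensionLT_of_residueField M n fun i hi => ?_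
  rcases Nat.eq_or_lt_of_le hi with rfl | hlt
  · exact h
  · exact HasInjectiveDimensionLT.subsingleton M (n + 2) i hlt _

theorem exists_hasInjectiveDimensionLT_iff (M : ModuleCat.{u} R) [Module.Finite R M] :
    (∃ n : ℕ, HasInjectiveDimensionLT M n) ↔
      ∃ N : ℕ, ∀ i : ℕ, N ≤ i → Subsingleton (Ext (ModuleCat.of R (ResidueField R)) M i) := by
  constructor
  · rintro ⟨n, hn⟩
    exact ⟨n, fun i hi => HasInjectiveDimensionLT.subsingleton M n i hi _⟩
  · rintro ⟨N, hN⟩
    exact ⟨N + 1, hasInjectiveDimensionLT_of_residueField M N fun i hi => hN i (by omega)⟩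

end Groth.Agent.GorLib
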