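import Mathlib
import Groth.Agent.GorLib.Bass

/-!
Change of rings for the vanishing of `Ext`: if `f` is regular on `A`, then for an `A ⧸ (f)`-module `N`
and `i ≥ 1`, `Ext^{i+1}_A(N, A) = 0` iff `Ext^i_{A/(f)}(N, A/(f)) = 0`.
-/

set_option autoImplicit false
universe u

namespace Groth.Agent.GorLib

open CategoryTheory Abelian

variable {A : Type u} [CommRing A] (f : A)


theorem algebraMap_quot_surjective : Function.Surjective (algebraMap A (A ⧸ Ideal.span ({f} : Set A))) := Ideal.Quotient.mk_surjective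

/-- The functor "kernel of multiplication by `f`" on maps. -/
noncomputable def torMap {X Y : Type u} [AddCommGroup X] [Module A X] [AddCommGroup Y] [Module A Y]
    (g : X →ₗ[A] Y) : Submodule.torsionBy A X f →ₗ[(A ⧸ Ideal.span ({f} : Set A))] Submodule.torsionBy A Y f :=
  ((g.comp (Submodule.torsionBy A X f).subtype).codRestrict _ fun x => by
    rw [Submodule.mem_torsionBy_iff]
    show f • g (x : X) = 0
    rw [← map_smul, (Submodule.mem_torsionBy_iff f (x : X)).mp x.2, map_zero]).extendScalarsOfSurjective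
      (algebraMap_quot_surjective f)

theorem torMap_apply {X Y : Type u} [AddCommGroup X] [Module A X] [AddCommGroup Y] [Module A Y]
    (g : X →ₗ[A] Y) (x : Submodule.torsionBy A X f) : (torMap f g x : Y) = g x := rfl

theorem injective_torsionBy (E : Type u) [AddCommGroup E] [Module A E] [hE : Module.Injective A E] :
    Module.Injective (A ⧸ Ideal.span ({f} : Set A)) (Submodule.torsionBy A E f) := by
  refine ⟨fun X Y _ _ _ _ j hj g => ?_⟩
  letI : Module A X := Module.compHom X (algebraMap A (A ⧸ Ideal.span ({f} : Set A)))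
  letI : Module A Y := Module.compHom Y (algebraMap A (A ⧸ Ideal.span ({f} : Set A)))
  haveI : IsScalarTower A (A ⧸ Ideal.span ({f} : Set A)) X := IsScalarTower.of_algebraMap_smul fun _ _ => rfl
  haveI : IsScalarTower A (A ⧸ Ideal.span ({f} : Set A)) Y := IsScalarTower.of_algebraMap_smul fun _ _ => rfl
  obtain ⟨h, hh⟩ := hE.out (j.restrictScalars A) hj
    ((Submodule.torsionBy A E f).subtype.comp (g.restrictScalars A))
  have hmem : ∀ y, h y ∈ Submodule.torsionBy A E f := fun y => by
    rw [Submodule.mem_torsionBy_iff, ← map_smul, ← algebraMap_smul (A ⧸ Ideal.span ({f} : Set A)) f y,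
      show algebraMap A (A ⧸ Ideal.span ({f} : Set A)) f = 0 from Ideal.Quotient.eq_zero_iff_mem.mpr (Ideal.mem_span_singleton_self f),
      zero_smul, map_zero]
  exact ⟨(h.codRestrict _ hmem).extendScalarsOfSurjective (algebraMap_quot_surjective f),
    fun x => Subtype.ext (hh x)⟩

variable (N : Type u) [AddCommGroup N] [Module A N] [Module (A ⧸ Ideal.span ({f} : Set A)) N] [IsScalarTower A (A ⧸ Ideal.span ({f} : Set A)) N]

theorem smul_eq_zero_of_quot (x : N) : f • x = 0 := by
  rw [← algebraMap_smul (A ⧸ Ideal.span ({f} : Set A)) f x,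
    show algebraMap A (A ⧸ Ideal.span ({f} : Set A)) f = 0 from Ideal.Quotient.eq_zero_iff_mem.mpr (Ideal.mem_span_singleton_self f),
    zero_smul]

/-- Every `A`-linear map from a module killed by `f` factors through the `f`-torsion. -/
noncomputable def toTor {X : Type u} [AddCommGroup X] [Module A X] (φ : N →ₗ[A] X) :
    N →ₗ[(A ⧸ Ideal.span ({f} : Set A))] Submodule.torsionBy A X f :=
  (φ.codRestrict _ fun x => by
    rw [Submodule.mem_torsionBy_iff, ← map_smul, smul_eq_zero_of_quot f N x, map_zero]).extendScalarsOfSurjective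
      (algebraMap_quot_surjective f)

theorem ext_zero_of_comp {C : Type*} [Category C] [Abelian C] [HasExt.{u} C] {S : ShortComplex C}
    (hS : S.ShortExact) (X : C) (n : ℕ) [Subsingleton (Ext X S.X₁ (n + 1))]
    (e : Ext X S.X₃ n) : ∃ x : Ext X S.X₂ n, x.comp (Ext.mk₀ S.g) (add_zero n) = e :=
  Ext.covariant_sequence_exact₃ X hS e rfl (Subsingleton.elim _ _)

/-- Dimension shift along a short exact sequence with injective middle term. -/
theorem subsingleton_succ_succ_iff {C : Type*} [Category C] [Abelian C] [HasExt.{u} C] {S : ShortComplex C}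
    (hS : S.ShortExact) [Injective S.X₂] (X : C) (n : ℕ) :
    Subsingleton (Ext X S.X₁ (n + 2)) ↔ Subsingleton (Ext X S.X₃ (n + 1)) := by
  constructor
  · intro h
    refine ⟨fun a b => ?_⟩
    obtain ⟨x, hx⟩ := ext_zero_of_comp hS X (n + 1) a
    obtain ⟨y, hy⟩ := ext_zero_of_comp hS X (n + 1) b
    rw [← hx, ← hy, x.eq_zero_of_injective, y.eq_zero_of_injective]
  · intro h
    refine ⟨fun a b => ?_⟩
    obtain ⟨x, hx⟩ := Ext.covariant_sequence_exact₁ X hS a (Ext.eq_zero_of_injective _) (rfl : n + 1 + 1 = n + 2)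
    obtain ⟨y, hy⟩ := Ext.covariant_sequence_exact₁ X hS b (Ext.eq_zero_of_injective _) (rfl : n + 1 + 1 = n + 2)
    rw [← hx, ← hy, Subsingleton.elim x y]

theorem subsingleton_one_iff {C : Type*} [Category C] [Abelian C] [HasExt.{u} C] {S : ShortComplex C}
    (hS : S.ShortExact) [Injective S.X₂] (X : C) :
    Subsingleton (Ext X S.X₁ 1) ↔ ∀ φ : X ⟶ S.X₃, ∃ ψ : X ⟶ S.X₂, ψ ≫ S.g = φ := by
  constructor
  · intro h φ
    obtain ⟨x, hx⟩ := ext_zero_of_comp hS X 0 (Ext.mk₀ φ)
    obtain ⟨ψ, rfl⟩ := (Ext.mk₀_bijective X S.X₂).2 x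
    exact ⟨ψ, (Ext.mk₀_bijective X S.X₃).1 ((Ext.mk₀_comp_mk₀ ψ S.g).symm.trans hx)⟩
  · intro h
    have key : ∀ a : Ext X S.X₁ 1, a = 0 := by
      intro a
      obtain ⟨x, hx⟩ := Ext.covariant_sequence_exact₁ X hS a (Ext.eq_zero_of_injective _) (rfl : 0 + 1 = 1)
      obtain ⟨φ, rfl⟩ := (Ext.mk₀_bijective X S.X₃).2 x
      obtain ⟨ψ, rfl⟩ := h φ
      rw [← hx, ← Ext.mk₀_comp_mk₀, Ext.comp_assoc_of_second_deg_zero, hS.comp_extClass]
      exact Ext.comp_zero _ _ _ _ _
    exact ⟨fun a b => (key a).trans (key b).symm⟩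

/-- An embedding into an injective module, as a short exact sequence. -/
theorem exists_injective_seq (X : Type u) [AddCommGroup X] [Module A X] :
    ∃ (E : Type u) (_ : AddCommGroup E) (_ : Module A E) (j : X →ₗ[A] E),
      Module.Injective A E ∧ Function.Injective j := by
  obtain ⟨p⟩ := EnoughInjectives.presentation (ModuleCat.of A X)
  haveI := p.injective
  exact ⟨p.J, inferInstance, inferInstance, p.f.hom,
    Module.injective_module_of_injective_object A p.J, (ModuleCat.mono_iff_injective p.f).mp inferInstance⟩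

theorem shortExact_mkQ {R : Type u} [CommRing R] {X Y : Type u} [AddCommGroup X] [Module R X] [AddCommGroup Y]
    [Module R Y] {Z : Type u} [AddCommGroup Z] [Module R Z] (j : X →ₗ[R] Y) (q : Y →ₗ[R] Z)
    (hj : Function.Injective j) (hq : Function.Surjective q) (h : Function.Exact j q) :
    (ShortComplex.mk (ModuleCat.ofHom j) (ModuleCat.ofHom q) (ModuleCat.hom_ext h.linearMap_comp_eq_zero)).ShortExact :=
  { exact := (ShortComplex.ShortExact.moduleCat_exact_iff_function_exact _).2 h
    mono_f := (ModuleCat.mono_iff_injective _).2 hj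
    epi_g := (ModuleCat.epi_iff_surjective _).2 hq }

theorem exact_torMap {X Y : Type u} [AddCommGroup X] [Module A X] [AddCommGroup Y] [Module A Y]
    (j : X →ₗ[A] Y) (hj : Function.Injective j) :
    Function.Exact (torMap f j) (torMap f (LinearMap.range j).mkQ) := by
  intro y
  constructor
  · intro hy
    obtain ⟨x, hx⟩ := (Submodule.Quotient.mk_eq_zero _).mp (congrArg Subtype.val hy)
    refine ⟨⟨x, (Submodule.mem_torsionBy_iff f x).mpr (hj ?_)⟩, Subtype.ext hx⟩
    rw [map_smul, map_zero, hx]
    exact (Submodule.mem_torsionBy_iff f (y : Y)).mp y.2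
  · rintro ⟨x, rfl⟩
    exact Subtype.ext ((Submodule.Quotient.mk_eq_zero _).mpr ⟨x, rfl⟩)

/-- For an `f`-divisible module `C`, `Ext_A(N, C)` and `Ext_{A/f}(N, C[f])` vanish together. -/
theorem subsingleton_ext_divisible_iff (hf : IsSMulRegular A f) : ∀ (i : ℕ) (C : Type u) [AddCommGroup C] [Module A C],
    (Function.Surjective fun c : C => f • c) →
    (Subsingleton (Ext.{u} (ModuleCat.of A N) (ModuleCat.of A C) (i + 1)) ↔
      Subsingleton (Ext.{u} (ModuleCat.of (A ⧸ Ideal.span ({f} : Set A)) N) (ModuleCat.of (A ⧸ Ideal.span ({f} : Set A)) (Submodule.torsionBy A C f)) (i + 1))) := by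
  intro i
  induction i with
  | zero =>
    intro C _ _ hC
    obtain ⟨E, _, _, j, hE, hj⟩ := exists_injective_seq (A := A) C
    let q := (LinearMap.range j).mkQ
    have hq : Function.Surjective (torMap f q) := by
      rintro ⟨z, hz⟩
      obtain ⟨e, rfl⟩ := Submodule.mkQ_surjective (LinearMap.range j) z
      rw [Submodule.mem_torsionBy_iff, ← map_smul] at hz
      obtain ⟨c, hc⟩ := (Submodule.Quotient.mk_eq_zero _).mp hz
      obtain ⟨c', rfl⟩ := hC c
      refine ⟨⟨e - j c', ?_⟩, Subtype.ext ?_⟩
      · rw [Submodule.mem_torsionBy_iff, smul_sub, ← map_smul j, ← hc, sub_self]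
      · show q (e - j c') = q e
        rw [map_sub, show q (j c') = 0 from (Submodule.Quotient.mk_eq_zero (LinearMap.range j)).mpr ⟨c', rfl⟩, sub_zero]
    have hA := shortExact_mkQ j q hj (Submodule.mkQ_surjective _) (LinearMap.exact_map_mkQ_range j)
    have hB := shortExact_mkQ (torMap f j) (torMap f q)
      (fun a b h => Subtype.ext (hj (congrArg Subtype.val h))) hq (exact_torMap f j hj)
    haveI := injective_torsionBy f E
    haveI : Injective (ModuleCat.of A E) := Module.injective_object_of_injective_module A E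
    haveI : Injective (ModuleCat.of (A ⧸ Ideal.span ({f} : Set A)) (Submodule.torsionBy A E f)) :=
      Module.injective_object_of_injective_module (A ⧸ Ideal.span ({f} : Set A)) (Submodule.torsionBy A E f)
    rw [subsingleton_one_iff hA, subsingleton_one_iff hB]
    constructor
    · intro h φ
      obtain ⟨ψ, hψ⟩ := h (ModuleCat.ofHom ((Submodule.torsionBy A _ f).subtype.comp (φ.hom.restrictScalars A)))
      refine ⟨ModuleCat.ofHom (toTor f N ψ.hom), ModuleCat.hom_ext (LinearMap.ext fun x => Subtype.ext ?_)⟩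
      exact LinearMap.congr_fun (congrArg ModuleCat.Hom.hom hψ) x
    · intro h φ
      obtain ⟨ψ, hψ⟩ := h (ModuleCat.ofHom (toTor f N φ.hom))
      refine ⟨ModuleCat.ofHom ((Submodule.torsionBy A E f).subtype.comp (ψ.hom.restrictScalars A)),
        ModuleCat.hom_ext (LinearMap.ext fun x => ?_)⟩
      exact congrArg Subtype.val (LinearMap.congr_fun (congrArg ModuleCat.Hom.hom hψ) x)
  | succ i ih =>
    intro C _ _ hC
    obtain ⟨E, _, _, j, hE, hj⟩ := exists_injective_seq (A := A) C
    let q := (LinearMap.range j).mkQ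
    have hq : Function.Surjective (torMap f q) := by
      rintro ⟨z, hz⟩
      obtain ⟨e, rfl⟩ := Submodule.mkQ_surjective (LinearMap.range j) z
      rw [Submodule.mem_torsionBy_iff, ← map_smul] at hz
      obtain ⟨c, hc⟩ := (Submodule.Quotient.mk_eq_zero _).mp hz
      obtain ⟨c', rfl⟩ := hC c
      refine ⟨⟨e - j c', ?_⟩, Subtype.ext ?_⟩
      · rw [Submodule.mem_torsionBy_iff, smul_sub, ← map_smul j, ← hc, sub_self]
      · show q (e - j c') = q e
        rw [map_sub, show q (j c') = 0 from (Submodule.Quotient.mk_eq_zero (LinearMap.range j)).mpr ⟨c', rfl⟩, sub_zero]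
    have hA := shortExact_mkQ j q hj (Submodule.mkQ_surjective _) (LinearMap.exact_map_mkQ_range j)
    have hB := shortExact_mkQ (torMap f j) (torMap f q)
      (fun a b h => Subtype.ext (hj (congrArg Subtype.val h))) hq (exact_torMap f j hj)
    haveI := injective_torsionBy f E
    haveI : Injective (ModuleCat.of A E) := Module.injective_object_of_injective_module A E
    haveI : Injective (ModuleCat.of (A ⧸ Ideal.span ({f} : Set A)) (Submodule.torsionBy A E f)) :=
      Module.injective_object_of_injective_module (A ⧸ Ideal.span ({f} : Set A)) (Submodule.torsionBy A E f)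
    rw [subsingleton_succ_succ_iff hA, subsingleton_succ_succ_iff hB]
    refine ih _ ?_
    -- quotients of injective modules by submodules are `f`-divisible when `E` is; reduce to this
    intro z
    obtain ⟨e, rfl⟩ := Submodule.mkQ_surjective (LinearMap.range j) z
    obtain ⟨h, hh⟩ := hE.out (f • LinearMap.id : A →ₗ[A] A) (fun a b h => hf h) (LinearMap.toSpanSingleton A E e)
    exact ⟨q (h 1), by
      show f • q (h 1) = q e
      rw [← map_smul, ← map_smul h]
      have := hh 1
      rw [LinearMap.toSpanSingleton_apply, one_smul, LinearMap.smul_apply, LinearMap.id_apply] at this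
      rw [this]⟩

/-- For `f` regular on `A`, an `A/(f)`-module `N` and `i ≥ 1`. -/
theorem subsingleton_ext_quotient_iff (hf : IsSMulRegular A f) (i : ℕ) :
    Subsingleton (Ext.{u} (ModuleCat.of A N) (ModuleCat.of A A) (i + 2)) ↔
      Subsingleton (Ext.{u} (ModuleCat.of (A ⧸ Ideal.span ({f} : Set A)) N) (ModuleCat.of (A ⧸ Ideal.span ({f} : Set A)) (A ⧸ Ideal.span ({f} : Set A))) (i + 1)) := by
  obtain ⟨E, _, _, j, hE, hj⟩ := exists_injective_seq (A := A) A
  let q := (LinearMap.range j).mkQ
  let C := E ⧸ LinearMap.range j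
  have hdiv : Function.Surjective fun c : C => f • c := by
    intro z
    obtain ⟨e, rfl⟩ := Submodule.mkQ_surjective (LinearMap.range j) z
    obtain ⟨h, hh⟩ := hE.out (f • LinearMap.id : A →ₗ[A] A) (fun a b h => hf h) (LinearMap.toSpanSingleton A E e)
    exact ⟨q (h 1), by
      show f • q (h 1) = q e
      rw [← map_smul, ← map_smul h]
      have := hh 1
      rw [LinearMap.toSpanSingleton_apply, one_smul, LinearMap.smul_apply, LinearMap.id_apply] at this
      rw [this]⟩
  have hA := shortExact_mkQ j q hj (Submodule.mkQ_surjective _) (LinearMap.exact_map_mkQ_range j)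
  haveI : Injective (ModuleCat.of A E) := Module.injective_object_of_injective_module A E
  rw [subsingleton_succ_succ_iff hA, subsingleton_ext_divisible_iff f N hf i C hdiv]
  -- `E[f] → C[f] → A/f → 0`
  haveI := injective_torsionBy f E
  haveI : Injective (ModuleCat.of (A ⧸ Ideal.span ({f} : Set A)) (Submodule.torsionBy A E f)) :=
    Module.injective_object_of_injective_module (A ⧸ Ideal.span ({f} : Set A)) (Submodule.torsionBy A E f)
  -- the connecting map
  obtain ⟨g, hg⟩ : ∃ g : Submodule.torsionBy A C f →ₗ[(A ⧸ Ideal.span ({f} : Set A))] (A ⧸ Ideal.span ({f} : Set A)), ∀ (c : Submodule.torsionBy A C f) (e : E) (a : A),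
      q e = (c : C) → f • e = j a → g c = Ideal.Quotient.mk _ a := by
    have huniq : ∀ (e e' : E) (a a' : A), q e = q e' → f • e = j a → f • e' = j a' →
        Ideal.Quotient.mk (Ideal.span ({f} : Set A)) a = Ideal.Quotient.mk _ a' := by
      intro e e' a a' hq he he'
      obtain ⟨r, hr⟩ := (Submodule.Quotient.eq _).mp hq
      refine Ideal.Quotient.eq.mpr (Ideal.mem_span_singleton'.mpr ⟨r, hj ?_⟩)
      rw [map_sub, ← he, ← he', ← smul_sub, ← hr, ← map_smul, smul_eq_mul, mul_comm]
    have hlift : ∀ c : Submodule.torsionBy A C f, ∃ e : E, ∃ a : A, q e = (c : C) ∧ f • e = j a := by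
      rintro ⟨z, hz⟩
      obtain ⟨e, rfl⟩ := Submodule.mkQ_surjective (LinearMap.range j) z
      rw [Submodule.mem_torsionBy_iff, ← map_smul] at hz
      obtain ⟨a, ha⟩ := (Submodule.Quotient.mk_eq_zero _).mp hz
      exact ⟨e, a, rfl, ha.symm⟩
    choose e a hqe hfe using hlift
    refine ⟨LinearMap.extendScalarsOfSurjective (algebraMap_quot_surjective f)
      { toFun := fun c => (Ideal.Quotient.mk _ (a c) : (A ⧸ Ideal.span ({f} : Set A)))
        map_add' := fun c d => ?_
        map_smul' := fun r c => ?_ }, fun c e' a' h1 h2 => huniq _ _ _ _ ((hqe c).trans h1.symm) (hfe c) h2⟩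
    · rw [← map_add (Ideal.Quotient.mk _)]
      refine huniq _ (e c + e d) _ _ ?_ (hfe _) (by rw [smul_add, hfe, hfe, map_add])
      rw [hqe, map_add, hqe, hqe]; rfl
    · rw [RingHom.id_apply, Algebra.smul_def, Ideal.Quotient.algebraMap_eq, ← map_mul]
      refine huniq _ (r • e c) _ _ ?_ (hfe _) (by rw [smul_comm, hfe, ← map_smul, smul_eq_mul])
      rw [hqe, map_smul, hqe]; rfl
  have hsurj : Function.Surjective g := by
    intro b
    obtain ⟨a, rfl⟩ := Ideal.Quotient.mk_surjective b
    obtain ⟨h, hh⟩ := hE.out (f • LinearMap.id : A →ₗ[A] A) (fun a b h => hf h) (LinearMap.toSpanSingleton A E (j a))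
    have hfe : f • h 1 = j a := by
      have := hh 1
      rw [LinearMap.toSpanSingleton_apply, one_smul, LinearMap.smul_apply, LinearMap.id_apply, map_smul] at this
      exact this
    exact ⟨⟨q (h 1), by
      rw [Submodule.mem_torsionBy_iff, ← map_smul, hfe]
      exact (Submodule.Quotient.mk_eq_zero _).mpr ⟨a, rfl⟩⟩, hg _ _ _ rfl hfe⟩
  have hinj : Function.Injective (torMap f q) := by
    rw [injective_iff_map_eq_zero]
    rintro ⟨e, he⟩ h0
    obtain ⟨a, ha⟩ := (Submodule.Quotient.mk_eq_zero _).mp (congrArg Subtype.val h0)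
    have ha' : j a = e := ha
    rw [Submodule.mem_torsionBy_iff, ← ha', ← map_smul] at he
    have ha0 : a = 0 := hf ((hj (he.trans (map_zero j).symm)).trans (smul_zero f).symm)
    exact Subtype.ext (by show e = 0; rw [← ha', ha0, map_zero])
  have hexact : Function.Exact (torMap f q) g := by
    intro c
    constructor
    · intro hc
      obtain ⟨z, hz⟩ := c
      obtain ⟨e, rfl⟩ := Submodule.mkQ_surjective (LinearMap.range j) z
      have hz' := hz
      rw [Submodule.mem_torsionBy_iff, ← map_smul] at hz'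
      obtain ⟨a, ha⟩ := (Submodule.Quotient.mk_eq_zero _).mp hz'
      rw [hg _ e a rfl ha.symm] at hc
      obtain ⟨r, hr⟩ := Ideal.mem_span_singleton'.mp (Ideal.Quotient.eq_zero_iff_mem.mp hc)
      refine ⟨⟨e - j r, ?_⟩, Subtype.ext ?_⟩
      · rw [Submodule.mem_torsionBy_iff, smul_sub, ← ha, ← map_smul, smul_eq_mul, mul_comm, hr, sub_self]
      · show q (e - j r) = q e
        rw [map_sub, show q (j r) = 0 from (Submodule.Quotient.mk_eq_zero (LinearMap.range j)).mpr ⟨r, rfl⟩, sub_zero]
    · rintro ⟨⟨e, he⟩, rfl⟩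
      rw [hg _ e 0 rfl (by rw [(Submodule.mem_torsionBy_iff f e).mp he, map_zero]), map_zero]
  have hB := shortExact_mkQ (torMap f q) g hinj hsurj hexact
  constructor
  · intro h
    refine ⟨fun a b => ?_⟩
    obtain ⟨x, hx⟩ := Ext.covariant_sequence_exact₃ (ModuleCat.of (A ⧸ Ideal.span ({f} : Set A)) N) hB a (rfl : i + 1 + 1 = i + 2)
      (Ext.eq_zero_of_injective _)
    obtain ⟨y, hy⟩ := Ext.covariant_sequence_exact₃ (ModuleCat.of (A ⧸ Ideal.span ({f} : Set A)) N) hB b (rfl : i + 1 + 1 = i + 2)
      (Ext.eq_zero_of_injective _)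
    rw [← hx, ← hy, Subsingleton.elim x y]
  · intro h
    refine ⟨fun a b => ?_⟩
    obtain ⟨x, hx⟩ := Ext.covariant_sequence_exact₂ (ModuleCat.of (A ⧸ Ideal.span ({f} : Set A)) N) hB a (Subsingleton.elim _ _)
    obtain ⟨y, hy⟩ := Ext.covariant_sequence_exact₂ (ModuleCat.of (A ⧸ Ideal.span ({f} : Set A)) N) hB b (Subsingleton.elim _ _)
    rw [← hx, ← hy, x.eq_zero_of_injective, y.eq_zero_of_injective]

end Groth.Agent.GorLib
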