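import Mathlib
import Groth.Prelude.Def_CAlg
import Groth.Agent.GorLib.Bass
import Groth.Agent.GorLib.ChangeRings

/-! A local ring is Gorenstein iff its quotient by a regular element is. -/

set_option autoImplicit false
universe u

namespace Groth.Agent.GorLib

open CategoryTheory Abelian IsLocalRing

variable (A : Type u) [CommRing A] [IsLocalRing A] [IsNoetherianRing A]

theorem gorenstein_iff_ext :
    LocCoh.IsGorensteinLocalRing A ↔ ∃ N : ℕ, ∀ i : ℕ, N ≤ i →
      Subsingleton (Ext (ModuleCat.of A (ResidueField A)) (ModuleCat.of A A) i) := by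
  rw [← exists_hasInjectiveDimensionLT_iff (ModuleCat.of A A)]
  exact ⟨fun h => h.exists_hasInjectiveDimensionLT, fun h => { exists_hasInjectiveDimensionLT := h }⟩

theorem residueFieldEquiv (I : Ideal A) [IsLocalRing (A ⧸ I)] :
    Nonempty (ResidueField A ≃ₗ[A] ResidueField (A ⧸ I)) := by
  let g : A →ₗ[A] ResidueField (A ⧸ I) := LinearMap.toSpanSingleton A _ 1
  have hg : ∀ a : A, g a = residue (A ⧸ I) (Ideal.Quotient.mk I a) := fun a => by
    show a • (1 : ResidueField (A ⧸ I)) = _
    rw [Algebra.smul_def, mul_one]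
    rfl
  have hs : Function.Surjective g := fun z => by
    obtain ⟨b, rfl⟩ := residue_surjective z
    obtain ⟨a, rfl⟩ := Ideal.Quotient.mk_surjective b
    exact ⟨a, hg a⟩
  have hk : LinearMap.ker g = maximalIdeal A := by
    ext a
    haveI : IsLocalHom (Ideal.Quotient.mk I) := .of_surjective _ Ideal.Quotient.mk_surjective
    rw [LinearMap.mem_ker, hg, residue_eq_zero_iff, mem_maximalIdeal, mem_maximalIdeal, mem_nonunits_iff,
      mem_nonunits_iff, isUnit_map_iff]
  exact ⟨(Submodule.quotEquivOfEq _ _ hk.symm).trans (g.quotKerEquivOfSurjective hs)⟩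

theorem gorenstein_quot_iff (f : A) (hf : f ∈ maximalIdeal A) (hreg : IsSMulRegular A f) :
    LocCoh.IsGorensteinLocalRing A ↔ LocCoh.IsGorensteinLocalRing (A ⧸ Ideal.span ({f} : Set A)) := by
  have hne : Ideal.span ({f} : Set A) ≠ ⊤ := fun h =>
    (maximalIdeal.isMaximal A).ne_top (top_le_iff.mp (h ▸ (Ideal.span_singleton_le_iff_mem _).mpr hf))
  haveI : Nontrivial (A ⧸ Ideal.span ({f} : Set A)) := Ideal.Quotient.nontrivial_iff.mpr hne
  haveI : IsLocalRing (A ⧸ Ideal.span ({f} : Set A)) :=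
    IsLocalRing.of_surjective' (Ideal.Quotient.mk _) Ideal.Quotient.mk_surjective
  haveI : IsScalarTower A (A ⧸ Ideal.span ({f} : Set A)) (ResidueField (A ⧸ Ideal.span ({f} : Set A))) :=
    inferInstance
  obtain ⟨e⟩ := residueFieldEquiv A (Ideal.span ({f} : Set A))
  rw [gorenstein_iff_ext A, gorenstein_iff_ext (A ⧸ Ideal.span ({f} : Set A))]
  constructor
  · rintro ⟨N, hN⟩
    refine ⟨N + 1, fun i hi => ?_⟩
    obtain ⟨i, rfl⟩ := Nat.exists_eq_add_of_le' (show 1 ≤ i by omega)
    haveI := hN (i + 2) (by omega)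
    exact (subsingleton_ext_quotient_iff f _ hreg i).mp (ext_subsingleton_of_iso e.toModuleIso _ _)
  · rintro ⟨N, hN⟩
    refine ⟨N + 2, fun i hi => ?_⟩
    obtain ⟨i, rfl⟩ := Nat.exists_eq_add_of_le' (show 2 ≤ i by omega)
    haveI := (subsingleton_ext_quotient_iff f _ hreg i).mpr (hN (i + 1) (by omega))
    exact ext_subsingleton_of_iso e.symm.toModuleIso _ _

end Groth.Agent.GorLib
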