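import Mathlib
import Groth.Prelude.Def_CAlg
import Groth.Agent.GorLib.Quotient
import Groth.Agent.CMGraded.FlatCM

/-! Gorenstein local rings of depth zero are artinian; Gorenstein local rings are Cohen–Macaulay. -/

set_option autoImplicit false
universe u

namespace Groth.Agent.GorLib

open CategoryTheory Abelian IsLocalRing RingTheory.Sequence

/-- A self-injective noetherian local ring is artinian. -/
theorem isArtinian_of_selfInjective (A : Type u) [CommRing A] [IsLocalRing A] [IsNoetherianRing A]
    [Module.Injective A A] : IsArtinianRing A := by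
  have hnil : ∀ a ∈ maximalIdeal A, IsNilpotent a := by
    intro a ha
    -- the annihilators of the powers of `a` stabilise
    obtain ⟨n, hn⟩ := WellFoundedGT.monotone_chain_condition
      (⟨fun n => LinearMap.ker (LinearMap.lsmul A A (a ^ n)), monotone_nat_of_le_succ fun n x hx => by
        have hx' : a ^ n * x = 0 := hx
        show a ^ (n + 1) * x = 0
        rw [pow_succ', mul_assoc, hx', mul_zero]⟩ : ℕ →o Submodule A A)
    refine ⟨n, ?_⟩
    let φ : (A ⧸ LinearMap.ker (LinearMap.lsmul A A (a ^ (n + 1)))) →ₗ[A] A :=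
      Submodule.liftQ _ (LinearMap.lsmul A A (a ^ n)) (hn (n + 1) (Nat.le_succ n)).ge
    let j : (A ⧸ LinearMap.ker (LinearMap.lsmul A A (a ^ (n + 1)))) →ₗ[A] A :=
      Submodule.liftQ _ (LinearMap.lsmul A A (a ^ (n + 1))) le_rfl
    have hj : Function.Injective j := by
      rw [← LinearMap.ker_eq_bot]
      exact Submodule.ker_liftQ_eq_bot _ _ _ le_rfl
    obtain ⟨h, hh⟩ := Module.Injective.out j hj φ
    have h1 : h (a ^ (n + 1) * 1) = a ^ n * 1 := hh (Submodule.Quotient.mk 1)
    rw [mul_one, mul_one, ← mul_one (a ^ (n + 1)), ← smul_eq_mul, map_smul, smul_eq_mul] at h1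
    have hu : IsUnit (1 - a * h 1) := by
      rcases IsLocalRing.isUnit_or_isUnit_one_sub_self (a * h 1) with hu | hu
      · exact absurd (isUnit_of_mul_isUnit_left hu) ha
      · exact hu
    refine (IsUnit.mul_left_eq_zero hu).mp ?_
    linear_combination -h1
  rw [isArtinianRing_iff_krullDimLE_zero]
  refine Ring.KrullDimLE.mk₀ fun I hI => ?_
  have : maximalIdeal A ≤ I := fun a ha => by
    obtain ⟨n, hn⟩ := hnil a ha
    exact hI.mem_of_pow_mem n (hn ▸ I.zero_mem)
  rw [le_antisymm (IsLocalRing.le_maximalIdeal hI.ne_top) this]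
  infer_instance

variable {A : Type u} [CommRing A] [IsLocalRing A] [IsNoetherianRing A]

/-- If the residue field embeds in `A` and `A` is Gorenstein, then `A` is self-injective. -/
theorem selfInjective_of_embedding (h : LocCoh.IsGorensteinLocalRing A)
    {s : ResidueField A →ₗ[A] A} (hs : Function.Injective s) : Module.Injective A A := by
  obtain ⟨n, hn⟩ := h.exists_hasInjectiveDimensionLT
  have key : ∀ m, HasInjectiveDimensionLT (ModuleCat.of A A) (m + 1) → HasInjectiveDimensionLT (ModuleCat.of A A) 1 := by
    intro m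
    induction m with
    | zero => exact id
    | succ m ih =>
      intro hm
      refine ih (hasInjectiveDimensionLT_descend (ModuleCat.of A A) m ⟨fun a b => ?_⟩)
      have hT := shortExact_mkQ s (LinearMap.range s).mkQ hs (Submodule.mkQ_surjective _)
        (LinearMap.exact_map_mkQ_range s)
      haveI : Projective (ModuleCat.of A A) := (IsProjective.iff_projective (R := A) A).mp inferInstance
      obtain ⟨x, hx⟩ := Ext.contravariant_sequence_exact₁ hT (ModuleCat.of A A) a (add_comm 1 (m + 1))
        (Ext.eq_zero_of_hasInjectiveDimensionLT _ (m + 2) (by omega))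
      obtain ⟨y, hy⟩ := Ext.contravariant_sequence_exact₁ hT (ModuleCat.of A A) b (add_comm 1 (m + 1))
        (Ext.eq_zero_of_hasInjectiveDimensionLT _ (m + 2) (by omega))
      rw [← hx, ← hy, x.eq_zero_of_projective, y.eq_zero_of_projective]
  have h1 := key n (hasInjectiveDimensionLT_of_ge _ n (n + 1) (Nat.le_succ n))
  haveI : Injective (ModuleCat.of A A) := injective_iff_hasInjectiveDimensionLT_one.2 h1
  exact Module.injective_module_of_injective_object A A

theorem exists_embedding_or_regular (A : Type u) [CommRing A] [IsLocalRing A] [IsNoetherianRing A] :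
    (∃ s : ResidueField A →ₗ[A] A, Function.Injective s) ∨ ∃ f ∈ maximalIdeal A, IsSMulRegular A f := by
  by_cases hm : maximalIdeal A ∈ associatedPrimes A A
  · left
    obtain ⟨x, hx⟩ := ((isAssociatedPrime_iff_exists_injective_linearMap (maximalIdeal A) A).mp hm).2
    exact ⟨x, hx⟩
  · right
    have hnot : ¬ ((maximalIdeal A : Set A) ⊆ (nonZeroDivisors A : Set A)ᶜ) := by
      rw [← biUnion_associatedPrimes_eq_compl_nonZeroDivisors]
      intro hsub
      have hfin := associatedPrimes.finite A A
      obtain ⟨p, hp, hle⟩ := (Ideal.subset_union_prime_finite hfin (f := id) ⊥ ⊥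
        fun p hp _ _ => IsAssociatedPrime.isPrime hp).mp hsub
      have hpm : p = maximalIdeal A :=
        le_antisymm (IsLocalRing.le_maximalIdeal (IsAssociatedPrime.isPrime hp).ne_top) hle
      exact hm (hpm ▸ hp)
    obtain ⟨f, hf, hf'⟩ := Set.not_subset.mp hnot
    exact ⟨f, hf, fun a b hab => (mul_cancel_left_mem_nonZeroDivisors (not_not.mp hf')).mp hab⟩

theorem isArtinian_of_embedding (h : LocCoh.IsGorensteinLocalRing A)
    {s : ResidueField A →ₗ[A] A} (hs : Function.Injective s) : IsArtinianRing A := by
  haveI := selfInjective_of_embedding h hs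
  exact isArtinian_of_selfInjective A

theorem isLocalRing_quot_span {f : A} (hf : f ∈ maximalIdeal A) : IsLocalRing (A ⧸ Ideal.span ({f} : Set A)) := by
  haveI : Nontrivial (A ⧸ Ideal.span ({f} : Set A)) := Ideal.Quotient.nontrivial_iff.mpr fun h =>
    (maximalIdeal.isMaximal A).ne_top (top_le_iff.mp (h ▸ (Ideal.span_singleton_le_iff_mem _).mpr hf))
  exact IsLocalRing.of_surjective' (Ideal.Quotient.mk _) Ideal.Quotient.mk_surjective

theorem exists_regularSeq : ∀ (d : ℕ) (A : Type u) [CommRing A] [IsLocalRing A] [IsNoetherianRing A],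
    LocCoh.IsGorensteinLocalRing A → ringKrullDim A ≤ d →
      ∃ rs : List A, (∀ r ∈ rs, r ∈ maximalIdeal A) ∧ IsWeaklyRegular A rs ∧ ringKrullDim A ≤ rs.length := by
  intro d
  induction d using Nat.strong_induction_on with
  | _ d ih =>
    intro A _ _ _ hG hd
    rcases exists_embedding_or_regular A with ⟨s, hs⟩ | ⟨f, hf, hreg⟩
    · haveI := isArtinian_of_embedding hG hs
      refine ⟨[], by simp, IsWeaklyRegular.nil A A, ?_⟩
      exact (Ring.krullDimLE_iff.mp (inferInstance : Ring.KrullDimLE 0 A)).trans (by simp)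
    · haveI := isLocalRing_quot_span hf
      have hdim := ringKrullDim_quotient_span_singleton_succ_eq_ringKrullDim hreg hf
      have hd0 : d ≠ 0 := by
        rintro rfl
        rw [← hdim] at hd
        have h0 : (0 : WithBot ℕ∞) ≤ ringKrullDim (A ⧸ Ideal.span ({f} : Set A)) := ringKrullDim_nonneg_of_nontrivial
        have := (add_le_add_left h0 1).trans hd
        norm_num at this
      obtain ⟨k, rfl⟩ := Nat.exists_eq_succ_of_ne_zero hd0
      obtain ⟨rs, hm, hw, hlen⟩ := ih k (Nat.lt_succ_self k) (A ⧸ Ideal.span ({f} : Set A))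
        ((gorenstein_quot_iff A f hf hreg).mp hG) (by
          rw [← hdim] at hd
          exact ENat.WithBot.add_le_add_one_right_iff.mp (by exact_mod_cast hd))
      obtain ⟨l, rfl⟩ : ∃ l : List A, l.map (Ideal.Quotient.mk _) = rs :=
        List.map_surjective_iff.mpr Ideal.Quotient.mk_surjective rs
      refine ⟨f :: l, ?_, ?_, ?_⟩
      · intro r hr
        rcases List.mem_cons.mp hr with rfl | hr
        · exact hf
        · have := hm _ (List.mem_map_of_mem hr)
          by_contra hc
          exact this ((IsLocalRing.notMem_maximalIdeal.mp hc).map (Ideal.Quotient.mk _))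
      · refine IsWeaklyRegular.cons hreg ?_
        have e : QuotSMulTop f A ≃ₗ[A] A ⧸ Ideal.span ({f} : Set A) := Submodule.quotEquivOfEq _ _
          (by rw [← Submodule.ideal_span_singleton_smul, smul_eq_mul, Ideal.mul_top])
        rw [e.isWeaklyRegular_congr, ← isWeaklyRegular_map_algebraMap_iff (A ⧸ Ideal.span ({f} : Set A))]
        exact hw
      · rw [← hdim]
        simp only [List.length_cons, List.length_map, Nat.cast_add, Nat.cast_one] at hlen ⊢
        exact add_le_add hlen le_rfl

theorem isCohenMacaulay (A : Type u) [CommRing A] [IsLocalRing A] [IsNoetherianRing A]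
    (h : LocCoh.IsGorensteinLocalRing A) : LocCoh.IsCohenMacaulayLocalRing A := by
  obtain ⟨d, hd⟩ := RegLocal.exists_nat_ringKrullDim A
  obtain ⟨rs, hm, hw, hlen⟩ := exists_regularSeq d A h hd.le
  exact CMGraded.isCohenMacaulayLocalRing_of_seq hm hw hlen

end Groth.Agent.GorLib
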