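import Mathlib
import Groth.Prelude.Def_CAlg
import Groth.Agent.GorLib.CM
import Groth.Agent.InjHullLib.Gorenstein

/-! Artinian Gorenstein rings through their socle; socles in flat local extensions. -/

set_option autoImplicit false
universe u

namespace Groth.Agent.GorLib

open CategoryTheory Abelian IsLocalRing InjHullLib

/-- The socle is a line. -/
def SimpleSocle (R : Type u) [CommRing R] [IsLocalRing R] : Prop :=
  ∃ t : R, t ≠ 0 ∧ (∀ r ∈ maximalIdeal R, r * t = 0) ∧
    ∀ x : R, (∀ r ∈ maximalIdeal R, r * x = 0) → ∃ c, x = c * t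

variable {R : Type u} [CommRing R] [IsLocalRing R]

theorem simpleSocle_of_gorenstein [IsArtinianRing R] (h : LocCoh.IsGorensteinLocalRing R) : SimpleSocle R := by
  obtain ⟨s, hs, hsoc⟩ := exists_socle_of_gorenstein h
  refine ⟨s 1, fun h1 => one_ne_zero (hs (h1.trans (map_zero s).symm)), fun r hr => ?_, fun x hx => ?_⟩
  · exact smul_eq_zero_of_mem_range (LinearMap.mem_range_self s 1) hr
  · obtain ⟨c, hc⟩ := hsoc x hx
    obtain ⟨r, rfl⟩ := residue_surjective c
    exact ⟨r, by rw [← hc, ← residue_smul_one r, map_smul, smul_eq_mul]⟩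

theorem gorenstein_of_simpleSocle [IsArtinianRing R] (h : SimpleSocle R) : LocCoh.IsGorensteinLocalRing R := by
  obtain ⟨t, ht0, htm, htx⟩ := h
  let s : ResidueField R →ₗ[R] R :=
    Submodule.liftQ (maximalIdeal R) (LinearMap.toSpanSingleton R R t) fun r hr => htm r hr
  have hs : Function.Injective s := by
    rw [injective_iff_map_eq_zero]
    intro z hz
    obtain ⟨r, rfl⟩ := residue_surjective z
    by_contra hne
    have hu : IsUnit r := by
      by_contra hr
      exact hne (Ideal.Quotient.eq_zero_iff_mem.mpr hr)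
    exact ht0 ((IsUnit.mul_right_eq_zero hu).mp (show r * t = 0 from hz))
  have hsoc : ∀ x, (∀ r ∈ maximalIdeal R, r • x = 0) → x ∈ LinearMap.range s := fun x hx => by
    obtain ⟨c, rfl⟩ := htx x hx
    exact ⟨residue R c, rfl⟩
  obtain ⟨K, hK⟩ : IsNilpotent (maximalIdeal R) := by
    have := IsArtinianRing.isNilpotent_jacobson_bot (R := R)
    rwa [IsLocalRing.jacobson_eq_maximalIdeal ⊥ bot_ne_top] at this
  have htor : LocCoh.IsPowerTorsion (maximalIdeal R) R := fun x => ⟨K, fun a ha => by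
    rw [hK] at ha; rw [(Submodule.mem_bot R).mp ha, zero_smul]⟩
  have hull := isInjectiveHull_of_length htor hs hsoc fun N => ⟨⊥, bot_le, ⟨K, hK.le⟩, le_of_eq
    (((Submodule.quotEquivOfEqBot (⊥ : Ideal R) rfl).length_eq).trans
      ((((LinearEquiv.congrLeft R R (Submodule.quotEquivOfEqBot (⊥ : Ideal R) rfl))).trans
        (LinearMap.ringLmapEquivSelf R R R)).length_eq).symm)⟩
  haveI : Module.Injective R R := hull.isInjective
  haveI : Injective (ModuleCat.of R R) := Module.injective_object_of_injective_module R R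
  exact { exists_hasInjectiveDimensionLT := ⟨1, inferInstance⟩ }

theorem exists_socle_ne_zero [IsArtinianRing R] : ∃ t : R, t ≠ 0 ∧ ∀ r ∈ maximalIdeal R, r * t = 0 := by
  obtain ⟨j, hj⟩ := exists_residueField_embedding (R := R)
  exact ⟨j 1, fun h1 => one_ne_zero (hj (h1.trans (map_zero j).symm)),
    fun r hr => smul_eq_zero_of_mem_range (LinearMap.mem_range_self j 1) hr⟩

section Flat

variable {A B : Type u} [CommRing A] [CommRing B] [Algebra A B] [Module.Flat A B]

theorem mem_map_of_relation {ι : Type*} [Fintype ι] (f : ι → A) (I : Ideal A) (i₀ : ι)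
    (hI : ∀ a : ι → A, ∑ i, f i * a i = 0 → a i₀ ∈ I)
    (x : ι → B) (h : ∑ i, f i • x i = 0) : x i₀ ∈ I.map (algebraMap A B) := by
  obtain ⟨k, a, y, hx, ha⟩ := Module.Flat.isTrivialRelation_of_sum_smul_eq_zero (R := A) (M := B) (f := f) (x := x) h
  rw [hx i₀]
  refine sum_mem fun j _ => ?_
  rw [Algebra.smul_def]
  exact Ideal.mul_mem_right _ _ (Ideal.mem_map_of_mem _ (hI (fun i => a i j) (ha j)))

/-- Elements killed by finitely many elements of `A` come from the common annihilator. -/
theorem mem_map_annihilator (S : Finset A) (b : B) (hb : ∀ a ∈ S, algebraMap A B a * b = 0) :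
    ∃ (n : ℕ) (c : Fin n → A) (y : Fin n → B), (∀ j, ∀ a ∈ S, a * c j = 0) ∧ b = ∑ j, c j • y j := by
  classical
  induction S using Finset.induction_on with
  | empty => exact ⟨1, fun _ => 1, fun _ => b, fun _ a ha => absurd ha (Finset.notMem_empty a), by simp⟩
  | insert a S _ ih =>
    obtain ⟨n, c, y, hc, rfl⟩ := ih fun x hx => hb x (Finset.mem_insert_of_mem hx)
    have hrel : ∑ j, (a * c j) • y j = 0 := by
      rw [← hb a (Finset.mem_insert_self a S), Finset.mul_sum]
      exact Finset.sum_congr rfl fun j _ => by rw [mul_smul, Algebra.smul_def a]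
    obtain ⟨k, d, z, hy, hd⟩ := Module.Flat.isTrivialRelation_of_sum_smul_eq_zero (R := A) (M := B) (f := fun j => a * c j) (x := y) hrel
    refine ⟨k, fun l => ∑ j, c j * d j l, z, fun l x hx => ?_, ?_⟩
    · rw [Finset.mul_sum]
      rcases Finset.mem_insert.mp hx with rfl | hx
      · rw [← hd l]; exact Finset.sum_congr rfl fun j _ => by ring
      · exact Finset.sum_eq_zero fun j _ => by rw [← mul_assoc, hc j x hx, zero_mul]
    · simp only [hy, Finset.smul_sum, Finset.sum_smul, mul_smul]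
      exact Finset.sum_comm

variable [IsLocalRing A] [IsLocalRing B] [IsLocalHom (algebraMap A B)]

local notation "J" => Ideal.map (algebraMap A B) (maximalIdeal A)

theorem map_maximal_le : J ≤ maximalIdeal B :=
  Ideal.map_le_iff_le_comap.mpr fun x hx => map_nonunit (algebraMap A B) x hx

theorem mul_socle_eq_zero_iff {t : A} (ht0 : t ≠ 0) (ht : ∀ r ∈ maximalIdeal A, r * t = 0) (b : B) :
    algebraMap A B t * b = 0 ↔ b ∈ J := by
  constructor
  · intro h
    refine mem_map_of_relation (fun _ : Fin 1 => t) (maximalIdeal A) 0 (fun a ha => ?_) (fun _ => b)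
      (by simpa [Algebra.smul_def] using h)
    by_contra hu
    simp only [Finset.univ_unique, Fin.default_eq_zero, Finset.sum_singleton] at ha
    exact ht0 ((IsUnit.mul_left_eq_zero (IsLocalRing.notMem_maximalIdeal.mp hu)).mp ha)
  · intro h
    refine Submodule.span_induction ?_ (mul_zero _) (fun x y _ _ hx hy => by rw [mul_add, hx, hy, add_zero])
      (fun c x _ hx => by rw [smul_eq_mul, mul_left_comm, hx, mul_zero]) h
    rintro _ ⟨r, hr, rfl⟩
    rw [← map_mul, mul_comm, ht r hr, map_zero]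

/-- If `B` has simple socle and the fibre is artinian, so do `A` and the fibre. -/
theorem simpleSocle_of_top [IsArtinianRing A] [IsArtinianRing (B ⧸ J)] [IsLocalRing (B ⧸ J)]
    (h : SimpleSocle B) : SimpleSocle A ∧ SimpleSocle (B ⧸ J) := by
  obtain ⟨T, hT0, hTm, hTx⟩ := h
  obtain ⟨t, ht0, ht⟩ := exists_socle_ne_zero (R := A)
  obtain ⟨v, hv0, hv⟩ := exists_socle_ne_zero (R := B ⧸ J)
  obtain ⟨u, rfl⟩ := Ideal.Quotient.mk_surjective v
  have hmax : ∀ r ∈ maximalIdeal B, Ideal.Quotient.mk J r ∈ maximalIdeal (B ⧸ J) := fun r hr => by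
    haveI : IsLocalHom (Ideal.Quotient.mk J) := .of_surjective _ Ideal.Quotient.mk_surjective
    exact map_nonunit _ r hr
  have hmul : ∀ (s : A), (∀ r ∈ maximalIdeal A, r * s = 0) → ∀ x : B,
      (∀ r ∈ maximalIdeal (B ⧸ J), r * Ideal.Quotient.mk J x = 0) →
      ∀ r ∈ maximalIdeal B, r * (algebraMap A B s * x) = 0 := by
    intro s hs x hx r hr
    by_cases hs0 : s = 0
    · rw [hs0, map_zero, zero_mul, mul_zero]
    rw [mul_left_comm]
    refine (mul_socle_eq_zero_iff hs0 hs _).mpr (Ideal.Quotient.eq_zero_iff_mem.mp ?_)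
    rw [map_mul]
    exact hx _ (hmax r hr)
  obtain ⟨c, hc⟩ := hTx _ (hmul t ht u hv)
  have hcu : IsUnit c := by
    by_contra hcm
    rw [hTm c hcm] at hc
    exact hv0 (Ideal.Quotient.eq_zero_iff_mem.mpr ((mul_socle_eq_zero_iff ht0 ht u).mp hc))
  obtain ⟨c, rfl⟩ := hcu
  have hT : T = (↑c⁻¹ : B) * (algebraMap A B t * u) := by rw [hc, ← mul_assoc, Units.inv_mul, one_mul]
  constructor
  · refine ⟨t, ht0, ht, fun x hx => ?_⟩
    by_contra hnot
    push Not at hnot
    obtain ⟨d, hd⟩ := hTx _ (hmul x hx u hv)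
    -- a relation between `t` and `x`
    have hrel : ∀ a : Fin 2 → A, ∑ i, ![t, x] i * a i = 0 → a 1 ∈ maximalIdeal A := by
      intro a ha
      by_contra hu
      obtain ⟨e, he⟩ := IsLocalRing.notMem_maximalIdeal.mp hu
      simp only [Fin.sum_univ_two, Matrix.cons_val_zero, Matrix.cons_val_one] at ha
      refine hnot (-(a 0) * (↑e⁻¹ : A)) ?_
      rw [← he] at ha
      linear_combination (↑e⁻¹ : A) * ha - x * e.inv_mul
    have := mem_map_of_relation ![t, x] (maximalIdeal A) 1 hrel ![-(d * ↑c⁻¹) * u, u] (by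
      simp only [Fin.sum_univ_two, Matrix.cons_val_zero, Matrix.cons_val_one, Algebra.smul_def]
      rw [hd, hT]; ring)
    exact hv0 (Ideal.Quotient.eq_zero_iff_mem.mpr this)
  · refine ⟨Ideal.Quotient.mk J u, hv0, hv, fun q hq => ?_⟩
    obtain ⟨w, rfl⟩ := Ideal.Quotient.mk_surjective q
    obtain ⟨d, hd⟩ := hTx _ (hmul t ht w hq)
    refine ⟨Ideal.Quotient.mk J (d * ↑c⁻¹), ?_⟩
    rw [← map_mul, Ideal.Quotient.eq]
    refine (mul_socle_eq_zero_iff ht0 ht _).mp ?_
    rw [mul_sub, hd, hT]; ring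

/-- If `A` and the fibre have simple socle, so does `B`. -/
theorem simpleSocle_of_base [IsNoetherianRing A] [IsLocalRing (B ⧸ J)]
    (hA : SimpleSocle A) (hF : SimpleSocle (B ⧸ J)) : SimpleSocle B := by
  obtain ⟨t, ht0, htm, htx⟩ := hA
  obtain ⟨v, hv0, hv, hvx⟩ := hF
  obtain ⟨u, rfl⟩ := Ideal.Quotient.mk_surjective v
  haveI : IsLocalHom (Ideal.Quotient.mk J) := .of_surjective _ Ideal.Quotient.mk_surjective
  refine ⟨algebraMap A B t * u, fun h => hv0 (Ideal.Quotient.eq_zero_iff_mem.mpr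
    ((mul_socle_eq_zero_iff ht0 htm u).mp h)), fun r hr => ?_, fun x hx => ?_⟩
  · rw [mul_left_comm]
    refine (mul_socle_eq_zero_iff ht0 htm _).mpr (Ideal.Quotient.eq_zero_iff_mem.mp ?_)
    rw [map_mul]
    exact hv _ (map_nonunit _ r hr)
  · obtain ⟨S, hS⟩ := IsNoetherian.noetherian (maximalIdeal A)
    obtain ⟨n, c, y, hc, rfl⟩ := mem_map_annihilator S x fun a ha =>
      hx _ (map_nonunit (algebraMap A B) a (hS ▸ Submodule.subset_span ha))
    have hc' : ∀ j, ∃ e, c j = e * t := fun j => htx (c j) fun r hr => by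
      rw [← hS] at hr
      refine Submodule.span_induction (fun a ha => hc j a ha) (zero_mul _)
        (fun p q _ _ hp hq => by rw [add_mul, hp, hq, add_zero]) (fun p q _ hq => by rw [smul_eq_mul, mul_assoc, hq, mul_zero]) hr
    choose e he using hc'
    have hxt : ∑ j, c j • y j = algebraMap A B t * ∑ j, algebraMap A B (e j) * y j := by
      rw [Finset.mul_sum]
      exact Finset.sum_congr rfl fun j _ => by rw [Algebra.smul_def, he, map_mul]; ring
    obtain ⟨d, hd⟩ := hvx (Ideal.Quotient.mk J (∑ j, algebraMap A B (e j) * y j)) fun q hq => by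
      obtain ⟨r, rfl⟩ := Ideal.Quotient.mk_surjective q
      rw [← map_mul, Ideal.Quotient.eq_zero_iff_mem]
      refine (mul_socle_eq_zero_iff ht0 htm _).mp ?_
      rw [mul_left_comm, ← hxt]
      exact hx r (fun hru => hq (hru.map (Ideal.Quotient.mk J)))
    obtain ⟨d, rfl⟩ := Ideal.Quotient.mk_surjective d
    rw [← map_mul, Ideal.Quotient.eq] at hd
    refine ⟨d, ?_⟩
    rw [hxt]
    have := (mul_socle_eq_zero_iff ht0 htm _).mpr hd
    linear_combination this

end Flat

end Groth.Agent.GorLib
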