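import Mathlib
import Groth.Prelude.Def_CAlg
import Groth.Agent.GorLib.ChangeRings

/-! The Gorenstein property is invariant under ring isomorphisms. -/

set_option autoImplicit false
universe u

namespace Groth.Agent.GorLib

open CategoryTheory Abelian

theorem injective_of_ringEquiv {R S : Type u} [CommRing R] [CommRing S] (e : R ≃+* S) (M : Type u) [AddCommGroup M]
    [Module R M] [hM : Module.Injective R M] [Module S M] (he : ∀ (r : R) (m : M), e r • m = r • m) :
    Module.Injective S M := by
  refine ⟨fun X Y _ _ _ _ j hj g => ?_⟩
  letI : Module R X := Module.compHom X e.toRingHom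
  letI : Module R Y := Module.compHom Y e.toRingHom
  let j' : X →ₗ[R] Y := { toFun := j, map_add' := j.map_add, map_smul' := fun r x => j.map_smul (e r) x }
  let g' : X →ₗ[R] M := { toFun := g, map_add' := g.map_add, map_smul' := fun r x => (g.map_smul (e r) x).trans (he r _) }
  obtain ⟨h, hh⟩ := hM.out j' hj g'
  refine ⟨{ toFun := h, map_add' := h.map_add, map_smul' := fun s y => ?_ }, hh⟩
  obtain ⟨r, rfl⟩ := e.surjective s
  exact (h.map_smul r y).trans (he r _).symm

theorem hasInjectiveDimensionLT_of_ringEquiv {R S : Type u} [CommRing R] [CommRing S] (e : R ≃+* S) :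
    ∀ (n : ℕ) (M : Type u) [AddCommGroup M] [Module R M] [Module S M],
      (∀ (r : R) (m : M), e r • m = r • m) →
      HasInjectiveDimensionLT (ModuleCat.of R M) (n + 1) → HasInjectiveDimensionLT (ModuleCat.of S M) (n + 1) := by
  intro n
  induction n with
  | zero =>
    intro M _ _ _ he h
    haveI : Injective (ModuleCat.of R M) := injective_iff_hasInjectiveDimensionLT_one.2 h
    haveI := Module.injective_module_of_injective_object R M
    haveI := injective_of_ringEquiv e M he
    haveI : Injective (ModuleCat.of S M) := Module.injective_object_of_injective_module S M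
    exact injective_iff_hasInjectiveDimensionLT_one.1 this
  | succ n ih =>
    intro M _ _ _ he h
    obtain ⟨E, _, _, j, hE, hj⟩ := exists_injective_seq (A := R) M
    letI : Module S E := Module.compHom E e.symm.toRingHom
    have heE : ∀ (r : R) (x : E), e r • x = r • x := fun r x => by
      show e.symm (e r) • x = r • x
      rw [e.symm_apply_apply]
    let jS : M →ₗ[S] E :=
      { toFun := j
        map_add' := j.map_add
        map_smul' := fun s x => by
          obtain ⟨r, rfl⟩ := e.surjective s
          simp only [RingHom.id_apply, he, heE, map_smul] }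
    haveI := injective_of_ringEquiv e E heE
    haveI : Injective (ModuleCat.of R E) := Module.injective_object_of_injective_module R E
    haveI : Injective (ModuleCat.of S E) := Module.injective_object_of_injective_module S E
    letI : Module S (E ⧸ LinearMap.range j) := Module.compHom _ e.symm.toRingHom
    have heQ : ∀ (r : R) (x : E ⧸ LinearMap.range j), e r • x = r • x := fun r x => by
      show e.symm (e r) • x = r • x
      rw [e.symm_apply_apply]
    let qS : E →ₗ[S] E ⧸ LinearMap.range j :=
      { toFun := (LinearMap.range j).mkQ
        map_add' := map_add _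
        map_smul' := fun s x => by
          obtain ⟨r, rfl⟩ := e.surjective s
          simp only [RingHom.id_apply, heQ, heE, map_smul] }
    have hR := shortExact_mkQ j (LinearMap.range j).mkQ hj (Submodule.mkQ_surjective _) (LinearMap.exact_map_mkQ_range j)
    have hS := shortExact_mkQ jS qS hj (Submodule.mkQ_surjective _) (LinearMap.exact_map_mkQ_range j)
    exact (hS.hasInjectiveDimensionLT_X₃_iff n inferInstance).mp
      (ih _ heQ ((hR.hasInjectiveDimensionLT_X₃_iff n inferInstance).mpr h))

theorem gorenstein_of_ringEquiv {R S : Type u} [CommRing R] [CommRing S] (e : R ≃+* S)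
    (h : LocCoh.IsGorensteinLocalRing R) : LocCoh.IsGorensteinLocalRing S := by
  haveI := h.toIsLocalRing
  haveI : IsNoetherianRing R := by haveI := h; infer_instance
  obtain ⟨n, hn⟩ := h.exists_hasInjectiveDimensionLT
  haveI : IsLocalRing S := e.isLocalRing
  haveI : IsNoetherianRing S := isNoetherianRing_of_ringEquiv R e
  letI : Module R S := Module.compHom S e.toRingHom
  let eRS : R ≃ₗ[R] S := { e.toAddEquiv with map_smul' := fun a b => map_mul e a b }
  haveI : HasInjectiveDimensionLT (ModuleCat.of R R) (n + 1) := hasInjectiveDimensionLT_of_ge _ n _ (Nat.le_succ n)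
  have hS := hasInjectiveDimensionLT_of_iso eRS.toModuleIso (n + 1)
  exact { exists_hasInjectiveDimensionLT :=
    ⟨n + 1, hasInjectiveDimensionLT_of_ringEquiv e n S (fun _ _ => rfl) hS⟩ }

theorem gorenstein_iff_ringEquiv {R S : Type u} [CommRing R] [CommRing S] (e : R ≃+* S) :
    LocCoh.IsGorensteinLocalRing R ↔ LocCoh.IsGorensteinLocalRing S :=
  ⟨gorenstein_of_ringEquiv e, gorenstein_of_ringEquiv e.symm⟩

end Groth.Agent.GorLib
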