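import Mathlib
import Groth.Agent.GorLib.Transport
import Groth.Agent.GorLib.Artinian
import Groth.Agent.LocFlat.Fibre

/-! The Gorenstein property along flat local homomorphisms. -/

set_option autoImplicit false
universe u

namespace Groth.Agent.GorLib

open CategoryTheory Abelian IsLocalRing

/-- `B / I B` is flat over `A / I`. -/
theorem flat_quot_map {A B : Type u} [CommRing A] [CommRing B] [Algebra A B] [Module.Flat A B] (I : Ideal A) :
    Module.Flat (A ⧸ I) (B ⧸ I.map (algebraMap A B)) := by
  haveI : IsScalarTower A (A ⧸ I) (B ⧸ I.map (algebraMap A B)) := IsScalarTower.of_algebraMap_eq fun _ => rfl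
  exact Module.Flat.of_linearEquiv ((((Algebra.TensorProduct.quotIdealMapEquivTensorQuot B I).toLinearEquiv.restrictScalars A).trans
    (TensorProduct.comm A B (A ⧸ I))).extendScalarsOfSurjective Ideal.Quotient.mk_surjective)

theorem isLocalHom_of_comp {A B C : Type u} [CommRing A] [CommRing B] [CommRing C] [IsLocalRing B] [Nontrivial C]
    (f : A →+* B) [IsLocalHom f] (g : B →+* C) (hg : Function.Surjective g) : IsLocalHom (g.comp f) := by
  haveI : IsLocalHom g := .of_surjective g hg
  exact RingHom.isLocalHom_comp g f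

section

variable {A B : Type u} [CommRing A] [CommRing B] [IsLocalRing A] [IsLocalRing B] [IsNoetherianRing A]
  [IsNoetherianRing B] [Algebra A B] [IsLocalHom (algebraMap A B)] [Module.Flat A B]

local notation "J" => Ideal.map (algebraMap A B) (maximalIdeal A)

theorem isLocalRing_fibre : IsLocalRing (B ⧸ J) := by
  haveI : Nontrivial (B ⧸ J) := Ideal.Quotient.nontrivial_iff.mpr fun h =>
    (maximalIdeal.isMaximal B).ne_top (top_le_iff.mp (h ▸ map_maximal_le))
  exact IsLocalRing.of_surjective' (Ideal.Quotient.mk _) Ideal.Quotient.mk_surjective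

theorem dim_quot_le {n : ℕ} (hn : ringKrullDim B ≤ n) {f : B} (hf : f ∈ maximalIdeal B) (hreg : IsSMulRegular B f) :
    ∃ k, k < n ∧ ringKrullDim (B ⧸ Ideal.span ({f} : Set B)) ≤ k := by
  have hdim := ringKrullDim_quotient_span_singleton_succ_eq_ringKrullDim hreg hf
  haveI := isLocalRing_quot_span hf
  rw [← hdim] at hn
  have hn0 : n ≠ 0 := by
    rintro rfl
    have h0 : (0 : WithBot ℕ∞) ≤ ringKrullDim (B ⧸ Ideal.span ({f} : Set B)) := ringKrullDim_nonneg_of_nontrivial
    have := (add_le_add_left h0 1).trans hn
    norm_num at this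
  obtain ⟨k, rfl⟩ := Nat.exists_eq_succ_of_ne_zero hn0
  exact ⟨k, Nat.lt_succ_self k, ENat.WithBot.add_le_add_one_right_iff.mp (by exact_mod_cast hn)⟩

theorem regular_top_of_base {f : A} (hreg : IsSMulRegular A f) : IsSMulRegular B (algebraMap A B f) := by
  intro x y hxy
  have := hreg.of_flat (S := B)
  exact this (by simpa using hxy)

theorem isArtinianRing_of_top [IsArtinianRing B] : IsArtinianRing A := by
  haveI := Module.FaithfullyFlat.of_flat_of_isLocalHom (A := A) (B := B)
  have hinj : Function.Injective (algebraMap A B) := FaithfulSMul.algebraMap_injective A B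
  obtain ⟨K, hK⟩ : IsNilpotent (maximalIdeal B) := by
    have := IsArtinianRing.isNilpotent_jacobson_bot (R := B)
    rwa [IsLocalRing.jacobson_eq_maximalIdeal ⊥ bot_ne_top] at this
  rw [isArtinianRing_iff_krullDimLE_zero]
  refine Ring.KrullDimLE.mk₀ fun I hI => ?_
  have : maximalIdeal A ≤ I := fun a ha => by
    have h : algebraMap A B a ^ K = 0 := by
      have := Ideal.pow_mem_pow (map_nonunit (algebraMap A B) a ha) K
      rwa [hK, Ideal.zero_eq_bot, Submodule.mem_bot] at this
    refine hI.mem_of_pow_mem K ?_
    have h0 : a ^ K = 0 := hinj (by rw [map_pow, h, map_zero])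
    rw [h0]; exact zero_mem I
  rw [le_antisymm (IsLocalRing.le_maximalIdeal hI.ne_top) this]
  infer_instance

theorem isArtinianRing_of_base [IsArtinianRing A] [IsArtinianRing (B ⧸ J)] : IsArtinianRing B := by
  haveI := isLocalRing_fibre (A := A) (B := B)
  obtain ⟨K, hK⟩ : IsNilpotent (maximalIdeal A) := by
    have := IsArtinianRing.isNilpotent_jacobson_bot (R := A)
    rwa [IsLocalRing.jacobson_eq_maximalIdeal ⊥ bot_ne_top] at this
  rw [isArtinianRing_iff_krullDimLE_zero]
  refine Ring.KrullDimLE.mk₀ fun I hI => ?_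
  have hJ : J ≤ I := by
    refine Ideal.IsPrime.le_of_pow_le (n := K) ?_
    rw [← Ideal.map_pow, hK]
    simp
  haveI : (I.map (Ideal.Quotient.mk J)).IsPrime :=
    Ideal.map_isPrime_of_surjective Ideal.Quotient.mk_surjective (by rwa [Ideal.mk_ker])
  haveI := IsArtinianRing.isMaximal_of_isPrime (I.map (Ideal.Quotient.mk J))
  have := Ideal.comap_isMaximal_of_surjective (Ideal.Quotient.mk J) Ideal.Quotient.mk_surjective
    (K := I.map (Ideal.Quotient.mk J))
  rwa [Ideal.comap_map_of_surjective _ Ideal.Quotient.mk_surjective, ← RingHom.ker_eq_comap_bot, Ideal.mk_ker,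
    sup_eq_left.mpr hJ] at this

end

theorem flat_local_iff : ∀ (n : ℕ) (A B : Type u) [CommRing A] [CommRing B] [IsLocalRing A] [IsLocalRing B]
    [IsNoetherianRing A] [IsNoetherianRing B] [Algebra A B] [IsLocalHom (algebraMap A B)] [Module.Flat A B],
    ringKrullDim B ≤ n → (LocCoh.IsGorensteinLocalRing B ↔ (LocCoh.IsGorensteinLocalRing A ∧
      LocCoh.IsGorensteinLocalRing (B ⧸ (maximalIdeal A).map (algebraMap A B)))) := by
  intro n
  induction n using Nat.strong_induction_on with
  | _ n ih =>
    intro A B _ _ _ _ _ _ _ _ _ hn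
    haveI := isLocalRing_fibre (A := A) (B := B)
    rcases exists_embedding_or_regular A with ⟨sA, hsA⟩ | ⟨f, hf, hreg⟩
    swap
    · -- a regular element in the base
      have hfB : algebraMap A B f ∈ maximalIdeal B := map_nonunit (algebraMap A B) f hf
      have hregB := regular_top_of_base (B := B) hreg
      obtain ⟨k, hk, hdim⟩ := dim_quot_le hn hfB hregB
      have hmap : (Ideal.span ({f} : Set A)).map (algebraMap A B) = Ideal.span {algebraMap A B f} := by
        rw [Ideal.map_span, Set.image_singleton]
      rw [← hmap] at hdim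
      haveI := isLocalRing_quot_span hf
      haveI : IsLocalRing (B ⧸ (Ideal.span ({f} : Set A)).map (algebraMap A B)) := by
        rw [hmap]; exact isLocalRing_quot_span hfB
      haveI := flat_quot_map (B := B) (Ideal.span ({f} : Set A))
      haveI : IsLocalHom (algebraMap (A ⧸ Ideal.span ({f} : Set A)) (B ⧸ (Ideal.span ({f} : Set A)).map (algebraMap A B))) := by
        refine ⟨fun a ha => ?_⟩
        obtain ⟨r, rfl⟩ := Ideal.Quotient.mk_surjective a
        haveI : IsLocalHom (Ideal.Quotient.mk ((Ideal.span ({f} : Set A)).map (algebraMap A B))) :=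
          .of_surjective _ Ideal.Quotient.mk_surjective
        exact (isUnit_of_map_unit (algebraMap A B) r
          (isUnit_of_map_unit (Ideal.Quotient.mk ((Ideal.span ({f} : Set A)).map (algebraMap A B))) _ ha)).map _
      have key := ih k hk (A ⧸ Ideal.span ({f} : Set A)) (B ⧸ (Ideal.span ({f} : Set A)).map (algebraMap A B)) hdim
      have hJmap : (maximalIdeal (A ⧸ Ideal.span ({f} : Set A))).map
          (algebraMap (A ⧸ Ideal.span ({f} : Set A)) (B ⧸ (Ideal.span ({f} : Set A)).map (algebraMap A B))) =
          ((maximalIdeal A).map (algebraMap A B)).map (Ideal.Quotient.mk _) := by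
        rw [← IsLocalRing.map_maximalIdeal_of_surjective (Ideal.Quotient.mk (Ideal.span ({f} : Set A)))
          Ideal.Quotient.mk_surjective, Ideal.map_map, Ideal.map_map]
        congr 1
      rw [gorenstein_quot_iff A f hf hreg, gorenstein_quot_iff B _ hfB hregB,
        gorenstein_iff_ringEquiv (Ideal.quotEquivOfEq hmap.symm), key,
        gorenstein_iff_ringEquiv ((Ideal.quotEquivOfEq hJmap).trans (DoubleQuot.quotQuotEquivQuotOfLE
          (Ideal.map_mono ((Ideal.span_singleton_le_iff_mem _).mpr hf))))]
    rcases exists_embedding_or_regular (B ⧸ (maximalIdeal A).map (algebraMap A B)) with ⟨sF, hsF⟩ | ⟨g, hg, hregg⟩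
    swap
    · -- a regular element in the fibre
      obtain ⟨f, rfl⟩ := Ideal.Quotient.mk_surjective g
      have hfB : f ∈ maximalIdeal B := by
        by_contra hu
        exact hg ((IsLocalRing.notMem_maximalIdeal.mp hu).map _)
      obtain ⟨hflat, hnzd⟩ := LocFlat.flat_quotient_and_regular (R := A) f (by
        refine mem_nonZeroDivisors_iff_right.mpr fun x hx => hregg ?_
        simpa [mul_comm] using hx)
      have hregB : IsSMulRegular B f := fun a b hab => (mul_cancel_left_mem_nonZeroDivisors hnzd).mp hab
      obtain ⟨k, hk, hdim⟩ := dim_quot_le hn hfB hregB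
      haveI := isLocalRing_quot_span hfB
      haveI := hflat
      haveI : IsLocalHom (algebraMap A (B ⧸ Ideal.span ({f} : Set B))) :=
        isLocalHom_of_comp (algebraMap A B) (Ideal.Quotient.mk _) Ideal.Quotient.mk_surjective
      have key := ih k hk A (B ⧸ Ideal.span ({f} : Set B)) hdim
      have hJmap : (maximalIdeal A).map (algebraMap A (B ⧸ Ideal.span ({f} : Set B))) =
          ((maximalIdeal A).map (algebraMap A B)).map (Ideal.Quotient.mk _) := by
        rw [Ideal.map_map]; rfl
      have hspan : (Ideal.span ({f} : Set B)).map (Ideal.Quotient.mk ((maximalIdeal A).map (algebraMap A B))) =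
          Ideal.span {Ideal.Quotient.mk ((maximalIdeal A).map (algebraMap A B)) f} := by
        rw [Ideal.map_span, Set.image_singleton]
      rw [gorenstein_quot_iff B f hfB hregB, key, gorenstein_quot_iff (B ⧸ _) _ hg hregg,
        gorenstein_iff_ringEquiv ((Ideal.quotEquivOfEq hJmap).trans
          ((DoubleQuot.quotQuotEquivComm _ _).trans (Ideal.quotEquivOfEq hspan)))]
    -- both of depth zero
    constructor
    · intro hB
      obtain ⟨t, ht0, ht⟩ : ∃ t : A, t ≠ 0 ∧ ∀ r ∈ maximalIdeal A, r * t = 0 :=
        ⟨sA 1, fun h1 => one_ne_zero (hsA (h1.trans (map_zero sA).symm)),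
          fun r hr => InjHullLib.smul_eq_zero_of_mem_range (LinearMap.mem_range_self sA 1) hr⟩
      obtain ⟨v, hv0, hv⟩ : ∃ v : B ⧸ (maximalIdeal A).map (algebraMap A B), v ≠ 0 ∧ ∀ r ∈ maximalIdeal _, r * v = 0 :=
        ⟨sF 1, fun h1 => one_ne_zero (hsF (h1.trans (map_zero sF).symm)),
          fun r hr => InjHullLib.smul_eq_zero_of_mem_range (LinearMap.mem_range_self sF 1) hr⟩
      obtain ⟨u, rfl⟩ := Ideal.Quotient.mk_surjective v
      have hkill : ∀ r ∈ maximalIdeal B, r * (algebraMap A B t * u) = 0 := fun r hr => by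
        rw [mul_left_comm]
        refine (mul_socle_eq_zero_iff ht0 ht _).mpr (Ideal.Quotient.eq_zero_iff_mem.mp ?_)
        rw [map_mul]
        haveI : IsLocalHom (Ideal.Quotient.mk ((maximalIdeal A).map (algebraMap A B))) :=
          .of_surjective _ Ideal.Quotient.mk_surjective
        exact hv _ (map_nonunit _ r hr)
      have hne : algebraMap A B t * u ≠ 0 := fun h0 =>
        hv0 (Ideal.Quotient.eq_zero_iff_mem.mpr ((mul_socle_eq_zero_iff ht0 ht u).mp h0))
      let sB : ResidueField B →ₗ[B] B := Submodule.liftQ (maximalIdeal B)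
        (LinearMap.toSpanSingleton B B (algebraMap A B t * u)) fun r hr => hkill r hr
      have hsB : Function.Injective sB := by
        rw [injective_iff_map_eq_zero]
        intro z hz
        obtain ⟨r, rfl⟩ := residue_surjective z
        by_contra hz0
        have hru : IsUnit r := by
          by_contra hr
          exact hz0 (Ideal.Quotient.eq_zero_iff_mem.mpr hr)
        exact hne ((IsUnit.mul_right_eq_zero hru).mp hz)
      haveI := isArtinian_of_embedding hB hsB
      haveI := isArtinianRing_of_top (A := A) (B := B)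
      obtain ⟨h1, h2⟩ := simpleSocle_of_top (A := A) (simpleSocle_of_gorenstein hB)
      exact ⟨gorenstein_of_simpleSocle h1, gorenstein_of_simpleSocle h2⟩
    · rintro ⟨hA, hF⟩
      haveI := isArtinian_of_embedding hA hsA
      haveI := isArtinian_of_embedding hF hsF
      haveI := isArtinianRing_of_base (A := A) (B := B)
      exact gorenstein_of_simpleSocle (simpleSocle_of_base (simpleSocle_of_gorenstein hA) (simpleSocle_of_gorenstein hF))

theorem gorenstein_flat_iff (A B : Type u) [CommRing A] [CommRing B] [IsLocalRing A] [IsLocalRing B]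
    [IsNoetherianRing A] [IsNoetherianRing B] [Algebra A B] [IsLocalHom (algebraMap A B)] [Module.Flat A B] :
    LocCoh.IsGorensteinLocalRing B ↔ (LocCoh.IsGorensteinLocalRing A ∧
      LocCoh.IsGorensteinLocalRing (B ⧸ (maximalIdeal A).map (algebraMap A B))) := by
  obtain ⟨d, hd⟩ := RegLocal.exists_nat_ringKrullDim B
  exact flat_local_iff d A B hd.le

end Groth.Agent.GorLib
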