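import Mathlib
import Groth.Agent.GorLib.Flat

/-! Gorenstein rings: localization, flat maps with Gorenstein fibres, polynomial rings, quotients. -/

set_option autoImplicit false
universe u

namespace Groth.Agent.GorLib

open CategoryTheory IsLocalRing TensorProduct

theorem gorensteinLocal_of_regular (R : Type u) [CommRing R] [IsRegularLocalRing R] : LocCoh.IsGorensteinLocalRing R := by
  obtain ⟨d, hd⟩ := RegLocal.exists_nat_ringKrullDim R
  refine (gorenstein_iff_ext R).mpr ⟨d + 1, fun i hi => ?_⟩
  haveI := RegLocal.finite_hasProjectiveDimensionLT d R hd (ResidueField R)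
  exact CategoryTheory.HasProjectiveDimensionLT.subsingleton _ (d + 1) i hi _

theorem gorensteinRing_of_regular (R : Type u) [CommRing R] [IsRegularRing R] : LocCoh.IsGorensteinRing R :=
  { isGorensteinLocalRing_localization := fun p _ => by
      haveI := isRegularRing_iff.mp ‹IsRegularRing R› p
      exact gorensteinLocal_of_regular _ }

theorem gorensteinRing_of_isLocalization {R : Type u} [CommRing R] [hR : LocCoh.IsGorensteinRing R] (M : Submonoid R)
    (S : Type u) [CommRing S] [Algebra R S] [IsLocalization M S] : LocCoh.IsGorensteinRing S := by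
  haveI : IsNoetherianRing S := IsLocalization.isNoetherianRing M S inferInstance
  refine { isGorensteinLocalRing_localization := fun P _ => ?_ }
  haveI : IsLocalization.AtPrime (Localization.AtPrime P) (P.comap (algebraMap R S)) :=
    IsLocalization.isLocalization_isLocalization_atPrime_isLocalization M _ P
  exact gorenstein_of_ringEquiv
    (IsLocalization.algEquiv (P.comap (algebraMap R S)).primeCompl
      (Localization.AtPrime (P.comap (algebraMap R S))) (Localization.AtPrime P)).toRingEquiv
    (hR.isGorensteinLocalRing_localization _)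

theorem gorensteinRing_of_ringEquiv {R S : Type u} [CommRing R] [CommRing S] (e : R ≃+* S)
    (h : LocCoh.IsGorensteinRing R) : LocCoh.IsGorensteinRing S := by
  haveI := h
  haveI : IsNoetherianRing S := isNoetherianRing_of_ringEquiv R e
  refine { isGorensteinLocalRing_localization := fun P _ => ?_ }
  exact gorenstein_of_ringEquiv
    (Localization.localRingEquiv (P.comap e.toRingHom) P e rfl) (h.isGorensteinLocalRing_localization _)

section Flat

variable {R S : Type u} [CommRing R] [CommRing S] [Algebra R S] [IsNoetherianRing R] [IsNoetherianRing S] [Module.Flat R S]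

/-- At a prime of the fibre over `p`, with image `r` in `S`. -/
theorem gorenstein_fiber_iff (p : Ideal R) [p.IsPrime] (q : Ideal (p.Fiber S)) [q.IsPrime]
    (r : Ideal S) [r.IsPrime] (hr : r = q.comap Algebra.TensorProduct.includeRight) :
    LocCoh.IsGorensteinLocalRing (Localization.AtPrime r) ↔
      LocCoh.IsGorensteinLocalRing (Localization.AtPrime p) ∧ LocCoh.IsGorensteinLocalRing (Localization.AtPrime q) := by
  subst hr
  haveI hlo : (q.comap (Algebra.TensorProduct.includeRight : S →ₐ[R] p.Fiber S)).LiesOver p := by
    refine ⟨(Ideal.over_def q p).trans ?_⟩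
    ext x
    simp only [Ideal.under_def, Ideal.mem_comap, AlgHom.commutes]
  letI := Localization.AtPrime.algebraOfLiesOver p (q.comap (Algebra.TensorProduct.includeRight : S →ₐ[R] p.Fiber S))
  haveI : Localization.AtPrime.IsLiesOverAlgebra p (q.comap (Algebra.TensorProduct.includeRight : S →ₐ[R] p.Fiber S)) := ⟨rfl⟩
  haveI : IsLocalHom (algebraMap (Localization.AtPrime p)
      (Localization.AtPrime (q.comap (Algebra.TensorProduct.includeRight : S →ₐ[R] p.Fiber S)))) := by
    rw [Localization.AtPrime.IsLiesOverAlgebra.algebraMap_eq]
    infer_instance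
  rw [gorenstein_flat_iff (Localization.AtPrime p)]
  refine and_congr_right fun _ => ?_
  have e1 : (maximalIdeal (Localization.AtPrime p)).map (algebraMap (Localization.AtPrime p)
      (Localization.AtPrime (q.comap (Algebra.TensorProduct.includeRight : S →ₐ[R] p.Fiber S)))) =
      p.map (algebraMap R _) := by
    rw [← Localization.AtPrime.map_eq_maximalIdeal, Ideal.map_map, ← IsScalarTower.algebraMap_eq]
  exact gorenstein_iff_ringEquiv ((Ideal.quotEquivOfEq e1).trans
    (Ideal.Fiber.localizationAlgEquivQuotient p q).toRingEquiv.symm)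

/-- A flat algebra over a Gorenstein ring with Gorenstein fibres is Gorenstein. -/
theorem gorensteinRing_of_flat_fibres (hR : ∀ P : Ideal S, ∀ _ : P.IsPrime,
      LocCoh.IsGorensteinLocalRing (Localization.AtPrime (P.under R)))
    (hF : ∀ (p : Ideal R) [p.IsPrime], LocCoh.IsGorensteinRing (p.Fiber S)) : LocCoh.IsGorensteinRing S := by
  refine { isGorensteinLocalRing_localization := fun P _ => ?_ }
  let Q := PrimeSpectrum.primesOverOrderIsoFiber R S (P.under R) ⟨P, ⟨inferInstance, ⟨rfl⟩⟩⟩
  have hQ : P = Q.asIdeal.comap Algebra.TensorProduct.includeRight := by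
    have := PrimeSpectrum.coe_primesOverOrderIsoFiber_symm_apply (R := R) (S := S) (P.under R) Q
    rw [OrderIso.symm_apply_apply] at this
    exact this
  exact (gorenstein_fiber_iff (P.under R) Q.asIdeal P hQ).mpr
    ⟨hR P inferInstance, (hF (P.under R)).isGorensteinLocalRing_localization _⟩

end Flat

theorem gorensteinRing_polynomial (R : Type u) [CommRing R] [hR : LocCoh.IsGorensteinRing R] :
    LocCoh.IsGorensteinRing (Polynomial R) := by
  refine gorensteinRing_of_flat_fibres (R := R) (fun P _ => hR.isGorensteinLocalRing_localization _) fun p _ => ?_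
  exact gorensteinRing_of_ringEquiv (polyEquivTensor R p.ResidueField).toRingEquiv (gorensteinRing_of_regular _)

theorem gorensteinRing_quot (R : Type u) [CommRing R] [hR : LocCoh.IsGorensteinRing R] (f : R)
    (hf : IsSMulRegular R f) : LocCoh.IsGorensteinRing (R ⧸ Ideal.span ({f} : Set R)) := by
  refine { isGorensteinLocalRing_localization := fun P _ => ?_ }
  let p := P.comap (Ideal.Quotient.mk (Ideal.span ({f} : Set R)))
  haveI : P.LiesOver p := ⟨rfl⟩
  have hfp : f ∈ p := by
    show Ideal.Quotient.mk _ f ∈ P
    rw [Ideal.Quotient.eq_zero_iff_mem.mpr (Ideal.mem_span_singleton_self f)]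
    exact P.zero_mem
  have hfm : algebraMap R (Localization.AtPrime p) f ∈ maximalIdeal (Localization.AtPrime p) := by
    rw [← Localization.AtPrime.map_eq_maximalIdeal]; exact Ideal.mem_map_of_mem _ hfp
  have hG := (gorenstein_quot_iff (Localization.AtPrime p) _ hfm
    (hf.of_isLocalization (Localization.AtPrime p) p.primeCompl)).mp (hR.isGorensteinLocalRing_localization p)
  have hmap : Ideal.span ({algebraMap R (Localization.AtPrime p) f} : Set _) =
      (Ideal.span ({f} : Set R)).map (algebraMap R (Localization.AtPrime p)) := by
    rw [Ideal.map_span, Set.image_singleton]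
  have hsub : Algebra.algebraMapSubmonoid (R ⧸ Ideal.span ({f} : Set R)) p.primeCompl = P.primeCompl :=
    Ideal.algebraMapSubmonoid_primeCompl_of_liesOver_surjective P p Ideal.Quotient.mk_surjective
  haveI : IsLocalization (Algebra.algebraMapSubmonoid (R ⧸ Ideal.span ({f} : Set R)) p.primeCompl)
      (Localization.AtPrime P) := by rw [hsub]; infer_instance
  exact gorenstein_of_ringEquiv ((Ideal.quotEquivOfEq hmap).trans
    (IsLocalization.algEquiv (Algebra.algebraMapSubmonoid (R ⧸ Ideal.span ({f} : Set R)) p.primeCompl)
      _ (Localization.AtPrime P)).toRingEquiv) hG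

end Groth.Agent.GorLib
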