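import Mathlib
import Groth.Agent.GorLib.Ring
import Groth.Agent.InjHullLib.Noetherian
import Groth.Agent.Depth.FlatLocal

/-! Injective dimension is local; injective dimension of a Gorenstein local ring is its dimension. -/

set_option autoImplicit false
universe u

namespace Groth.Agent.GorLib

open CategoryTheory Abelian IsLocalRing

variable {A : Type u} [CommRing A]

theorem injective_over_localization (S : Submonoid A) [IsNoetherianRing A] (E : Type u) [AddCommGroup E] [Module A E]
    [Module.Injective A E] : Module.Injective (Localization S) (LocalizedModule S E) := by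
  have hA := InjHullLib.injective_localizedModule (R := A) S E
  refine ⟨fun X Y _ _ _ _ j hj g => ?_⟩
  letI : Module A X := Module.compHom X (algebraMap A (Localization S))
  letI : Module A Y := Module.compHom Y (algebraMap A (Localization S))
  haveI : IsScalarTower A (Localization S) X := IsScalarTower.of_algebraMap_smul fun _ _ => rfl
  haveI : IsScalarTower A (Localization S) Y := IsScalarTower.of_algebraMap_smul fun _ _ => rfl
  obtain ⟨h, hh⟩ := hA.out (j.restrictScalars A) hj (g.restrictScalars A)
  exact ⟨h.extendScalarsOfIsLocalization S (Localization S), hh⟩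

/-- A module with injective localizations at all primes is injective. -/
theorem injective_of_localizations [IsNoetherianRing A] (M : Type u) [AddCommGroup M] [Module A M]
    (h : ∀ p : PrimeSpectrum A, Module.Injective (Localization.AtPrime p.asIdeal) (LocalizedModule p.asIdeal.primeCompl M)) :
    Module.Injective A M := by
  refine Module.Baer.injective fun I g => ?_
  -- the ideal of multipliers `a` for which `a • g` extends
  let J : Ideal A :=
    { carrier := {a | ∃ m : M, ∀ (x : A) (hx : x ∈ I), a • g ⟨x, hx⟩ = x • m}
      add_mem' := by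
        rintro a b ⟨m, hm⟩ ⟨m', hm'⟩
        exact ⟨m + m', fun x hx => by rw [add_smul, smul_add, hm x hx, hm' x hx]⟩
      zero_mem' := ⟨0, fun x hx => by rw [zero_smul, smul_zero]⟩
      smul_mem' := by
        rintro c a ⟨m, hm⟩
        exact ⟨c • m, fun x hx => by rw [smul_eq_mul, mul_smul, hm x hx, smul_comm]⟩ }
  suffices hJ : J = ⊤ by
    obtain ⟨m, hm⟩ := (Ideal.eq_top_iff_one J).mp hJ
    exact ⟨LinearMap.toSpanSingleton A M m, fun x hx => by
      rw [LinearMap.toSpanSingleton_apply, ← hm x hx, one_smul]⟩
  by_contra hJ
  obtain ⟨p, hp, hJp⟩ := Ideal.exists_le_maximal J hJ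
  haveI := hp.isPrime
  haveI := h ⟨p, inferInstance⟩
  -- extend the localized map
  let gS : LocalizedModule p.primeCompl I →ₗ[Localization.AtPrime p] LocalizedModule p.primeCompl M :=
    LocalizedModule.map p.primeCompl g
  let iS : LocalizedModule p.primeCompl I →ₗ[Localization.AtPrime p] LocalizedModule p.primeCompl A :=
    LocalizedModule.map p.primeCompl (Submodule.subtype I)
  obtain ⟨G, hG⟩ := Module.Injective.out iS (LocalizedModule.map_injective p.primeCompl I.subtype Subtype.val_injective) gS
  obtain ⟨⟨m, s⟩, hms⟩ := IsLocalizedModule.surj p.primeCompl (LocalizedModule.mkLinearMap p.primeCompl M)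
    (G (LocalizedModule.mk 1 1))
  have hloc : ∀ (x : A) (hx : x ∈ I), LocalizedModule.mkLinearMap p.primeCompl M ((s : A) • g ⟨x, hx⟩) =
      LocalizedModule.mkLinearMap p.primeCompl M (x • m) := by
    intro x hx
    have h1 := hG (LocalizedModule.mk ⟨x, hx⟩ 1)
    simp only [iS, gS, LocalizedModule.map_mk, Submodule.subtype_apply] at h1
    have h2 : G (LocalizedModule.mk x 1) = x • G (LocalizedModule.mk 1 1) := by
      have : (G.restrictScalars A) (x • LocalizedModule.mk (1 : A) 1) = x • (G.restrictScalars A) (LocalizedModule.mk 1 1) :=
        map_smul _ _ _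
      rw [LocalizedModule.smul'_mk, smul_eq_mul, mul_one] at this
      exact this
    rw [map_smul, map_smul, ← hms]
    show (s : A) • LocalizedModule.mk (g ⟨x, hx⟩) 1 = x • (s : A) • G (LocalizedModule.mk 1 1)
    rw [← h1, h2, smul_comm]
  -- clear denominators on generators
  obtain ⟨T, hT⟩ := (IsNoetherian.noetherian I)
  have hmem : ∀ x ∈ T, x ∈ I := fun x hx => hT ▸ Submodule.subset_span hx
  choose t ht using fun (x : T) => (IsLocalizedModule.eq_iff_exists p.primeCompl
    (LocalizedModule.mkLinearMap p.primeCompl M)).mp (hloc x.1 (hmem x.1 x.2))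
  have hin : ((∏ x, t x : p.primeCompl) : A) * (s : A) ∈ J := by
    refine ⟨((∏ x, t x : p.primeCompl) : A) • m, fun x hx => ?_⟩
    rw [mul_smul, smul_comm x]
    let L : I →ₗ[A] M := ((∏ x, t x : p.primeCompl) : A) • ((s : A) • g)
    let R' : I →ₗ[A] M := ((∏ x, t x : p.primeCompl) : A) • (LinearMap.toSpanSingleton A M m).comp I.subtype
    suffices hLR : L = R' by exact LinearMap.congr_fun hLR ⟨x, hx⟩
    have hgen : Submodule.span A (Set.range fun y : T => (⟨y.1, hmem y.1 y.2⟩ : I)) = ⊤ := by
      apply Submodule.map_injective_of_injective (f := I.subtype) Subtype.val_injective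
      rw [Submodule.map_span, Submodule.map_top, Submodule.range_subtype, ← Set.range_comp]
      refine Eq.trans ?_ hT
      congr 1
      ext z
      simp
    refine LinearMap.ext_on_range hgen fun y => ?_
    obtain ⟨c, hc⟩ := Finset.dvd_prod_of_mem t (Finset.mem_univ y)
    show ((∏ x, t x : p.primeCompl) : A) • ((s : A) • g _) = ((∏ x, t x : p.primeCompl) : A) • (y.1 • m)
    rw [hc, Submonoid.coe_mul, mul_comm (t y : A), mul_smul, mul_smul]
    exact congrArg ((c : A) • ·) (ht y)
  exact (p.primeCompl.mul_mem (∏ x, t x : p.primeCompl).2 s.2) (hJp hin)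

theorem hasInjectiveDimensionLT_iff_localizations [IsNoetherianRing A] : ∀ (n : ℕ) (M : Type u) [AddCommGroup M] [Module A M],
    HasInjectiveDimensionLT (ModuleCat.of A M) (n + 1) ↔ ∀ p : PrimeSpectrum A, HasInjectiveDimensionLT
      (ModuleCat.of (Localization.AtPrime p.asIdeal) (LocalizedModule p.asIdeal.primeCompl M)) (n + 1) := by
  intro n
  induction n with
  | zero =>
    intro M _ _
    rw [← injective_iff_hasInjectiveDimensionLT_one]
    constructor
    · intro h p
      haveI := Module.injective_module_of_injective_object A M
      haveI := injective_over_localization p.asIdeal.primeCompl M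
      rw [← injective_iff_hasInjectiveDimensionLT_one]
      exact Module.injective_object_of_injective_module _ _
    · intro h
      haveI := injective_of_localizations M fun p => by
        haveI := h p
        haveI : Injective (ModuleCat.of (Localization.AtPrime p.asIdeal) (LocalizedModule p.asIdeal.primeCompl M)) :=
          injective_iff_hasInjectiveDimensionLT_one.mpr (h p)
        exact Module.injective_module_of_injective_object _ _
      exact Module.injective_object_of_injective_module A M
  | succ n ih =>
    intro M _ _
    obtain ⟨E, _, _, j, hE, hj⟩ := exists_injective_seq (A := A) M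
    have hA := shortExact_mkQ j (LinearMap.range j).mkQ hj (Submodule.mkQ_surjective _) (LinearMap.exact_map_mkQ_range j)
    haveI : Injective (ModuleCat.of A E) := Module.injective_object_of_injective_module A E
    rw [← hA.hasInjectiveDimensionLT_X₃_iff n inferInstance, ih]
    refine forall_congr' fun p => ?_
    let S := p.asIdeal.primeCompl
    haveI := injective_over_localization S E
    haveI : Injective (ModuleCat.of (Localization S) (LocalizedModule S E)) := Module.injective_object_of_injective_module _ _
    have hS := shortExact_mkQ (LocalizedModule.map S j) (LocalizedModule.map S (LinearMap.range j).mkQ)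
      (LocalizedModule.map_injective S j hj) (LocalizedModule.map_surjective S _ (Submodule.mkQ_surjective _))
      (LocalizedModule.map_exact S j _ (LinearMap.exact_map_mkQ_range j))
    exact hS.hasInjectiveDimensionLT_X₃_iff n inferInstance

/-- A Gorenstein local ring of dimension `d` has injective dimension exactly `d`. -/
theorem injectiveDimension_local : ∀ (d : ℕ) (A : Type u) [CommRing A] [IsLocalRing A] [IsNoetherianRing A],
    LocCoh.IsGorensteinLocalRing A → ringKrullDim A ≤ d →
      HasInjectiveDimensionLT (ModuleCat.of A A) (d + 1) ∧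
        ∀ n : ℕ, HasInjectiveDimensionLT (ModuleCat.of A A) (n + 1) → ringKrullDim A ≤ n := by
  intro d
  induction d using Nat.strong_induction_on with
  | _ d ih =>
    intro A _ _ _ hG hd
    rcases exists_embedding_or_regular A with ⟨s, hs⟩ | ⟨f, hf, hreg⟩
    · haveI := selfInjective_of_embedding hG hs
      haveI := isArtinian_of_embedding hG hs
      haveI : Injective (ModuleCat.of A A) := Module.injective_object_of_injective_module A A
      refine ⟨hasInjectiveDimensionLT_of_ge _ 1 _ (by omega), fun n _ => ?_⟩
      exact (Ring.krullDimLE_iff.mp (inferInstance : Ring.KrullDimLE 0 A)).trans (by exact_mod_cast Nat.zero_le n)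
    · haveI := isLocalRing_quot_span hf
      have hdim := ringKrullDim_quotient_span_singleton_succ_eq_ringKrullDim hreg hf
      obtain ⟨k, hk, hdk⟩ := dim_quot_le hd hf hreg
      obtain ⟨h1, h2⟩ := ih k hk (A ⧸ Ideal.span ({f} : Set A)) ((gorenstein_quot_iff A f hf hreg).mp hG) hdk
      obtain ⟨e⟩ := residueFieldEquiv A (Ideal.span ({f} : Set A))
      constructor
      · refine hasInjectiveDimensionLT_of_residueField (ModuleCat.of A A) d fun i hi => ?_
        obtain ⟨i, rfl⟩ := Nat.exists_eq_add_of_le' (show 2 ≤ i by omega)
        haveI := (subsingleton_ext_quotient_iff f (ResidueField (A ⧸ Ideal.span ({f} : Set A))) hreg i).mpr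
          (HasInjectiveDimensionLT.subsingleton _ (k + 1) (i + 1) (by omega) _)
        exact ext_subsingleton_of_iso e.symm.toModuleIso _ _
      · intro n hn
        rcases n with _ | n
        · -- a self-injective ring has no regular non-units
          haveI : Injective (ModuleCat.of A A) := injective_iff_hasInjectiveDimensionLT_one.2 hn
          haveI := Module.injective_module_of_injective_object A A
          obtain ⟨g, hg⟩ := Module.Injective.out (f • LinearMap.id : A →ₗ[A] A) (fun a b hab => hreg hab)
            (LinearMap.id : A →ₗ[A] A)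
          have h11 : f * g 1 = 1 := by
            have h' := hg 1
            rw [LinearMap.smul_apply, LinearMap.id_apply, smul_eq_mul, ← smul_eq_mul f, map_smul, smul_eq_mul] at h'
            exact h'
          exact absurd (IsUnit.of_mul_eq_one (g 1) h11) hf
        · have hB : HasInjectiveDimensionLT (ModuleCat.of (A ⧸ Ideal.span ({f} : Set A)) (A ⧸ Ideal.span ({f} : Set A))) (n + 1) := by
            refine hasInjectiveDimensionLT_of_residueField _ n fun i hi => ?_
            obtain ⟨i, rfl⟩ := Nat.exists_eq_add_of_le' (show 1 ≤ i by omega)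
            haveI := HasInjectiveDimensionLT.subsingleton (ModuleCat.of A A) (n + 2) (i + 2) (by omega)
              (ModuleCat.of A (ResidueField A))
            exact (subsingleton_ext_quotient_iff f _ hreg i).mp (ext_subsingleton_of_iso e.toModuleIso _ _)
          rw [← hdim, Nat.cast_add, Nat.cast_one]
          exact add_le_add (h2 n hB) le_rfl

theorem hasInjectiveDimensionLT_self_iff (A : Type u) [CommRing A] [IsNoetherianRing A] :
    (∃ n : ℕ, HasInjectiveDimensionLT (ModuleCat.of A A) n) ↔ (LocCoh.IsGorensteinRing A ∧ ringKrullDim A < ⊤) := by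
  have he : ∀ (p : Ideal A) [p.IsPrime], Nonempty (ModuleCat.of (Localization.AtPrime p) (LocalizedModule p.primeCompl A) ≅
      ModuleCat.of (Localization.AtPrime p) (Localization.AtPrime p)) := fun p _ => ⟨(Depth.localizedSelfEquiv p).toModuleIso⟩
  constructor
  · rintro ⟨n, hn⟩
    have hn1 : HasInjectiveDimensionLT (ModuleCat.of A A) (n + 1) := hasInjectiveDimensionLT_of_ge _ n _ (Nat.le_succ n)
    have key : ∀ (p : Ideal A) [p.IsPrime],
        HasInjectiveDimensionLT (ModuleCat.of (Localization.AtPrime p) (Localization.AtPrime p)) (n + 1) := by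
      intro p hp
      haveI := (hasInjectiveDimensionLT_iff_localizations n A).mp hn1 ⟨p, hp⟩
      exact hasInjectiveDimensionLT_of_iso (he p).some _
    haveI hG : LocCoh.IsGorensteinRing A :=
      { isGorensteinLocalRing_localization := fun p _ => { exists_hasInjectiveDimensionLT := ⟨n + 1, key p⟩ } }
    refine ⟨hG, lt_of_le_of_lt ?_ (WithBot.coe_lt_coe.mpr (ENat.natCast_lt_top n))⟩
    refine ringKrullDim_le_iff_isMaximal_height_le (n : WithBot ℕ∞) |>.mpr fun m hm => ?_
    obtain ⟨d, hd⟩ := RegLocal.exists_nat_ringKrullDim (Localization.AtPrime m)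
    have := (injectiveDimension_local d (Localization.AtPrime m) (hG.isGorensteinLocalRing_localization m) hd.le).2 n (key m)
    rwa [IsLocalization.AtPrime.ringKrullDim_eq_height m (Localization.AtPrime m)] at this
  · rintro ⟨hG, hdim⟩
    obtain ⟨d, hd⟩ : ∃ d : ℕ, ringKrullDim A ≤ d := by
      rcases h : ringKrullDim A with _ | _ | d
      · exact ⟨0, bot_le⟩
      · exact absurd (h ▸ hdim) (lt_irrefl _)
      · exact ⟨d, le_rfl⟩
    refine ⟨d + 1, (hasInjectiveDimensionLT_iff_localizations d A).mpr fun p => ?_⟩
    have hdp : ringKrullDim (Localization.AtPrime p.asIdeal) ≤ d := by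
      rw [IsLocalization.AtPrime.ringKrullDim_eq_height p.asIdeal (Localization.AtPrime p.asIdeal)]
      exact Ideal.height_le_ringKrullDim_of_isPrime.trans hd
    haveI := (injectiveDimension_local d (Localization.AtPrime p.asIdeal) (hG.isGorensteinLocalRing_localization _) hdp).1
    exact hasInjectiveDimensionLT_of_iso (he p.asIdeal).some.symm _

end Groth.Agent.GorLib
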