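import Mathlib
import Groth.Agent.LocCohLib.MaxIdeal
import Groth.Agent.LocCohLib.Annihilated
import Groth.Agent.GorLib.ChangeRings
import Groth.Agent.InjHullLib.Basic

/-! Injective local cohomology controls the vanishing of `Ext(κ, M)`. -/

set_option autoImplicit false
universe u

namespace Groth.Agent.GorLib

open CategoryTheory Abelian IsLocalRing LocCohLib

variable {A : Type u} [CommRing A] [IsLocalRing A] [IsNoetherianRing A]

theorem hom_residueField_eq_zero {M : Type u} [AddCommGroup M] [Module A M]
    (h : DRing.torsionSub (maximalIdeal A) M = ⊥) (f : ResidueField A →ₗ[A] M) : f = 0 := by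
  refine LinearMap.ext fun z => ?_
  have : f z ∈ DRing.torsionSub (maximalIdeal A) M := ⟨1, fun a ha => by
    rw [pow_one] at ha
    rw [← map_smul, Algebra.smul_def, show algebraMap A (ResidueField A) a = 0 from
      Ideal.Quotient.eq_zero_iff_mem.mpr ha, zero_mul, map_zero]⟩
  rw [h, Submodule.mem_bot] at this
  exact this

theorem torsionSub_eq_bot_of_H0 (I : Ideal A) (M : Type u) [AddCommGroup M] [Module A M]
    (h : Subsingleton ((localCohomology I 0).obj (ModuleCat.of A M) : Type u)) : DRing.torsionSub I M = ⊥ := by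
  haveI : Subsingleton (DRing.torsionSub I M) := (h0Equiv I (ModuleCat.of A M)).symm.toEquiv.subsingleton
  exact Submodule.eq_bot_of_subsingleton

theorem subsingleton_H0_of_torsionSub (I : Ideal A) (M : Type u) [AddCommGroup M] [Module A M]
    (h : DRing.torsionSub I M = ⊥) : Subsingleton ((localCohomology I 0).obj (ModuleCat.of A M) : Type u) := by
  haveI : Subsingleton (DRing.torsionSub I (ModuleCat.of A M : Type u)) := by
    show Subsingleton (DRing.torsionSub I M)
    rw [h]; infer_instance
  exact (h0Equiv I (ModuleCat.of A M)).toEquiv.subsingleton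

/-- A torsion-free module sits in an injective torsion-free module; local cohomology shifts. -/
theorem exists_shift (M : Type u) [AddCommGroup M] [Module A M]
    (hM : DRing.torsionSub (maximalIdeal A) M = ⊥) :
    ∃ (C : Type u) (_ : AddCommGroup C) (_ : Module A C),
      (∀ i, Nonempty (((localCohomology (maximalIdeal A) i).obj (ModuleCat.of A C) : Type u) ≃ₗ[A]
        ((localCohomology (maximalIdeal A) (i + 1)).obj (ModuleCat.of A M) : Type u))) ∧
      ∀ i, Subsingleton (Ext (ModuleCat.of A (ResidueField A)) (ModuleCat.of A C) i) →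
        Subsingleton (Ext (ModuleCat.of A (ResidueField A)) (ModuleCat.of A M) (i + 1)) := by
  obtain ⟨E₀, _, _, j₀, hE₀, hj₀⟩ := exists_injective_seq (A := A) M
  let T := DRing.torsionSub (maximalIdeal A) E₀
  haveI := injective_torsionSub (maximalIdeal A) E₀
  obtain ⟨r, hr⟩ := Module.Injective.out T.subtype Subtype.val_injective (LinearMap.id : T →ₗ[A] T)
  let sec : (E₀ ⧸ T) →ₗ[A] E₀ := T.liftQ (LinearMap.id - T.subtype.comp r) fun x hx => by
    have := congrArg Subtype.val (hr ⟨x, hx⟩)
    simp only [LinearMap.id_apply, Submodule.subtype_apply] at this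
    rw [LinearMap.mem_ker, LinearMap.sub_apply, LinearMap.comp_apply, LinearMap.id_apply, Submodule.subtype_apply,
      this, sub_self]
  have hsec : T.mkQ ∘ₗ sec = LinearMap.id := by
    refine Submodule.linearMap_qext _ (LinearMap.ext fun x => ?_)
    simp [sec]
  haveI : Module.Injective A (E₀ ⧸ T) := InjHullLib.injective_of_retract (Q := E₀) sec T.mkQ hsec
  let j : M →ₗ[A] E₀ ⧸ T := T.mkQ ∘ₗ j₀
  have hj : Function.Injective j := by
    rw [injective_iff_map_eq_zero]
    intro x hx
    obtain ⟨n, hn⟩ := (Submodule.Quotient.mk_eq_zero T).mp hx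
    have : x ∈ DRing.torsionSub (maximalIdeal A) M := ⟨n, fun a ha => hj₀ (by rw [map_smul, map_zero]; exact hn a ha)⟩
    rwa [hM, Submodule.mem_bot] at this
  have hE : DRing.torsionSub (maximalIdeal A) (E₀ ⧸ T) = ⊥ := torsionSub_quot_eq_bot (maximalIdeal A) E₀
  refine ⟨(E₀ ⧸ T) ⧸ LinearMap.range j, inferInstance, inferInstance, ?_⟩
  have hS := shortExact_mkQ j (LinearMap.range j).mkQ hj (Submodule.mkQ_surjective _) (LinearMap.exact_map_mkQ_range j)
  haveI : Injective (ModuleCat.of A (E₀ ⧸ T)) := Module.injective_object_of_injective_module A (E₀ ⧸ T)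
  have hHE : ∀ i, Subsingleton ((localCohomology (maximalIdeal A) i).obj (ModuleCat.of A (E₀ ⧸ T)) : Type u) := by
    intro i
    cases i with
    | zero => exact subsingleton_H0_of_torsionSub _ _ hE
    | succ i => exact LocCohLib.subsingleton_of_injective i
  refine ⟨fun i => ⟨LinearEquiv.ofBijective (δ (maximalIdeal A) hS i) ⟨?_, ?_⟩⟩, fun i hC => ?_⟩
  · rw [injective_iff_map_eq_zero]
    intro z hz
    obtain ⟨w, rfl⟩ := exists_of_δ_eq_zero (maximalIdeal A) hS i z hz
    haveI := hHE i
    rw [Subsingleton.elim w 0, map_zero]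
  · intro z
    haveI := hHE (i + 1)
    exact exists_of_map_f_eq_zero (maximalIdeal A) hS i z (Subsingleton.elim _ _)
  · refine ⟨fun a b => ?_⟩
    have h0 : ∀ e : Ext (ModuleCat.of A (ResidueField A)) (ModuleCat.of A (E₀ ⧸ T)) (i + 1), e = 0 := fun e =>
      e.eq_zero_of_injective
    obtain ⟨x, hx⟩ := Ext.covariant_sequence_exact₁ (ModuleCat.of A (ResidueField A)) hS a (h0 _) rfl
    obtain ⟨y, hy⟩ := Ext.covariant_sequence_exact₁ (ModuleCat.of A (ResidueField A)) hS b (h0 _) rfl
    haveI : Subsingleton (Ext (ModuleCat.of A (ResidueField A)) (ModuleCat.of A ((E₀ ⧸ T) ⧸ LinearMap.range j)) i) := hC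
    rw [← hx, ← hy]
    exact congrArg (fun e => Ext.comp e hS.extClass rfl) (Subsingleton.elim x y)

theorem subsingleton_ext_of_H_zero : ∀ (i : ℕ) (M : Type u) [AddCommGroup M] [Module A M],
    (∀ j, Subsingleton ((localCohomology (maximalIdeal A) j).obj (ModuleCat.of A M) : Type u)) →
    Subsingleton (Ext (ModuleCat.of A (ResidueField A)) (ModuleCat.of A M) i) := by
  intro i
  induction i with
  | zero =>
    intro M _ _ h
    have h0 := torsionSub_eq_bot_of_H0 _ M (h 0)
    refine ⟨fun a b => ?_⟩
    obtain ⟨f, rfl⟩ := Ext.addEquiv₀.symm.surjective a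
    obtain ⟨g, rfl⟩ := Ext.addEquiv₀.symm.surjective b
    refine congrArg _ (ModuleCat.hom_ext ?_)
    rw [hom_residueField_eq_zero h0 f.hom, hom_residueField_eq_zero h0 g.hom]
  | succ i ih =>
    intro M _ _ h
    obtain ⟨C, _, _, he, hC⟩ := exists_shift M (torsionSub_eq_bot_of_H0 _ M (h 0))
    exact hC i (ih C fun j => by haveI := h (j + 1); exact (he j).some.toEquiv.subsingleton)

theorem subsingleton_ext_of_H_injective : ∀ (d : ℕ) (M : Type u) [AddCommGroup M] [Module A M],
    (∀ j, Module.Injective A ((localCohomology (maximalIdeal A) j).obj (ModuleCat.of A M) : Type u)) →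
    (∀ j, d < j → Subsingleton ((localCohomology (maximalIdeal A) j).obj (ModuleCat.of A M) : Type u)) →
    ∀ i, d < i → Subsingleton (Ext (ModuleCat.of A (ResidueField A)) (ModuleCat.of A M) i) := by
  intro d
  induction d with
  | zero =>
    intro M _ _ hinj hvan i hi
    refine main_step M hinj i hi fun h0 hH => ?_
    exact subsingleton_ext_of_H_zero i _ fun j => by
      cases j with
      | zero => exact h0
      | succ j => haveI := hvan (j + 1) (Nat.succ_pos j); exact (hH j).some.toEquiv.subsingleton
  | succ d ih =>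
    intro M _ _ hinj hvan i hi
    refine main_step M hinj i (by omega) fun h0 hH => ?_
    obtain ⟨C, _, _, he, hC⟩ := exists_shift (M ⧸ DRing.torsionSub (maximalIdeal A) M)
      (torsionSub_eq_bot_of_H0 _ _ h0)
    obtain ⟨i, rfl⟩ := Nat.exists_eq_add_of_le' (show 1 ≤ i by omega)
    refine hC i (ih C (fun j => ?_) (fun j hj => ?_) i (by omega))
    · haveI := hinj (j + 1)
      let e := (he j).some.trans (hH j).some
      exact InjHullLib.injective_of_retract e.toLinearMap e.symm.toLinearMap (LinearMap.ext e.symm_apply_apply)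
    · haveI := hvan (j + 1) (by omega)
      exact ((he j).some.trans (hH j).some).toEquiv.subsingleton
where
  main_step (M : Type u) [AddCommGroup M] [Module A M]
      (hinj : ∀ j, Module.Injective A ((localCohomology (maximalIdeal A) j).obj (ModuleCat.of A M) : Type u))
      (i : ℕ) (hi : 0 < i)
      (h : Subsingleton ((localCohomology (maximalIdeal A) 0).obj (ModuleCat.of A (M ⧸ DRing.torsionSub (maximalIdeal A) M)) : Type u) →
        (∀ j, Nonempty (((localCohomology (maximalIdeal A) (j + 1)).obj (ModuleCat.of A (M ⧸ DRing.torsionSub (maximalIdeal A) M)) : Type u) ≃ₗ[A]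
          ((localCohomology (maximalIdeal A) (j + 1)).obj (ModuleCat.of A M) : Type u))) →
        Subsingleton (Ext (ModuleCat.of A (ResidueField A)) (ModuleCat.of A (M ⧸ DRing.torsionSub (maximalIdeal A) M)) i)) :
      Subsingleton (Ext (ModuleCat.of A (ResidueField A)) (ModuleCat.of A M) i) := by
    let T := DRing.torsionSub (maximalIdeal A) M
    haveI : Module.Injective A T := by
      haveI := hinj 0
      exact InjHullLib.injective_of_retract (h0Equiv (maximalIdeal A) (ModuleCat.of A M)).symm.toLinearMap
        (h0Equiv (maximalIdeal A) (ModuleCat.of A M)).toLinearMap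
        (LinearMap.ext (h0Equiv (maximalIdeal A) (ModuleCat.of A M)).apply_symm_apply)
    haveI := h (subsingleton_H0_of_torsionSub _ _ (torsionSub_quot_eq_bot _ M))
      fun j => ⟨(LinearEquiv.ofBijective _ (isArtinian_H_of_quot (maximalIdeal A) j M)).symm⟩
    have hS := shortExact_mkQ T.subtype T.mkQ Subtype.val_injective T.mkQ_surjective (LinearMap.exact_subtype_mkQ T)
    obtain ⟨i, rfl⟩ := Nat.exists_eq_add_of_le' (show 1 ≤ i from hi)
    haveI : Injective (ModuleCat.of A T) := Module.injective_object_of_injective_module A T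
    refine ⟨fun a b => sub_eq_zero.mp ?_⟩
    obtain ⟨x, hx⟩ := Ext.covariant_sequence_exact₂ (ModuleCat.of A (ResidueField A)) hS (a - b) (Subsingleton.elim _ _)
    rw [← hx, x.eq_zero_of_injective, Ext.zero_comp]

end Groth.Agent.GorLib
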