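import Mathlib
import Groth.Agent.GorLib.LocInjDim
import Groth.Agent.GorLib.ExtVanish
import Groth.Agent.LocCohLib.Depth
import Groth.Agent.LocCohLib.Vanishing
import Groth.Agent.InjHullLib.Matlis

/-! Local cohomology of a Gorenstein local ring. -/

set_option autoImplicit false
universe u

namespace Groth.Agent.GorLib

open CategoryTheory Abelian IsLocalRing RingTheory.Sequence LocCohLib

variable {A : Type u} [CommRing A] [IsLocalRing A] [IsNoetherianRing A]

theorem gorenstein_quot_seq : ∀ (n : ℕ) (A : Type u) [CommRing A] [IsLocalRing A] [IsNoetherianRing A],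
    LocCoh.IsGorensteinLocalRing A → ∀ rs : List A, rs.length = n → (∀ r ∈ rs, r ∈ maximalIdeal A) →
      IsWeaklyRegular A rs → LocCoh.IsGorensteinLocalRing (A ⧸ Ideal.ofList rs) := by
  intro n
  induction n with
  | zero =>
    intro A _ _ _ hG rs hn _ _
    obtain rfl := List.length_eq_zero_iff.mp hn
    exact gorenstein_of_ringEquiv ((RingEquiv.quotientBot A).symm.trans
      (Ideal.quotEquivOfEq Ideal.ofList_nil.symm)) hG
  | succ n ih =>
    intro A _ _ _ hG rs hn hm hw
    obtain ⟨f, l, rfl⟩ : ∃ f l, rs = f :: l := List.exists_cons_of_ne_nil (by rintro rfl; simp at hn)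
    rw [isWeaklyRegular_cons_iff] at hw
    have hf : f ∈ maximalIdeal A := hm f List.mem_cons_self
    haveI := isLocalRing_quot_span hf
    have e : QuotSMulTop f A ≃ₗ[A] A ⧸ Ideal.span ({f} : Set A) := Submodule.quotEquivOfEq _ _
      (by rw [← Submodule.ideal_span_singleton_smul, smul_eq_mul, Ideal.mul_top])
    have hw' : IsWeaklyRegular (A ⧸ Ideal.span ({f} : Set A)) (l.map (Ideal.Quotient.mk (Ideal.span ({f} : Set A)))) :=
      (isWeaklyRegular_map_algebraMap_iff (A ⧸ Ideal.span ({f} : Set A)) (A ⧸ Ideal.span ({f} : Set A)) l).mpr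
        ((e.isWeaklyRegular_congr l).mp hw.2)
    have := ih (A ⧸ Ideal.span ({f} : Set A)) ((gorenstein_quot_iff A f hf hw.1).mp hG) _
      (by simpa using hn) (fun r hr => by
        obtain ⟨a, ha, rfl⟩ := List.mem_map.mp hr
        haveI : IsLocalHom (Ideal.Quotient.mk (Ideal.span ({f} : Set A))) := .of_surjective _ Ideal.Quotient.mk_surjective
        exact map_nonunit _ a (hm a (List.mem_cons_of_mem _ ha))) hw'
    exact gorenstein_of_ringEquiv ((Ideal.quotEquivOfEq (Ideal.map_ofList _ l).symm).trans
      ((DoubleQuot.quotQuotEquivQuotSup _ _).trans (Ideal.quotEquivOfEq (Ideal.ofList_cons f l).symm))) this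

/-- A maximal regular sequence with artinian Gorenstein quotient. -/
theorem exists_seq_dim (hG : LocCoh.IsGorensteinLocalRing A) {d : ℕ} (hd : ringKrullDim A = d) :
    ∃ rs : List A, rs.length = d ∧ (∀ r ∈ rs, r ∈ maximalIdeal A) ∧ IsWeaklyRegular A rs := by
  obtain ⟨rs, hm, hw, hlen⟩ := exists_regularSeq d A hG hd.le
  have h1 := CMGraded.length_le_ringKrullDim hm hw
  rw [hd] at h1 hlen
  exact ⟨rs, le_antisymm (by exact_mod_cast h1) (by exact_mod_cast hlen), hm, hw⟩

theorem length_ext_residueField_eq {M : Type u} [AddCommGroup M] [Module A M] (rs : List A)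
    (hm : ∀ r ∈ rs, r ∈ maximalIdeal A) (hw : IsWeaklyRegular M rs) :
    Module.length A (Ext (ModuleCat.of A (ResidueField A)) (ModuleCat.of A M) rs.length) =
      Module.length A (ResidueField A →ₗ[A] (M ⧸ Ideal.ofList rs • (⊤ : Submodule A M))) := by
  induction rs generalizing M with
  | nil =>
    refine (((Ext.linearEquiv₀ (R := A)).trans (ModuleCat.homLinearEquiv (S := A))).trans
      (LinearEquiv.congrRight (Submodule.quotEquivOfEqBot _ (by simp)).symm)).length_eq
  | cons f l ih =>
    rw [isWeaklyRegular_cons_iff] at hw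
    have hS := IsSMulRegular.smulShortComplex_shortExact (M := ModuleCat.of A M) hw.1
    let g : Ext (ModuleCat.of A (ResidueField A)) (ModuleCat.of A (QuotSMulTop f M)) l.length →ₗ[A]
        Ext (ModuleCat.of A (ResidueField A)) (ModuleCat.of A M) (l.length + 1) :=
      hS.extClass.postcompOfLinear A (ModuleCat.of A (ResidueField A)) rfl
    have hkill : ∀ i, ∀ x : Ext (ModuleCat.of A (ResidueField A)) (ModuleCat.of A M) i, f • x = 0 := fun i x =>
      LocCohLib.smul_eq_zero_of_annihilates (fun z => by
        show f • z = 0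
        rw [Algebra.smul_def, show algebraMap A (ResidueField A) f = 0 from
          Ideal.Quotient.eq_zero_iff_mem.mpr (hm f List.mem_cons_self), zero_mul]) x
    have hg : Function.Bijective g := by
      constructor
      · rw [injective_iff_map_eq_zero]
        intro x hx
        obtain ⟨y, rfl⟩ := Ext.covariant_sequence_exact₃ _ hS x rfl hx
        haveI : Subsingleton (Ext (ModuleCat.of A (ResidueField A)) (ModuleCat.of A M) l.length) :=
          LocCohLib.subsingleton_ext_of_isWeaklyRegular (maximalIdeal A) (ModuleCat.of A M) _ (f :: l)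
            ((isWeaklyRegular_cons_iff _ f l).mpr hw) hm 1 (fun a ha z => by
              rw [pow_one] at ha
              show a • z = 0
              rw [Algebra.smul_def, show algebraMap A (ResidueField A) a = 0 from
                Ideal.Quotient.eq_zero_iff_mem.mpr ha, zero_mul]) _ (by simp)
        rw [show y = 0 from Subsingleton.elim (α := Ext (ModuleCat.of A (ResidueField A)) (ModuleCat.of A M) l.length) y 0,
          Ext.zero_comp]
        rfl
      · intro x
        refine Ext.covariant_sequence_exact₁ _ hS x ?_ rfl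
        rw [ModuleCat.smulShortComplex_f_eq_smul_id]
        exact (Ext.smul_eq_comp_mk₀ x f).symm.trans (hkill _ x)
    rw [List.length_cons, ← (LinearEquiv.ofBijective g hg).length_eq,
      ih (fun r hr => hm r (List.mem_cons_of_mem _ hr)) hw.2]
    exact (LinearEquiv.congrRight (Submodule.quotOfListConsSMulTopEquivQuotSMulTopInner M f l).symm).length_eq

theorem length_ext_residueField (hG : LocCoh.IsGorensteinLocalRing A) {d : ℕ} (hd : ringKrullDim A = d) :
    Module.length A (Ext (ModuleCat.of A (ResidueField A)) (ModuleCat.of A A) d) = 1 := by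
  obtain ⟨rs, hlen, hm, hw⟩ := exists_seq_dim hG hd
  subst hlen
  rw [length_ext_residueField_eq rs hm hw]
  let I := Ideal.ofList rs
  haveI : Nontrivial (A ⧸ I) := Ideal.Quotient.nontrivial_iff.2 fun htop =>
    (maximalIdeal.isMaximal A).ne_top (eq_top_iff.2 (htop ▸ Ideal.span_le.2 hm))
  haveI : IsLocalRing (A ⧸ I) := IsLocalRing.of_surjective' (Ideal.Quotient.mk _) Ideal.Quotient.mk_surjective
  haveI : IsArtinianRing (A ⧸ I) := by
    have e := ringKrullDim_add_length_eq_ringKrullDim_of_isRegular rs (IsRegular.of_isWeaklyRegular_of_mem_maximalIdeal A hm hw)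
    rw [hd] at e
    have h0 : ringKrullDim (A ⧸ I) = 0 := by
      obtain ⟨n, hn⟩ := RegLocal.exists_nat_ringKrullDim (A ⧸ I)
      rw [hn] at e ⊢
      norm_cast at e ⊢
      omega
    rw [isArtinianRing_iff_krullDimLE_zero, Ring.krullDimLE_iff, h0]
    norm_num
  obtain ⟨t, ht0, htm, htx⟩ := simpleSocle_of_gorenstein (gorenstein_quot_seq rs.length A hG rs rfl hm hw)
  haveI : IsLocalHom (Ideal.Quotient.mk I) := .of_surjective _ Ideal.Quotient.mk_surjective
  -- maps `κ → A/I` are multiples of the socle generator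
  let s : ResidueField A →ₗ[A] A ⧸ I := Submodule.liftQ (maximalIdeal A) (LinearMap.toSpanSingleton A (A ⧸ I) t)
    fun r hr => by
      rw [LinearMap.mem_ker, LinearMap.toSpanSingleton_apply, Algebra.smul_def]
      exact htm _ (map_nonunit _ r hr)
  let Φ : A →ₗ[A] (ResidueField A →ₗ[A] A ⧸ I) := LinearMap.toSpanSingleton A _ s
  have hsurj : Function.Surjective Φ := by
    intro φ
    obtain ⟨c, hc⟩ := htx (φ 1) fun r hr => by
      obtain ⟨a, rfl⟩ := Ideal.Quotient.mk_surjective r
      have : a ∈ maximalIdeal A := fun hu => hr (hu.map _)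
      show a • φ 1 = 0
      rw [← map_smul, Algebra.smul_def, show algebraMap A (ResidueField A) a = 0 from
        Ideal.Quotient.eq_zero_iff_mem.mpr this, zero_mul, map_zero]
    obtain ⟨c, rfl⟩ := Ideal.Quotient.mk_surjective c
    refine ⟨c, LinearMap.ext fun z => ?_⟩
    obtain ⟨r, rfl⟩ := residue_surjective z
    rw [← InjHullLib.residue_smul_one r, map_smul, map_smul, hc]
    congr 1
    show c • s (residue A 1) = _
    have hs1 : s (residue A 1) = t := one_smul A t
    rw [hs1, Algebra.smul_def]
    rfl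
  have hker : LinearMap.ker Φ = maximalIdeal A := by
    ext a
    constructor
    · intro ha
      by_contra hu
      have h1 : a • s (residue A 1) = 0 := LinearMap.congr_fun ha (residue A 1)
      rw [(IsLocalRing.notMem_maximalIdeal.mp hu).smul_eq_zero] at h1
      exact ht0 ((one_smul A t).symm.trans h1)
    · intro ha
      refine LinearMap.ext fun z => ?_
      show a • s z = 0
      rw [← map_smul, Algebra.smul_def, show algebraMap A (ResidueField A) a = 0 from
        Ideal.Quotient.eq_zero_iff_mem.mpr ha, zero_mul, map_zero]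
  rw [((LinearEquiv.congrRight (Submodule.quotEquivOfEq (Ideal.ofList rs • (⊤ : Submodule A A)) I
    (by rw [smul_eq_mul, Ideal.mul_top]))).trans ((Submodule.quotEquivOfEq _ _ hker.symm).trans
      (Φ.quotKerEquivOfSurjective hsurj)).symm).length_eq]
  haveI : IsSimpleModule A (A ⧸ maximalIdeal A) := isSimpleModule_iff_quot_maximal.mpr ⟨_, inferInstance, ⟨LinearEquiv.refl A _⟩⟩
  exact Module.length_eq_one A _

theorem subsingleton_ext_residueField_ne (hG : LocCoh.IsGorensteinLocalRing A) {d : ℕ} (hd : ringKrullDim A = d)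
    (i : ℕ) (hi : i ≠ d) : Subsingleton (Ext (ModuleCat.of A (ResidueField A)) (ModuleCat.of A A) i) := by
  rcases lt_or_gt_of_ne hi with h | h
  · obtain ⟨rs, hlen, hm, hw⟩ := exists_seq_dim hG hd
    exact LocCohLib.subsingleton_ext_of_isWeaklyRegular (maximalIdeal A) (ModuleCat.of A A) _ rs hw hm 1
      (fun a ha z => by
        rw [pow_one] at ha
        show a • z = 0
        rw [Algebra.smul_def, show algebraMap A (ResidueField A) a = 0 from
          Ideal.Quotient.eq_zero_iff_mem.mpr ha, zero_mul]) i (hlen ▸ h)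
  · haveI := (injectiveDimension_local d A hG hd.le).1
    exact HasInjectiveDimensionLT.subsingleton (ModuleCat.of A A) (d + 1) i h _

/-- `Ext^*(-, A)` on finite length modules is concentrated in degree `d` and preserves length. -/
theorem ext_finiteLength (hG : LocCoh.IsGorensteinLocalRing A) {d : ℕ} (hd : ringKrullDim A = d)
    {M : Type u} [AddCommGroup M] [Module A M] (hM : IsFiniteLength A M) :
    (∀ i, i ≠ d → Subsingleton (Ext (ModuleCat.of A M) (ModuleCat.of A A) i)) ∧
      Module.length A (Ext (ModuleCat.of A M) (ModuleCat.of A A) d) = Module.length A M := by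
  induction hM with
  | @of_subsingleton M _ _ _ =>
    have h : ∀ i, Subsingleton (Ext (ModuleCat.of A M) (ModuleCat.of A A) i) := fun i => ⟨fun a b => by
      rw [← a.mk₀_id_comp, ← b.mk₀_id_comp, (ModuleCat.isZero_of_subsingleton (ModuleCat.of A M)).eq_zero_of_src (𝟙 _),
        Ext.mk₀_zero, Ext.zero_comp, Ext.zero_comp]⟩
    exact ⟨fun i _ => h i, by haveI := h d; rw [Module.length_eq_zero, Module.length_eq_zero]⟩
  | @of_simple_quotient M _ _ N hN hlen ih =>
    obtain ⟨I, hI, ⟨e⟩⟩ := isSimpleModule_iff_quot_maximal.1 hN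
    obtain rfl := IsLocalRing.eq_maximalIdeal hI
    have hvq : ∀ i, i ≠ d → Subsingleton (Ext (ModuleCat.of A (M ⧸ N)) (ModuleCat.of A A) i) := fun i hi => by
      haveI := subsingleton_ext_residueField_ne hG hd i hi
      exact ext_subsingleton_of_iso (show ModuleCat.of A (ResidueField A) ≅ ModuleCat.of A (M ⧸ N) from e.symm.toModuleIso) _ i
    have hlq : Module.length A (Ext (ModuleCat.of A (M ⧸ N)) (ModuleCat.of A A) d) = 1 := by
      rw [← length_ext_residueField hG hd]
      let φ : ModuleCat.of A (M ⧸ N) ≅ ModuleCat.of A (ResidueField A) := e.toModuleIso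
      refine (LinearEquiv.ofLinearMap ((Ext.mk₀ φ.inv).precompOfLinear A (ModuleCat.of A A) (zero_add d))
        ((Ext.mk₀ φ.hom).precompOfLinear A (ModuleCat.of A A) (zero_add d)) ?_ ?_).length_eq
      · refine LinearMap.ext fun x => ?_
        show (Ext.mk₀ φ.inv).comp ((Ext.mk₀ φ.hom).comp x (zero_add d)) (zero_add d) = x
        rw [← Ext.comp_assoc_of_second_deg_zero, Ext.mk₀_comp_mk₀, φ.inv_hom_id, Ext.mk₀_id_comp]
      · refine LinearMap.ext fun x => ?_
        show (Ext.mk₀ φ.hom).comp ((Ext.mk₀ φ.inv).comp x (zero_add d)) (zero_add d) = x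
        rw [← Ext.comp_assoc_of_second_deg_zero, Ext.mk₀_comp_mk₀, φ.hom_inv_id, Ext.mk₀_id_comp]
    have hT := shortExact_mkQ N.subtype N.mkQ Subtype.val_injective N.mkQ_surjective (LinearMap.exact_subtype_mkQ N)
    refine ⟨fun i hi => ?_, ?_⟩
    · haveI := hvq i hi
      haveI := ih.1 i hi
      refine ⟨fun a b => sub_eq_zero.mp ?_⟩
      obtain ⟨x, hx⟩ := Ext.contravariant_sequence_exact₂ hT _ (a - b) (Subsingleton.elim _ _)
      rw [← hx, Subsingleton.elim x 0, Ext.comp_zero]
    · let F := (Ext.mk₀ (ModuleCat.ofHom N.mkQ)).precompOfLinear A (ModuleCat.of A A) (zero_add d)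
      let G := (Ext.mk₀ (ModuleCat.ofHom N.subtype)).precompOfLinear A (ModuleCat.of A A) (zero_add d)
      rw [Module.length_eq_add_of_exact F G ?_ ?_ ?_, hlq, ih.2,
        Module.length_eq_add_of_exact N.subtype N.mkQ Subtype.val_injective N.mkQ_surjective (LinearMap.exact_subtype_mkQ N),
        show Module.length A (M ⧸ N) = 1 from Module.length_eq_one A _, add_comm]
      · rw [injective_iff_map_eq_zero]
        intro x hx
        cases d with
        | zero =>
          obtain ⟨h, rfl⟩ := Ext.addEquiv₀.symm.surjective x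
          simp only [Ext.addEquiv₀_symm_apply] at hx ⊢
          have h2 : ModuleCat.ofHom N.mkQ ≫ h = 0 := (Ext.mk₀_bijective _ _).1
            (((Ext.mk₀_comp_mk₀ _ h).symm.trans hx).trans (by rw [Ext.mk₀_zero]))
          haveI : Epi (ModuleCat.ofHom N.mkQ) := (ModuleCat.epi_iff_surjective _).2 N.mkQ_surjective
          rw [(cancel_epi (ModuleCat.ofHom N.mkQ)).mp (h2.trans Limits.comp_zero.symm), Ext.mk₀_zero]
        | succ d =>
          obtain ⟨y, hy⟩ := Ext.contravariant_sequence_exact₃ hT _ x hx (add_comm 1 d)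
          haveI : Subsingleton (Ext (ModuleCat.of A N) (ModuleCat.of A A) d) := ih.1 d (by omega)
          rw [← hy, show y = 0 from Subsingleton.elim (α := Ext (ModuleCat.of A N) (ModuleCat.of A A) d) y 0, Ext.comp_zero]
      · intro x
        haveI := hvq (d + 1) (by omega)
        exact Ext.contravariant_sequence_exact₁ hT _ x (add_comm 1 d) (Subsingleton.elim _ _)
      · intro x
        constructor
        · exact fun hx => Ext.contravariant_sequence_exact₂ hT _ x hx
        · rintro ⟨y, rfl⟩
          show (Ext.mk₀ (ModuleCat.ofHom N.subtype)).comp ((Ext.mk₀ (ModuleCat.ofHom N.mkQ)).comp y (zero_add d)) (zero_add d) = 0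
          rw [← Ext.comp_assoc_of_second_deg_zero, Ext.mk₀_comp_mk₀,
            show ModuleCat.ofHom N.subtype ≫ ModuleCat.ofHom N.mkQ = 0 from
              ModuleCat.hom_ext (LinearMap.exact_subtype_mkQ N).linearMap_comp_eq_zero, Ext.mk₀_zero, Ext.zero_comp]

/-- Restriction along a surjection of finite length modules is injective. -/
theorem precomp_injective (hG : LocCoh.IsGorensteinLocalRing A) {d : ℕ} (hd : ringKrullDim A = d)
    {X Y : ModuleCat.{u} A} (g : X ⟶ Y) (hg : Function.Surjective g.hom) (hX : IsFiniteLength A X)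
    (y : Ext Y (ModuleCat.of A A) d) (hy : (Ext.mk₀ g).comp y (zero_add d) = 0) : y = 0 := by
  have hT := shortExact_mkQ (LinearMap.ker g.hom).subtype g.hom Subtype.val_injective hg (LinearMap.exact_subtype_ker_map g.hom)
  haveI : Epi g := (ModuleCat.epi_iff_surjective g).2 hg
  cases d with
  | zero =>
    obtain ⟨h, rfl⟩ := Ext.addEquiv₀.symm.surjective y
    simp only [Ext.addEquiv₀_symm_apply] at hy ⊢
    have h2 : g ≫ h = 0 := (Ext.mk₀_bijective _ _).1
      (((Ext.mk₀_comp_mk₀ g h).symm.trans hy).trans (by rw [Ext.mk₀_zero]))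
    rw [(cancel_epi g).mp (h2.trans Limits.comp_zero.symm), Ext.mk₀_zero]
  | succ d =>
    obtain ⟨z, hz⟩ := Ext.contravariant_sequence_exact₃ hT _ y hy (add_comm 1 d)
    haveI : Subsingleton (Ext (ModuleCat.of A (LinearMap.ker g.hom)) (ModuleCat.of A A) d) :=
      (ext_finiteLength hG hd (hX.of_injective (f := (LinearMap.ker g.hom).subtype) Subtype.val_injective)).1 d (by omega)
    rw [← hz, show z = 0 from Subsingleton.elim (α := Ext (ModuleCat.of A (LinearMap.ker g.hom)) (ModuleCat.of A A) d) z 0,
      Ext.comp_zero]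

theorem isFiniteLength_quot_pow (n : ℕ) : IsFiniteLength A (A ⧸ maximalIdeal A ^ n) :=
  InjHullLib.isFiniteLength_quot (le_refl _)

theorem exists_hull_H (hG : LocCoh.IsGorensteinLocalRing A) {d : ℕ} (hd : ringKrullDim A = d) :
    ∃ g : ResidueField A →ₗ[A] ((localCohomology (maximalIdeal A) d).obj (ModuleCat.of A A) : Type u),
      InjHull.IsInjectiveHull g := by
  classical
  let m := maximalIdeal A
  let AA := ModuleCat.of A A
  let H := ((localCohomology m d).obj AA : Type u)
  have hpre : ∀ (n k : ℕ) (h : n ≤ k) (y : Ext (quot m n) AA d),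
      (Ext.mk₀ (qmap m h)).comp y (zero_add d) = 0 → y = 0 := fun n k h y hy =>
    precomp_injective hG hd (qmap m h) (fun z => by
      obtain ⟨a, rfl⟩ := Submodule.Quotient.mk_surjective _ z
      exact ⟨Submodule.Quotient.mk a, qmap_mk m h a⟩) (isFiniteLength_quot_pow k) y hy
  have hι : ∀ n, Function.Injective (ι m d AA n) := fun n => (injective_iff_map_eq_zero _).mpr fun y hy => by
    obtain ⟨k, h, hk⟩ := (ι_eq_zero_iff y).mp hy
    exact hpre n k h y hk
  have hlen1 : Module.length A (Ext (quot m 1) AA d) = 1 := by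
    rw [show Module.length A (Ext (quot m 1) AA d) = Module.length A (A ⧸ m ^ 1) from
      (ext_finiteLength hG hd (isFiniteLength_quot_pow 1)).2]
    haveI : IsSimpleModule A (A ⧸ m ^ 1) := by
      rw [pow_one]
      exact isSimpleModule_iff_quot_maximal.mpr ⟨_, inferInstanceAs (maximalIdeal A).IsMaximal, ⟨LinearEquiv.refl A _⟩⟩
    exact Module.length_eq_one A _
  haveI : IsSimpleModule A (Ext (quot m 1) AA d) := Module.length_eq_one_iff.mp hlen1
  obtain ⟨y₁, hy₁⟩ : ∃ y : Ext (quot m 1) AA d, y ≠ 0 := by
    haveI := IsSimpleModule.nontrivial A (Ext (quot m 1) AA d)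
    exact exists_ne 0
  let s : ResidueField A →ₗ[A] H := Submodule.liftQ m (LinearMap.toSpanSingleton A H (ι m d AA 1 y₁)) fun a ha => by
    rw [LinearMap.mem_ker, LinearMap.toSpanSingleton_apply, ← map_smul,
      smul_ext_eq_zero (by rwa [pow_one]), map_zero]
  have hs1 : ∀ a : A, s (residue A a) = ι m d AA 1 (a • y₁) := fun a => (map_smul (ι m d AA 1) a y₁).symm
  have hs : Function.Injective s := (injective_iff_map_eq_zero s).mpr fun z hz => by
    obtain ⟨a, rfl⟩ := residue_surjective z
    rw [hs1, map_eq_zero_iff _ (hι 1)] at hz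
    by_contra hne
    have hu : IsUnit a := by
      by_contra hu
      exact hne (Ideal.Quotient.eq_zero_iff_mem.mpr hu)
    exact hy₁ (hu.smul_eq_zero.mp hz)
  have hsoc : ∀ z : H, (∀ r ∈ m, r • z = 0) → z ∈ LinearMap.range s := by
    intro z hz
    obtain ⟨n, hn1, y, rfl⟩ := exists_ι_ge z 1
    have hy : ∀ r ∈ m, r • y = 0 := fun r hr => hι n (by rw [map_smul, hz r hr, map_zero])
    let f := qmap m hn1
    let T := shortExact_mkQ (LinearMap.ker f.hom).subtype f.hom Subtype.val_injective
      (fun q => by
        obtain ⟨a, rfl⟩ := Submodule.Quotient.mk_surjective _ q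
        exact ⟨Submodule.Quotient.mk a, qmap_mk m hn1 a⟩) (LinearMap.exact_subtype_ker_map f.hom)
    obtain ⟨S, hS⟩ := IsNoetherian.noetherian m
    let K := ModuleCat.of A (LinearMap.ker f.hom)
    let inc : K ⟶ quot m n := ModuleCat.ofHom (LinearMap.ker f.hom).subtype
    have hres : (Ext.mk₀ inc).comp y (zero_add d) = 0 := by
      have hker : ∀ (a : S) (x : quot m n), ((a : A) • LinearMap.id : quot m n →ₗ[A] quot m n) x ∈ LinearMap.ker f.hom := by
        intro a x
        rw [LinearMap.mem_ker, LinearMap.smul_apply, LinearMap.id_apply, map_smul]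
        obtain ⟨c, hc⟩ := Submodule.Quotient.mk_surjective _ (f.hom x)
        rw [← hc, ← Submodule.Quotient.mk_smul, Submodule.Quotient.mk_eq_zero, smul_eq_mul, pow_one]
        exact Ideal.mul_mem_right _ _ (hS ▸ Submodule.subset_span a.2)
      let φ : S → (quot m n ⟶ K) := fun a => ModuleCat.ofHom (((a : A) • LinearMap.id).codRestrict _ (hker a))
      let P := ModuleCat.of A (S → quot m n)
      let Φ : P ⟶ K := ModuleCat.ofHom (∑ a : S, (φ a).hom.comp (LinearMap.proj a))
      have hΦ : Function.Surjective Φ.hom := by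
        rintro ⟨x, hx⟩
        obtain ⟨b, rfl⟩ := Submodule.Quotient.mk_surjective _ x
        rw [LinearMap.mem_ker, qmap_mk, Submodule.Quotient.mk_eq_zero, pow_one] at hx
        rw [show (m : Submodule A A) = Submodule.span A (Set.range fun a : S => (a : A)) by
          rw [← hS]; congr 1; ext; simp] at hx
        obtain ⟨c, hc⟩ := (Submodule.mem_span_range_iff_exists_fun A).mp hx
        refine ⟨fun a => Submodule.Quotient.mk (c a), Subtype.ext ?_⟩
        show (((∑ a : S, (φ a).hom.comp (LinearMap.proj a)) fun a => Submodule.Quotient.mk (c a)) : LinearMap.ker f.hom).1 =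
          Submodule.Quotient.mk b
        rw [LinearMap.coe_sum, Finset.sum_apply, Submodule.coe_sum, ← Submodule.mkQ_apply, ← hc, map_sum]
        refine Finset.sum_congr rfl fun a _ => ?_
        show (a : A) • Submodule.Quotient.mk (c a) = (m ^ n).mkQ (c a • (a : A))
        rw [← Submodule.Quotient.mk_smul, smul_eq_mul, smul_eq_mul, mul_comm]; rfl
      have hP : IsFiniteLength A P := by
        rw [← Module.length_ne_top_iff, Module.length_pi_of_fintype]
        exact (ENat.sum_lt_top.mpr fun a _ => lt_top_iff_ne_top.mpr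
          (Module.length_ne_top_iff.mpr (isFiniteLength_quot_pow n))).ne
      refine precomp_injective hG hd Φ hΦ hP _ ?_
      rw [← Ext.comp_assoc_of_second_deg_zero, Ext.mk₀_comp_mk₀]
      have hdec : Φ ≫ inc = ∑ a : S, (a : A) • ModuleCat.ofHom (LinearMap.proj a : P →ₗ[A] quot m n) := by
        refine ModuleCat.hom_ext (LinearMap.ext fun x => ?_)
        simp [Φ, φ, inc, ModuleCat.hom_sum]
        exact Finset.sum_congr rfl fun a _ => rfl
      have hker2 : ∀ T' : Finset S, (Ext.mk₀ (∑ a ∈ T', (a : A) • ModuleCat.ofHom (LinearMap.proj a : P →ₗ[A] quot m n))).comp y (zero_add d) = 0 := by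
        intro T'
        induction T' using Finset.induction_on with
        | empty => rw [Finset.sum_empty, Ext.mk₀_zero, Ext.zero_comp]
        | insert a T' ha ih =>
          rw [Finset.sum_insert ha, Ext.mk₀_add, Ext.add_comp, ih, add_zero, Ext.mk₀_smul, Ext.smul_comp,
            ← Ext.comp_smul, hy _ (hS ▸ Submodule.subset_span a.2), Ext.comp_zero]
      rw [hdec]
      exact hker2 Finset.univ
    obtain ⟨x, hx⟩ := Ext.contravariant_sequence_exact₂ T AA y hres
    obtain ⟨c, hc⟩ := IsSimpleModule.toSpanSingleton_surjective A hy₁ x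
    refine ⟨residue A c, ?_⟩
    rw [hs1, ← ι_comp hn1, ← hx]
    exact congrArg (fun w => ι m d AA n ((Ext.mk₀ f).comp w (zero_add d))) hc
  refine ⟨s, InjHullLib.isInjectiveHull_of_length (LocCohLib.isPowerTorsion_H m d AA) hs hsoc fun N =>
    ⟨m ^ N, le_rfl, ⟨N, le_rfl⟩, ?_⟩⟩
  let Θ : Ext (quot m N) AA d →ₗ[A] ((A ⧸ m ^ N) →ₗ[A] H) :=
    { toFun := fun y => Submodule.liftQ (m ^ N) (LinearMap.toSpanSingleton A H (ι m d AA N y)) fun a ha => by
        rw [LinearMap.mem_ker, LinearMap.toSpanSingleton_apply, ← map_smul, smul_ext_eq_zero ha, map_zero]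
      map_add' := fun y y' => Submodule.linearMap_qext _ (LinearMap.ext fun a => by
        show a • ι m d AA N (y + y') = a • ι m d AA N y + a • ι m d AA N y'
        rw [map_add, smul_add])
      map_smul' := fun r y => Submodule.linearMap_qext _ (LinearMap.ext fun a => by
        show a • ι m d AA N (r • y) = r • a • ι m d AA N y
        rw [map_smul, smul_comm]) }
  have hΘ : Function.Injective Θ := fun y y' h => hι N (by
    have h' : (1 : A) • ι m d AA N y = (1 : A) • ι m d AA N y' := LinearMap.congr_fun h (Submodule.Quotient.mk 1)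
    rwa [one_smul, one_smul] at h')
  rw [← (ext_finiteLength hG hd (isFiniteLength_quot_pow N)).2]
  exact Module.length_le_of_injective Θ hΘ

theorem subsingleton_H_ne (hG : LocCoh.IsGorensteinLocalRing A) {d : ℕ} (hd : ringKrullDim A = d) (i : ℕ) (hi : i ≠ d) :
    Subsingleton ((localCohomology (maximalIdeal A) i).obj (ModuleCat.of A A) : Type u) := by
  rcases lt_or_gt_of_ne hi with h | h
  · obtain ⟨rs, hlen, hm, hw⟩ := exists_seq_dim hG hd
    exact LocCohLib.subsingleton_of_isWeaklyRegular (maximalIdeal A) (ModuleCat.of A A) rs hw hm i (hlen ▸ h)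
  · exact LocCohLib.cdLE_of_ringKrullDim (maximalIdeal A) d hd.le A i h

end Groth.Agent.GorLib
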