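import Mathlib
import Groth.Agent.GorLib.CM
import Groth.Agent.GorLib.LocInjDim
import Groth.Agent.GorLib.Ring
import Groth.Agent.GorLib.TopHull
import Groth.Agent.LocCohLib.Ischebeck
import Groth.Agent.QGorLib.Depth

/-! Heights in Gorenstein local rings. -/

set_option autoImplicit false
universe u

namespace Groth.Agent.GorLib

open CategoryTheory IsLocalRing RingTheory.Sequence

variable {A : Type u} [CommRing A] [IsLocalRing A] [IsNoetherianRing A]

theorem gorensteinRing_of_local (hG : LocCoh.IsGorensteinLocalRing A) : LocCoh.IsGorensteinRing A :=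
  ((hasInjectiveDimensionLT_self_iff A).mp hG.exists_hasInjectiveDimensionLT).1

lemma depth_localization_eq_height (hG : LocCoh.IsGorensteinRing A) (p : Ideal A) [p.IsPrime] :
    ((LocCoh.depth (Localization.AtPrime p) (Localization.AtPrime p) : ℕ∞) : WithBot ℕ∞) = p.height := by
  haveI h := hG.isGorensteinLocalRing_localization p
  have hcm := isCohenMacaulay (Localization.AtPrime p) h
  rw [← hcm.supportDim_eq_depth, Module.supportDim_self_eq_ringKrullDim,
    IsLocalization.AtPrime.ringKrullDim_eq_height p (Localization.AtPrime p)]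

/-- `ht P + dim A/P = dim A`. -/
theorem height_add_ringKrullDim_quotient (hG : LocCoh.IsGorensteinLocalRing A) (P : Ideal A) [hP : P.IsPrime] :
    (P.height : WithBot ℕ∞) + ringKrullDim (A ⧸ P) = ringKrullDim A := by
  classical
  have hR := gorensteinRing_of_local hG
  obtain ⟨d, hd⟩ := RegLocal.exists_nat_ringKrullDim A
  haveI : Nontrivial (A ⧸ P) := Ideal.Quotient.nontrivial_iff.mpr hP.ne_top
  haveI : IsLocalRing (A ⧸ P) := .of_surjective' (Ideal.Quotient.mk P) Ideal.Quotient.mk_surjective
  obtain ⟨e, he⟩ := RegLocal.exists_nat_ringKrullDim (A ⧸ P)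
  obtain ⟨h, hh⟩ : ∃ h : ℕ, P.height = h :=
    ENat.ne_top_iff_exists.mp (Ideal.height_ne_top hP.ne_top) |>.imp fun _ hx => hx.symm
  -- one inequality is general
  refine le_antisymm ?_ ?_
  · obtain ⟨l, hl, hlen⟩ := Ideal.exists_ltSeries_length_eq_height P
    obtain ⟨l2, hl2⟩ : ∃ l2 : LTSeries (PrimeSpectrum (A ⧸ P)), l2.length = e :=
      Order.le_krullDim_iff.mp (by rw [← ringKrullDim, he])
    rw [he, ← hlen]
    let l2' := l2.map (PrimeSpectrum.comap (Ideal.Quotient.mk P))
      (RingHom.strictMono_comap_of_surjective Ideal.Quotient.mk_surjective)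
    have hhead : l.last ≤ l2'.head := by
      rw [hl, ← PrimeSpectrum.asIdeal_le_asIdeal, LTSeries.head_map, PrimeSpectrum.comap_asIdeal]
      intro a ha
      rw [Ideal.mem_comap, Ideal.Quotient.eq_zero_iff_mem.mpr ha]
      exact zero_mem _
    rcases hhead.eq_or_lt with heq | hlt
    · have := Order.LTSeries.length_le_krullDim (l.smash l2' heq)
      rw [← ringKrullDim] at this
      refine le_trans (le_of_eq ?_) this
      simp [l2', hl2]
    · have := Order.LTSeries.length_le_krullDim (l.append l2' hlt)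
      rw [← ringKrullDim] at this
      refine le_trans ?_ this
      simp only [RelSeries.append_length, l2', LTSeries.map_length, hl2]
      exact_mod_cast Nat.le_succ _
  -- a regular sequence of length `ht P` in `P`
  have hI : P • (⊤ : Submodule A A) ≠ ⊤ := by rw [smul_eq_mul, Ideal.mul_top]; exact hP.ne_top
  have hdep : (h : ℕ∞) ≤ LocCoh.idealDepth P A := by
    rw [QGorLib.le_idealDepth_iff_forall]
    intro q hq
    have h1 : (LocCoh.depth (Localization.AtPrime q.asIdeal) (LocalizedModule q.asIdeal.primeCompl A)) =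
        LocCoh.depth (Localization.AtPrime q.asIdeal) (Localization.AtPrime q.asIdeal) :=
      Depth.depth_congr (Depth.localizedSelfEquiv q.asIdeal)
    rw [h1]
    have h2 := depth_localization_eq_height hR q.asIdeal
    rw [WithBot.coe_inj] at h2
    rw [h2, ← hh]
    exact Ideal.height_mono hq
  obtain ⟨rs, hlen, hmem, hreg⟩ := (Depth.le_idealDepth_iff hI h).mp hdep
  let J := Ideal.ofList rs
  have hJP : J ≤ P := Ideal.span_le.mpr fun r hr => hmem r hr
  have hJm : ∀ r ∈ rs, r ∈ maximalIdeal A := fun r hr => le_maximalIdeal hP.ne_top (hmem r hr)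
  -- `P` is minimal over `J`
  have hmin : P ∈ J.minimalPrimes := by
    obtain ⟨Q, hQ, hQP⟩ := Ideal.exists_minimalPrimes_le hJP
    haveI := hQ.1.1
    rcases hQP.eq_or_lt with rfl | hlt
    · exact hQ
    · exfalso
      have hdQ : (h : ℕ∞) ≤ LocCoh.idealDepth Q A :=
        (Depth.le_idealDepth_iff (by rw [smul_eq_mul, Ideal.mul_top]; exact hQ.1.1.ne_top) h).mpr
          ⟨rs, hlen, fun r hr => hQ.1.2 (Ideal.subset_span hr), hreg⟩
      rw [QGorLib.le_idealDepth_iff_forall] at hdQ
      have h1 := hdQ ⟨Q, hQ.1.1⟩ le_rfl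
      rw [show LocCoh.depth (Localization.AtPrime Q) (LocalizedModule Q.primeCompl A) =
          LocCoh.depth (Localization.AtPrime Q) (Localization.AtPrime Q) from
        Depth.depth_congr (Depth.localizedSelfEquiv Q)] at h1
      have h2 := depth_localization_eq_height hR Q
      rw [WithBot.coe_inj] at h2
      rw [h2, ← hh] at h1
      have h3 := Ideal.height_add_one_le_of_lt_of_isPrime hlt
      exact ((ENat.add_one_le_iff (Ideal.height_ne_top hQ.1.1.ne_top)).mp (h3.trans h1)).false
  -- `P` is associated to `A / J`, whose depth is `d - h`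
  have hreg' : IsRegular A rs := by
    refine ⟨hreg, ?_⟩
    rw [smul_eq_mul, Ideal.mul_top]
    exact fun htop => hP.ne_top (top_le_iff.mp (htop.le.trans hJP))
  haveI : Nontrivial (A ⧸ J) := Ideal.Quotient.nontrivial_iff.mpr fun htop => hP.ne_top (top_le_iff.mp (htop ▸ hJP))
  haveI : IsLocalRing (A ⧸ J) := .of_surjective' (Ideal.Quotient.mk J) Ideal.Quotient.mk_surjective
  have hass : IsAssociatedPrime P (A ⧸ J) := by
    refine Module.associatedPrimes.minimalPrimes_annihilator_subset_associatedPrimes A (A ⧸ J) ?_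
    rwa [Ideal.annihilator_quotient]
  obtain ⟨-, x, hx⟩ := isAssociatedPrime_iff.mp hass
  have hdim : ringKrullDim (A ⧸ J) + h = d := by
    rw [← hd, ← hlen, ← ringKrullDim_add_length_eq_ringKrullDim_of_isRegular rs hreg']
  have hG' : LocCoh.IsGorensteinLocalRing (A ⧸ J) := gorenstein_quot_seq rs.length A hG rs rfl hJm hreg
  obtain ⟨d', hd'⟩ := RegLocal.exists_nat_ringKrullDim (A ⧸ J)
  have hdepth : LocCoh.depth A (A ⧸ J) = (d' : ℕ∞) := by
    have hne : maximalIdeal A • (⊤ : Submodule A (A ⧸ J)) ≠ ⊤ := CAlgBasics.maximalIdeal_smul_top_ne_top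
    refine le_antisymm ?_ ?_
    · have := QGorLib.depth_le_supportDim (R := A) (A ⧸ J)
      rw [Module.supportDim_quotient_eq_ringKrullDim, hd'] at this
      exact_mod_cast this
    · obtain ⟨rs', hl', hm', hw'⟩ := exists_seq_dim hG' hd'
      obtain ⟨l, rfl⟩ : ∃ l : List A, l.map (algebraMap A (A ⧸ J)) = rs' := by
        choose f hf using Ideal.Quotient.mk_surjective (I := J)
        exact ⟨rs'.map f, by rw [List.map_map]; exact List.map_id'' hf rs'⟩
      refine (Depth.le_idealDepth_iff hne d').mpr ⟨l, by simpa using hl', fun r hr => ?_,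
        (isWeaklyRegular_map_algebraMap_iff (A ⧸ J) (A ⧸ J) l).mp hw'⟩
      exact fun hu => (mem_maximalIdeal _).mp (hm' _ (List.mem_map_of_mem hr)) (hu.map _)
  by_contra hcon
  rw [not_le, he, hd, hh] at hcon
  have hlt' : h + e < d := by exact_mod_cast hcon
  rw [hd'] at hdim
  have hdim' : d' + h = d := by exact_mod_cast hdim
  have hs := LocCohLib.subsingleton_ext_of_supportDim (A ⧸ J) d' hdepth e (A ⧸ P)
    (by rw [Module.supportDim_quotient_eq_ringKrullDim]; exact he.le) 0 (by omega)
  haveI := (Abelian.Ext.linearEquiv₀ (R := A) (X := ModuleCat.of A (A ⧸ P)) (Y := ModuleCat.of A (A ⧸ J))).symm.toEquiv.subsingleton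
  let g : (A ⧸ P) →ₗ[A] (A ⧸ J) := Submodule.liftQ P (LinearMap.toSpanSingleton A _ x) fun a ha => by
    rw [LinearMap.mem_ker, LinearMap.toSpanSingleton_apply]
    exact (Submodule.mem_bot _).mp (Submodule.mem_colon_singleton.mp (hx ▸ ha))
  have hg : ModuleCat.ofHom g = 0 := Subsingleton.elim _ _
  have hx0 : x = 0 := by
    have := congr($(hg).hom (Submodule.Quotient.mk 1))
    exact (one_smul A x).symm.trans this
  exact hP.ne_top (by rw [hx, hx0]; simp)

end Groth.Agent.GorLib
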