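import Mathlib

/-! Vanishing of localised `Ext`. -/

set_option autoImplicit false
universe u

namespace Groth.Agent.GorLib

open CategoryTheory Limits

variable {A : Type u} [CommRing A]

lemma subsingleton_localized_congr (S : Submonoid A) {P Q : Type u} [AddCommGroup P] [Module A P] [AddCommGroup Q]
    [Module A Q] (e : P ≃ₗ[A] Q) : Subsingleton (LocalizedModule S P) ↔ Subsingleton (LocalizedModule S Q) := by
  rw [LocalizedModule.subsingleton_iff, LocalizedModule.subsingleton_iff]
  constructor
  · intro h x
    obtain ⟨r, hr, hrx⟩ := h (e.symm x)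
    exact ⟨r, hr, by simpa using congrArg e hrx⟩
  · intro h x
    obtain ⟨r, hr, hrx⟩ := h (e x)
    exact ⟨r, hr, by simpa using congrArg e.symm hrx⟩

theorem subsingleton_ext_localized_iff [IsNoetherianRing A] (S : Submonoid A) :
    ∀ (k : ℕ) (M N : Type u) [AddCommGroup M] [Module A M] [Module.Finite A M] [AddCommGroup N] [Module A N],
      Subsingleton (LocalizedModule S (Abelian.Ext (ModuleCat.of A M) (ModuleCat.of A N) k)) ↔
        Subsingleton (Abelian.Ext (ModuleCat.of (Localization S) (LocalizedModule S M))
          (ModuleCat.of (Localization S) (LocalizedModule S N)) k) := by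
  intro k
  induction k with
  | zero =>
    intro M N _ _ _ _ _
    haveI : Module.FinitePresentation A M := Module.finitePresentation_of_finite A M
    rw [subsingleton_localized_congr S (Abelian.Ext.linearEquiv₀.trans ModuleCat.homLinearEquiv :
      Abelian.Ext (ModuleCat.of A M) (ModuleCat.of A N) 0 ≃ₗ[A] (M →ₗ[A] N))]
    exact ((Module.FinitePresentation.linearEquivMapExtendScalars (M := M) (N := N) S).toEquiv.subsingleton_congr).trans
      (Abelian.Ext.linearEquiv₀.trans ModuleCat.homLinearEquiv : Abelian.Ext (ModuleCat.of (Localization S) (LocalizedModule S M))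
        (ModuleCat.of (Localization S) (LocalizedModule S N)) 0 ≃ₗ[Localization S]
          (LocalizedModule S M →ₗ[Localization S] LocalizedModule S N)).symm.toEquiv.subsingleton_congr
  | succ k ih =>
    intro M N _ _ _ _ _
    haveI : Module.FinitePresentation A M := Module.finitePresentation_of_finite A M
    obtain ⟨n, f, hf⟩ := Module.Finite.exists_fin' A M
    let K := LinearMap.ker f
    haveI : Module.Finite A K := Module.Finite.of_fg (IsNoetherian.noetherian K)
    haveI : Module.FinitePresentation A K := Module.finitePresentation_of_finite A K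
    let B := Localization S
    let T : ShortComplex (ModuleCat.{u} A) := ShortComplex.mk (ModuleCat.ofHom K.subtype) (ModuleCat.ofHom f)
      (by ext x; exact x.2)
    have hT : T.ShortExact :=
      { exact := (ShortComplex.moduleCat_exact_iff _).mpr fun x hx => ⟨⟨x, hx⟩, rfl⟩
        mono_f := (ModuleCat.mono_iff_injective _).mpr Subtype.val_injective
        epi_g := (ModuleCat.epi_iff_surjective _).mpr hf }
    haveI hFp : Projective T.X₂ := (IsProjective.iff_projective (R := A) (Fin n → A)).mp inferInstance
    let ιS : LocalizedModule S K →ₗ[B] LocalizedModule S (Fin n → A) := LocalizedModule.map S K.subtype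
    let fS : LocalizedModule S (Fin n → A) →ₗ[B] LocalizedModule S M := LocalizedModule.map S f
    have hexS : Function.Exact ιS fS :=
      LocalizedModule.map_exact S K.subtype f (LinearMap.exact_subtype_ker_map f)
    let T' : ShortComplex (ModuleCat.{u} B) := ShortComplex.mk (X₁ := ModuleCat.of B (LocalizedModule S K))
      (X₂ := ModuleCat.of B (LocalizedModule S (Fin n → A))) (X₃ := ModuleCat.of B (LocalizedModule S M))
      (ModuleCat.ofHom ιS) (ModuleCat.ofHom fS)
      (by apply ModuleCat.hom_ext; exact LinearMap.ext fun x => hexS.apply_apply_eq_zero x)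
    have hT' : T'.ShortExact :=
      { exact := (ShortComplex.moduleCat_exact_iff _).mpr fun x hx => (hexS x).mp hx
        mono_f := (ModuleCat.mono_iff_injective _).mpr (LocalizedModule.map_injective S _ Subtype.val_injective)
        epi_g := (ModuleCat.epi_iff_surjective _).mpr (LocalizedModule.map_surjective S _ hf) }
    haveI hFp' : Projective T'.X₂ := by
      haveI : Module.Projective B (LocalizedModule S (Fin n → A)) :=
        Module.projective_of_isLocalizedModule S (LocalizedModule.mkLinearMap S (Fin n → A))
      exact (IsProjective.iff_projective (R := B) (LocalizedModule S (Fin n → A))).mp inferInstance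
    let NA := ModuleCat.of A N
    let NB := ModuleCat.of B (LocalizedModule S N)
    let D : Abelian.Ext T.X₁ NA k →ₗ[A] Abelian.Ext T.X₃ NA (k + 1) :=
      hT.extClass.precompOfLinear A NA (show 1 + k = k + 1 by omega)
    have hDs : Function.Surjective D := fun z =>
      Abelian.Ext.contravariant_sequence_exact₃ hT NA z (Abelian.Ext.eq_zero_of_projective _) (by omega)
    let D' : Abelian.Ext T'.X₁ NB k →ₗ[B] Abelian.Ext T'.X₃ NB (k + 1) :=
      hT'.extClass.precompOfLinear B NB (show 1 + k = k + 1 by omega)
    have hDs' : Function.Surjective D' := fun z =>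
      Abelian.Ext.contravariant_sequence_exact₃ hT' NB z (Abelian.Ext.eq_zero_of_projective _) (by omega)
    rcases k with _ | q
    · -- cokernels of restriction
      let c : (K →ₗ[A] N) →ₗ[A] Abelian.Ext T.X₃ NA 1 :=
        D ∘ₗ (Abelian.Ext.linearEquiv₀.trans ModuleCat.homLinearEquiv :
          Abelian.Ext T.X₁ NA 0 ≃ₗ[A] (K →ₗ[A] N)).symm.toLinearMap
      let c' : (LocalizedModule S K →ₗ[B] LocalizedModule S N) →ₗ[B] Abelian.Ext T'.X₃ NB 1 :=
        D' ∘ₗ (Abelian.Ext.linearEquiv₀.trans ModuleCat.homLinearEquiv :
          Abelian.Ext T'.X₁ NB 0 ≃ₗ[B] (LocalizedModule S K →ₗ[B] LocalizedModule S N)).symm.toLinearMap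
      have hc : ∀ φ, c φ = 0 ↔ ∃ ψ : (Fin n → A) →ₗ[A] N, ψ ∘ₗ K.subtype = φ := by
        intro φ
        constructor
        · intro h
          obtain ⟨y, hy⟩ := Abelian.Ext.contravariant_sequence_exact₁ hT NA _ (show 1 + 0 = 1 from rfl) h
          obtain ⟨g, rfl⟩ := (Abelian.Ext.linearEquiv₀ (R := A)).symm.surjective y
          refine ⟨g.hom, ?_⟩
          have hy' : Abelian.Ext.mk₀ (T.f ≫ g) = Abelian.Ext.mk₀ (ModuleCat.ofHom φ) := by
            rw [← Abelian.Ext.mk₀_comp_mk₀]; exact hy
          exact congrArg ModuleCat.Hom.hom ((Abelian.Ext.mk₀_bijective _ _).1 hy')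
        · rintro ⟨ψ, rfl⟩
          change hT.extClass.comp (Abelian.Ext.mk₀ (T.f ≫ ModuleCat.ofHom ψ)) (show 1 + 0 = 0 + 1 from rfl) = 0
          rw [← Abelian.Ext.mk₀_comp_mk₀]
          exact hT.extClass_comp_assoc _ (h := rfl)
      have hc' : ∀ φ, c' φ = 0 ↔ ∃ ψ : LocalizedModule S (Fin n → A) →ₗ[B] LocalizedModule S N, ψ ∘ₗ ιS = φ := by
        intro φ
        constructor
        · intro h
          obtain ⟨y, hy⟩ := Abelian.Ext.contravariant_sequence_exact₁ hT' NB _ (show 1 + 0 = 1 from rfl) h
          obtain ⟨g, rfl⟩ := (Abelian.Ext.linearEquiv₀ (R := B)).symm.surjective y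
          refine ⟨g.hom, ?_⟩
          have hy' : Abelian.Ext.mk₀ (T'.f ≫ g) = Abelian.Ext.mk₀ (ModuleCat.ofHom φ) := by
            rw [← Abelian.Ext.mk₀_comp_mk₀]; exact hy
          exact congrArg ModuleCat.Hom.hom ((Abelian.Ext.mk₀_bijective _ _).1 hy')
        · rintro ⟨ψ, rfl⟩
          change hT'.extClass.comp (Abelian.Ext.mk₀ (T'.f ≫ ModuleCat.ofHom ψ)) (show 1 + 0 = 0 + 1 from rfl) = 0
          rw [← Abelian.Ext.mk₀_comp_mk₀]
          exact hT'.extClass_comp_assoc _ (h := rfl)
      have hcs : Function.Surjective c := hDs.comp (LinearEquiv.surjective _)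
      have hcs' : Function.Surjective c' := hDs'.comp (LinearEquiv.surjective _)
      constructor
      · intro h
        rw [LocalizedModule.subsingleton_iff] at h
        refine subsingleton_of_forall_eq 0 fun z => ?_
        obtain ⟨ψ, rfl⟩ := hcs' z
        obtain ⟨⟨φ, t⟩, hφ⟩ := IsLocalizedModule.surj S (LocalizedModule.map S (M := K) (N := N)) ψ
        obtain ⟨r, hr, hrφ⟩ := h (c φ)
        rw [← map_smul, hc] at hrφ
        obtain ⟨χ, hχ⟩ := hrφ
        have hu : IsUnit (algebraMap A B (r * t)) :=
          IsLocalization.map_units B (⟨r * t, S.mul_mem hr t.2⟩ : S)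
        refine (hc' ψ).mpr ⟨(↑hu.unit⁻¹ : B) • LocalizedModule.map S χ, ?_⟩
        have h1 : LocalizedModule.map S χ ∘ₗ ιS = algebraMap A B (r * t) • ψ := by
          have h2 : LocalizedModule.map S (χ ∘ₗ K.subtype) = LocalizedModule.map S χ ∘ₗ ιS := by
            refine LinearMap.ext fun x => ?_
            induction x using LocalizedModule.induction_on with
            | _ m s => simp [ιS, LocalizedModule.map_mk]
          rw [← h2, hχ, map_smul, mul_comm r, map_mul, mul_comm, mul_smul, algebraMap_smul, algebraMap_smul]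
          exact congrArg (r • ·) hφ.symm
        rw [LinearMap.smul_comp, h1, smul_smul, IsUnit.val_inv_mul, one_smul]
      · intro h
        rw [LocalizedModule.subsingleton_iff]
        intro z
        obtain ⟨φ, rfl⟩ := hcs z
        obtain ⟨X, hX⟩ := (hc' (LocalizedModule.map S φ)).mp (Subsingleton.elim _ _)
        obtain ⟨⟨χ, t⟩, hχ⟩ := IsLocalizedModule.surj S (LocalizedModule.map S (M := Fin n → A) (N := N)) X
        have h1 : LocalizedModule.map S ((t : A) • φ) = LocalizedModule.map S (χ ∘ₗ K.subtype) := by
          have h2 : LocalizedModule.map S (χ ∘ₗ K.subtype) = LocalizedModule.map S χ ∘ₗ ιS := by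
            refine LinearMap.ext fun x => ?_
            induction x using LocalizedModule.induction_on with
            | _ m s => simp [ιS, LocalizedModule.map_mk]
          rw [h2, map_smul, ← hX]
          exact LinearMap.ext fun x => LinearMap.congr_fun hχ (ιS x)
        obtain ⟨u, hu⟩ := IsLocalizedModule.exists_of_eq (S := S) (f := LocalizedModule.map S (M := K) (N := N)) h1
        refine ⟨u * t, S.mul_mem u.2 t.2, ?_⟩
        rw [← map_smul, hc]
        exact ⟨(u : A) • χ, by rw [LinearMap.smul_comp, mul_smul]; exact hu.symm⟩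
    · have hDi : Function.Injective D := (injective_iff_map_eq_zero _).mpr fun z hz => by
        obtain ⟨y, hy⟩ := Abelian.Ext.contravariant_sequence_exact₁ hT NA z (show 1 + (q + 1) = q + 1 + 1 by omega) hz
        rw [← hy, Abelian.Ext.eq_zero_of_projective y, Abelian.Ext.comp_zero]
      have hDi' : Function.Injective D' := (injective_iff_map_eq_zero _).mpr fun z hz => by
        obtain ⟨y, hy⟩ := Abelian.Ext.contravariant_sequence_exact₁ hT' NB z (show 1 + (q + 1) = q + 1 + 1 by omega) hz
        rw [← hy, Abelian.Ext.eq_zero_of_projective y, Abelian.Ext.comp_zero]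
      exact ((subsingleton_localized_congr S (LinearEquiv.ofBijective D ⟨hDi, hDs⟩)).symm.trans (ih K N)).trans
        (LinearEquiv.ofBijective D' ⟨hDi', hDs'⟩).toEquiv.subsingleton_congr

end Groth.Agent.GorLib
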