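import Mathlib
import Groth.Agent.GorLib.Ring

/-! Finitely generated field extensions preserve Gorenstein rings. -/

set_option autoImplicit false
universe u

namespace Groth.Agent.GorLib

open TensorProduct

/-- Base change by a purely transcendental extension in one variable. -/
theorem gorensteinRing_ratFunc (k : Type u) [Field k] (R : Type u) [CommRing R] [Algebra k R]
    [LocCoh.IsGorensteinRing R] : LocCoh.IsGorensteinRing (R ⊗[k] RatFunc k) := by
  let incl : Polynomial k →ₐ[k] RatFunc k := IsScalarTower.toAlgHom k (Polynomial k) (RatFunc k)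
  let g : R ⊗[k] Polynomial k →ₐ[R] R ⊗[k] RatFunc k := Algebra.TensorProduct.map (AlgHom.id R R) incl
  letI : Algebra (R ⊗[k] Polynomial k) (R ⊗[k] RatFunc k) := g.toRingHom.toAlgebra
  haveI : IsScalarTower R (R ⊗[k] Polynomial k) (R ⊗[k] RatFunc k) :=
    IsScalarTower.of_algebraMap_eq fun r => (g.commutes r).symm
  haveI := IsLocalization.tensorProduct_tensorProduct_right k R (A := Polynomial k) (nonZeroDivisors (Polynomial k))
    (RatFunc k) (by
      refine RingHom.ext fun a => ?_
      show g (1 ⊗ₜ[k] a) = 1 ⊗ₜ[k] algebraMap (Polynomial k) (RatFunc k) a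
      simp [g, incl])
  haveI : LocCoh.IsGorensteinRing (R ⊗[k] Polynomial k) :=
    gorensteinRing_of_ringEquiv (polyEquivTensor k R).toRingEquiv (gorensteinRing_polynomial R)
  exact gorensteinRing_of_isLocalization
    ((nonZeroDivisors (Polynomial k)).map (Algebra.TensorProduct.includeRight (R := k) (A := R))) _

/-- Base change by a finite simple extension. -/
theorem gorensteinRing_adjoinRoot (k : Type u) [Field k] (R : Type u) [CommRing R] [Algebra k R]
    [hR : LocCoh.IsGorensteinRing R] (p : Polynomial k) (hp : p.Monic) :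
    LocCoh.IsGorensteinRing (R ⊗[k] AdjoinRoot p) := by
  haveI := gorensteinRing_polynomial R
  haveI : LocCoh.IsGorensteinRing (R ⊗[k] k) :=
    gorensteinRing_of_ringEquiv (Algebra.TensorProduct.rid k R R).symm.toRingEquiv hR
  haveI := gorensteinRing_polynomial (R ⊗[k] k)
  let q := p.map (Algebra.TensorProduct.includeRight (R := k) (A := R) (B := k)).toRingHom
  have hq : q.Monic := hp.map _
  have hreg : IsSMulRegular (Polynomial (R ⊗[k] k)) q := fun a b hab => hq.isRegular.left hab
  exact gorensteinRing_of_ringEquiv (AdjoinRoot.tensorAlgEquiv (R := k) (T := R) p q rfl).toRingEquiv.symm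
    (gorensteinRing_quot _ q hreg)

theorem gorensteinRing_simple (L K : Type u) [Field L] [Field K] [Algebra L K] (x : K) (R : Type u) [CommRing R]
    [Algebra L R] [LocCoh.IsGorensteinRing R] :
    LocCoh.IsGorensteinRing (R ⊗[L] IntermediateField.adjoin L ({x} : Set K)) := by
  by_cases hx : IsIntegral L x
  · exact gorensteinRing_of_ringEquiv
      (Algebra.TensorProduct.congr (AlgEquiv.refl (A₁ := R) (R := L))
        (IntermediateField.adjoinRootEquivAdjoin L hx)).toRingEquiv
      (gorensteinRing_adjoinRoot L R (minpoly L x) (minpoly.monic hx))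
  · have ht : Transcendental L x := fun ha => hx ha.isIntegral
    exact gorensteinRing_of_ringEquiv
      (Algebra.TensorProduct.congr (AlgEquiv.refl (A₁ := R) (R := L))
        (RatFunc.algEquivOfTranscendental x ht)).toRingEquiv
      (gorensteinRing_ratFunc L R)

theorem gorensteinRing_baseChange (k K : Type u) [Field k] [Field K] [Algebra k K]
    (hK : ∃ s : Finset K, IntermediateField.adjoin k (s : Set K) = ⊤) (R : Type u) [CommRing R] [Algebra k R]
    [LocCoh.IsGorensteinRing R] : LocCoh.IsGorensteinRing (K ⊗[k] R) := by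
  obtain ⟨s, hs⟩ := hK
  have key : ∀ L : IntermediateField k K, L.FG → ∀ (R : Type u) [CommRing R] [Algebra k R] [LocCoh.IsGorensteinRing R],
      LocCoh.IsGorensteinRing (L ⊗[k] R) := by
    refine IntermediateField.induction_on_adjoin_fg (fun L : IntermediateField k K => ∀ (R : Type u) [CommRing R]
      [Algebra k R] [LocCoh.IsGorensteinRing R], LocCoh.IsGorensteinRing (L ⊗[k] R)) ?_ ?_
    · intro R _ _ hR
      exact gorensteinRing_of_ringEquiv ((Algebra.TensorProduct.congr (IntermediateField.botEquiv k K)
        (AlgEquiv.refl (A₁ := R) (R := k))).trans (Algebra.TensorProduct.lid k R)).symm.toRingEquiv hR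
    · intro L x ih R _ _ _
      haveI := ih R
      have h1 := gorensteinRing_simple L K x (L ⊗[k] R)
      exact gorensteinRing_of_ringEquiv
        ((Algebra.TensorProduct.comm L (L ⊗[k] R) (IntermediateField.adjoin L ({x} : Set K))).toRingEquiv.trans
          (Algebra.TensorProduct.cancelBaseChange k L L (IntermediateField.adjoin L ({x} : Set K)) R).toRingEquiv) h1
  exact gorensteinRing_of_ringEquiv
    (Algebra.TensorProduct.congr ((IntermediateField.equivOfEq hs).trans IntermediateField.topEquiv)
      (AlgEquiv.refl (A₁ := R) (R := k))).toRingEquiv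
    (key _ (IntermediateField.fg_adjoin_finset s) R)

end Groth.Agent.GorLib

namespace Groth.Agent.GorLib

open TensorProduct IsLocalRing

theorem essFiniteType_of_adjoin (k K : Type u) [Field k] [Field K] [Algebra k K]
    (hK : ∃ s : Finset K, IntermediateField.adjoin k (s : Set K) = ⊤) : Algebra.EssFiniteType k K :=
  IntermediateField.fg_top_iff.mp (hK.choose_spec ▸ IntermediateField.fg_adjoin_finset hK.choose)

theorem exists_adjoin_of_essFiniteType (k K : Type u) [Field k] [Field K] [Algebra k K] [Algebra.EssFiniteType k K] :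
    ∃ s : Finset K, IntermediateField.adjoin k (s : Set K) = ⊤ :=
  IntermediateField.fg_top_iff.mpr inferInstance

/-- The fibres of `B → B ⊗ k'` are Gorenstein when `k'` is finitely generated over `k`. -/
theorem gorenstein_iff_baseChange (k k' : Type u) [Field k] [Field k'] [Algebra k k'] (B : Type u) [CommRing B]
    [IsNoetherianRing B] [Algebra k B] [IsNoetherianRing (B ⊗[k] k')]
    (hfib : ∀ (p : Ideal B) [p.IsPrime], LocCoh.IsGorensteinRing (p.ResidueField ⊗[k] k'))
    (q : Ideal (B ⊗[k] k')) [q.IsPrime] :
    LocCoh.IsGorensteinLocalRing (Localization.AtPrime (q.comap (algebraMap B (B ⊗[k] k')))) ↔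
      LocCoh.IsGorensteinLocalRing (Localization.AtPrime q) := by
  let p := q.comap (algebraMap B (B ⊗[k] k'))
  let Q := PrimeSpectrum.primesOverOrderIsoFiber B (B ⊗[k] k') p ⟨q, ⟨inferInstance, ⟨rfl⟩⟩⟩
  have hQ : q = Q.asIdeal.comap Algebra.TensorProduct.includeRight := by
    have := PrimeSpectrum.coe_primesOverOrderIsoFiber_symm_apply (R := B) (S := B ⊗[k] k') p Q
    rw [OrderIso.symm_apply_apply] at this
    exact this
  haveI : LocCoh.IsGorensteinRing (p.Fiber (B ⊗[k] k')) :=
    gorensteinRing_of_ringEquiv (Algebra.TensorProduct.cancelBaseChange k B B p.ResidueField k').toRingEquiv.symm (hfib p)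
  rw [gorenstein_fiber_iff p Q.asIdeal q hQ]
  exact ⟨fun h => ⟨h, LocCoh.IsGorensteinRing.isGorensteinLocalRing_localization _⟩, fun h => h.1⟩

end Groth.Agent.GorLib
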