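import Mathlib
import Groth.Agent.GorLib.TopHull
import Groth.Agent.LocCohLib.MaxIdeal
import Groth.Agent.LocCohLib.LocallyFree
import Groth.Agent.LocCohLib.Vanishing

/-! Local duality over a Gorenstein local ring. -/

set_option autoImplicit false
universe u

namespace Groth.Agent.GorLib

open CategoryTheory Limits IsLocalRing LocCohLib

variable {A : Type u} [CommRing A]

section psi

variable (I : Ideal A) (d : ℕ)

/-- `z ↦ (φ ↦ H(φ) z)`. -/
noncomputable def dualMap (M : Type u) [AddCommGroup M] [Module A M] :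
    ((localCohomology I d).obj (ModuleCat.of A M) : Type u) →ₗ[A] (M →ₗ[A] A) →ₗ[A] ((localCohomology I d).obj (ModuleCat.of A A) : Type u) :=
  LinearMap.flip
    { toFun := fun φ => ((localCohomology I d).map (ModuleCat.ofHom φ)).hom
      map_add' := fun φ ψ => by
        rw [ModuleCat.ofHom_add, Functor.map_add, ModuleCat.hom_add]
      map_smul' := fun r φ => LinearMap.ext fun z => by
        rw [show ModuleCat.ofHom (r • φ) = ModuleCat.ofHom φ ≫ (r • 𝟙 (ModuleCat.of A A)) from by
          ext x; rfl, Functor.map_comp, ModuleCat.hom_comp, LinearMap.comp_apply, map_smul_id]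
        rfl }

lemma dualMap_apply (M : Type u) [AddCommGroup M] [Module A M]
    (z : (localCohomology I d).obj (ModuleCat.of A M)) (φ : M →ₗ[A] A) :
    dualMap I d M z φ = ((localCohomology I d).map (ModuleCat.ofHom φ)).hom z := rfl

lemma dualMap_natural {M N : Type u} [AddCommGroup M] [Module A M] [AddCommGroup N] [Module A N]
    (f : M →ₗ[A] N) (z : (localCohomology I d).obj (ModuleCat.of A M)) :
    dualMap I d N (((localCohomology I d).map (ModuleCat.ofHom f)).hom z) =
      (dualMap I d M z) ∘ₗ LinearMap.lcomp A A f := by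
  refine LinearMap.ext fun φ => ?_
  rw [dualMap_apply, LinearMap.comp_apply, dualMap_apply]
  change _ = ((localCohomology I d).map (ModuleCat.ofHom (φ ∘ₗ f))).hom z
  rw [ModuleCat.ofHom_comp, Functor.map_comp]
  rfl

lemma bijective_dualMap_free (n : ℕ) : Function.Bijective (dualMap I d (Fin n → A)) := by
  have hdec : 𝟙 (ModuleCat.of A (Fin n → A)) = ∑ k : Fin n,
      ModuleCat.ofHom (LinearMap.proj k : (Fin n → A) →ₗ[A] A) ≫
        ModuleCat.ofHom (LinearMap.single A (fun _ : Fin n => A) k) := by
    ext x j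
    simp
  have hz : ∀ z : (localCohomology I d).obj (ModuleCat.of A (Fin n → A)), z = ∑ k : Fin n,
      ((localCohomology I d).map (ModuleCat.ofHom (LinearMap.single A (fun _ : Fin n => A) k))).hom
        (dualMap I d _ z (LinearMap.proj k)) := fun z => by
    have := congrArg (fun φ => ((localCohomology I d).map φ).hom z) hdec
    simpa only [CategoryTheory.Functor.map_id, CategoryTheory.Functor.map_sum, ModuleCat.hom_id,
      LinearMap.id_coe, id_eq, ModuleCat.hom_sum, LinearMap.coe_sum, Finset.sum_apply,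
      CategoryTheory.Functor.map_comp, ModuleCat.hom_comp, LinearMap.coe_comp, Function.comp_apply,
      dualMap_apply] using this
  constructor
  · rw [injective_iff_map_eq_zero]
    intro z h0
    rw [hz z]
    simp [h0]
  · intro ξ
    refine ⟨∑ k : Fin n, ((localCohomology I d).map (ModuleCat.ofHom (LinearMap.single A (fun _ : Fin n => A) k))).hom
      (ξ (LinearMap.proj k)), LinearMap.ext fun φ => ?_⟩
    rw [map_sum, LinearMap.sum_apply]
    have hφ : φ = ∑ k : Fin n, φ (Pi.single k 1) • (LinearMap.proj k : (Fin n → A) →ₗ[A] A) := by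
      ext j
      simp [Pi.single_apply]
    conv_rhs => rw [hφ, map_sum]
    refine Finset.sum_congr rfl fun k _ => ?_
    rw [dualMap_natural, LinearMap.comp_apply, dualMap_apply, LinearMap.lcomp_apply']
    have he : ModuleCat.ofHom (φ ∘ₗ LinearMap.single A (fun _ : Fin n => A) k) =
        φ (Pi.single k 1) • 𝟙 (ModuleCat.of A A) := by
      refine ModuleCat.hom_ext (LinearMap.ext fun x => ?_)
      have hx : Pi.single k x = x • (Pi.single k 1 : Fin n → A) := by
        rw [← Pi.single_smul, smul_eq_mul, mul_one]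
      change φ (Pi.single k x) = φ (Pi.single k 1) • x
      rw [hx, map_smul, smul_eq_mul, smul_eq_mul, mul_comm]
    rw [he, map_smul_id, map_smul]

variable [IsNoetherianRing A]

variable (hcd : LocCoh.CdLE A I d) (hE : Module.Injective A ((localCohomology I d).obj (ModuleCat.of A A) : Type u))

include hcd hE in
theorem surjective_dualMap (M : Type u) [AddCommGroup M] [Module A M] [Module.Finite A M] :
    Function.Surjective (dualMap I d M) := by
  obtain ⟨n, f, hf⟩ := Module.Finite.exists_fin' A M
  intro ξ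
  -- `Hom(M, A) → Hom(F, A)` is injective and `E` is injective
  obtain ⟨ξ', hξ'⟩ := Module.Injective.out (LinearMap.lcomp A A f)
    (fun φ ψ h => LinearMap.ext fun x => by
      obtain ⟨y, rfl⟩ := hf x; exact LinearMap.congr_fun h y) ξ
  obtain ⟨w, rfl⟩ := (bijective_dualMap_free I d n).2 ξ'
  exact ⟨((localCohomology I d).map (ModuleCat.ofHom f)).hom w, by
    rw [dualMap_natural]; exact LinearMap.ext hξ'⟩

include hcd hE in
theorem bijective_dualMap (M : Type u) [AddCommGroup M] [Module A M] [Module.Finite A M] :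
    Function.Bijective (dualMap I d M) := by
  refine ⟨?_, surjective_dualMap I d hcd hE M⟩
  obtain ⟨n, f, hf⟩ := Module.Finite.exists_fin' A M
  let K := LinearMap.ker f
  haveI : Module.Finite A K := Module.Finite.of_fg (IsNoetherian.noetherian K)
  let S : ShortComplex (ModuleCat.{u} A) := ShortComplex.mk (ModuleCat.ofHom K.subtype) (ModuleCat.ofHom f)
    (by ext x; exact x.2)
  have hS : S.ShortExact :=
    { exact := (ShortComplex.moduleCat_exact_iff _).mpr fun x hx => ⟨⟨x, hx⟩, rfl⟩
      mono_f := (ModuleCat.mono_iff_injective _).mpr Subtype.val_injective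
      epi_g := (ModuleCat.epi_iff_surjective _).mpr hf }
  rw [injective_iff_map_eq_zero]
  intro z hz
  obtain ⟨w, rfl⟩ : ∃ w, ((localCohomology I d).map S.g).hom w = z := by
    haveI := hcd (S.X₁ : Type u) (d + 1) (Nat.lt_succ_self d)
    exact exists_of_δ_eq_zero I hS d z (Subsingleton.elim (α := LocCoh.H I (d + 1) (S.X₁ : Type u)) _ _)
  change dualMap I d M (((localCohomology I d).map (ModuleCat.ofHom f)).hom w) = 0 at hz
  rw [dualMap_natural] at hz
  -- `dualMap w` kills `Hom(M, A)`, hence factors through `Hom(F, A) → Hom(K, A)`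
  let res := LinearMap.lcomp A A K.subtype
  have hle : LinearMap.ker res ≤ LinearMap.ker (dualMap I d _ w) := by
    intro ψ hψ
    have hk : LinearMap.ker f ≤ LinearMap.ker ψ := fun x hx => LinearMap.congr_fun hψ ⟨x, hx⟩
    let φ : M →ₗ[A] A := (LinearMap.ker f).liftQ ψ hk ∘ₗ (f.quotKerEquivOfSurjective hf).symm.toLinearMap
    have hφ : φ ∘ₗ f = ψ := LinearMap.ext fun x => by
      rw [LinearMap.comp_apply, LinearMap.comp_apply,
        show (f.quotKerEquivOfSurjective hf).symm.toLinearMap (f x) = Submodule.Quotient.mk x from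
          (LinearEquiv.symm_apply_eq _).mpr rfl]
      rfl
    rw [LinearMap.mem_ker, ← hφ]
    exact LinearMap.congr_fun hz φ
  obtain ⟨η, hη⟩ := Module.Injective.out ((LinearMap.ker res).liftQ res le_rfl)
    (LinearMap.ker_eq_bot.mp (Submodule.ker_liftQ_eq_bot _ _ _ le_rfl))
    ((LinearMap.ker res).liftQ (dualMap I d _ w) hle)
  obtain ⟨k, hk⟩ := surjective_dualMap I d hcd hE K η
  have hw : ((localCohomology I d).map S.f).hom k = w := by
    refine (bijective_dualMap_free I d n).1 ?_
    change dualMap I d (Fin n → A) (((localCohomology I d).map (ModuleCat.ofHom K.subtype)).hom k) = _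
    rw [dualMap_natural, hk]
    exact LinearMap.ext fun ψ => hη (Submodule.Quotient.mk ψ)
  rw [← hw, map_g_map_f]

end psi

variable [IsLocalRing A] [IsNoetherianRing A]

lemma injective_topH (hG : LocCoh.IsGorensteinLocalRing A) {d : ℕ} (hd : ringKrullDim A = d) :
    Module.Injective A ((localCohomology (maximalIdeal A) d).obj (ModuleCat.of A A) : Type u) := by
  obtain ⟨g, hg⟩ := exists_hull_H hG hd
  exact hg.isInjective

/-- Local duality. -/
theorem local_duality (hG : LocCoh.IsGorensteinLocalRing A) {d : ℕ} (hd : ringKrullDim A = d) :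
    ∀ (p : ℕ) (j : ℕ), j + p = d → ∀ (M : Type u) [AddCommGroup M] [Module A M] [Module.Finite A M],
      Nonempty (((localCohomology (maximalIdeal A) j).obj (ModuleCat.of A M) : Type u) ≃ₗ[A]
        (Abelian.Ext (ModuleCat.of A M) (ModuleCat.of A A) p →ₗ[A]
          ((localCohomology (maximalIdeal A) d).obj (ModuleCat.of A A) : Type u))) := by
  have hE := injective_topH hG hd
  have hcd : LocCoh.CdLE A (maximalIdeal A) d := cdLE_of_ringKrullDim_local _ d hd.le
  set m := maximalIdeal A
  set AA := ModuleCat.of A A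
  intro p
  induction p with
  | zero =>
    intro j hj M _ _ _
    obtain rfl : j = d := by omega
    let e₀ : Abelian.Ext (ModuleCat.of A M) AA 0 ≃ₗ[A] (M →ₗ[A] A) :=
      Abelian.Ext.linearEquiv₀.trans ModuleCat.homLinearEquiv
    exact ⟨LinearEquiv.ofBijective _ (bijective_dualMap m j hcd hE M) ≪≫ₗ
      e₀.symm.arrowCongr (LinearEquiv.refl A _)⟩
  | succ p ih =>
    intro j hj M _ _ _
    obtain ⟨n, f, hf⟩ := Module.Finite.exists_fin' A M
    let K := LinearMap.ker f
    haveI : Module.Finite A K := Module.Finite.of_fg (IsNoetherian.noetherian K)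
    let S : ShortComplex (ModuleCat.{u} A) := ShortComplex.mk (ModuleCat.ofHom K.subtype) (ModuleCat.ofHom f)
      (by ext x; exact x.2)
    have hS : S.ShortExact :=
      { exact := (ShortComplex.moduleCat_exact_iff _).mpr fun x hx => ⟨⟨x, hx⟩, rfl⟩
        mono_f := (ModuleCat.mono_iff_injective _).mpr Subtype.val_injective
        epi_g := (ModuleCat.epi_iff_surjective _).mpr hf }
    haveI hFp : Projective S.X₂ := (IsProjective.iff_projective (R := A) (Fin n → A)).mp inferInstance
    have hF : ∀ i : ℕ, i ≠ d → Subsingleton ((localCohomology m i).obj S.X₂ : Type u) := fun i hi =>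
      subsingleton_H_pi m i A (subsingleton_H_ne hG hd i hi) n
    haveI := hF j (by omega)
    have hinj : Function.Injective (δ m hS j) := (injective_iff_map_eq_zero _).mpr fun z hz => by
      obtain ⟨w, rfl⟩ := exists_of_δ_eq_zero m hS j z hz
      rw [Subsingleton.elim w 0, map_zero]
    let D : Abelian.Ext S.X₁ AA p →ₗ[A] Abelian.Ext S.X₃ AA (p + 1) :=
      hS.extClass.precompOfLinear A AA (show 1 + p = p + 1 by omega)
    have hDs : Function.Surjective D := fun z =>
      Abelian.Ext.contravariant_sequence_exact₃ hS AA z (Abelian.Ext.eq_zero_of_projective _) (by omega)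
    rcases p with _ | q
    · -- `p + 1 = 1`
      obtain rfl : j + 1 = d := by omega
      let c : (K →ₗ[A] A) →ₗ[A] Abelian.Ext S.X₃ AA 1 :=
        D ∘ₗ (Abelian.Ext.linearEquiv₀.trans ModuleCat.homLinearEquiv :
          Abelian.Ext S.X₁ AA 0 ≃ₗ[A] (K →ₗ[A] A)).symm.toLinearMap
      have hcs : Function.Surjective c := hDs.comp (LinearEquiv.surjective _)
      have hc : ∀ φ, c φ = 0 ↔ ∃ ψ : (Fin n → A) →ₗ[A] A, ψ ∘ₗ K.subtype = φ := by
        intro φ
        constructor
        · intro h
          obtain ⟨y, hy⟩ := Abelian.Ext.contravariant_sequence_exact₁ hS AA _ (show 1 + 0 = 1 from rfl) h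
          obtain ⟨g, rfl⟩ := (Abelian.Ext.linearEquiv₀ (R := A)).symm.surjective y
          refine ⟨g.hom, ?_⟩
          have hy' : Abelian.Ext.mk₀ (S.f ≫ g) = Abelian.Ext.mk₀ (ModuleCat.ofHom φ) := by
            rw [← Abelian.Ext.mk₀_comp_mk₀]; exact hy
          exact congrArg ModuleCat.Hom.hom ((Abelian.Ext.mk₀_bijective _ _).1 hy')
        · rintro ⟨ψ, rfl⟩
          change hS.extClass.comp (Abelian.Ext.mk₀ (S.f ≫ ModuleCat.ofHom ψ)) (show 1 + 0 = 0 + 1 from rfl) = 0
          rw [← Abelian.Ext.mk₀_comp_mk₀]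
          exact hS.extClass_comp_assoc _ (h := rfl)
      let e₁ : ((localCohomology m j).obj S.X₃ : Type u) →ₗ[A] (K →ₗ[A] A) →ₗ[A] LocCoh.H m (j + 1) A :=
        dualMap m (j + 1) K ∘ₗ δ m hS j
      let e₂ := LinearMap.lcomp A (LocCoh.H m (j + 1) A) c
      have h1 : Function.Injective e₁ := (bijective_dualMap m (j + 1) hcd hE K).1.comp hinj
      have h2 : Function.Injective e₂ := fun u v h => LinearMap.ext fun x => by
        obtain ⟨y, rfl⟩ := hcs x
        exact LinearMap.congr_fun h y
      have hr : LinearMap.range e₁ = LinearMap.range e₂ := by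
        refine le_antisymm ?_ ?_
        · rintro _ ⟨z, rfl⟩
          have hle : LinearMap.ker c ≤ LinearMap.ker (e₁ z) := fun φ hφ => by
            obtain ⟨ψ, rfl⟩ := (hc φ).mp hφ
            have h0 := congrArg (fun t => dualMap m (j + 1) (Fin n → A) t ψ) (map_f_δ m hS j z)
            simp only [map_zero, LinearMap.zero_apply] at h0
            rw [LinearMap.mem_ker]
            refine Eq.trans ?_ h0
            exact (LinearMap.congr_fun (dualMap_natural m (j + 1) K.subtype (δ m hS j z)) ψ).symm
          refine ⟨(LinearMap.ker c).liftQ (e₁ z) hle ∘ₗ (c.quotKerEquivOfSurjective hcs).symm.toLinearMap,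
            LinearMap.ext fun φ => ?_⟩
          change ((LinearMap.ker c).liftQ (e₁ z) hle ∘ₗ _) (c φ) = _
          rw [LinearMap.comp_apply,
            show (c.quotKerEquivOfSurjective hcs).symm.toLinearMap (c φ) = Submodule.Quotient.mk φ from
              (LinearEquiv.symm_apply_eq _).mpr rfl]
          rfl
        · rintro _ ⟨η, rfl⟩
          obtain ⟨k, hk⟩ := (bijective_dualMap m (j + 1) hcd hE K).2 (e₂ η)
          have hk0 : ((localCohomology m (j + 1)).map S.f).hom k = 0 := by
            refine (bijective_dualMap_free m (j + 1) n).1 ?_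
            change dualMap m (j + 1) (Fin n → A) (((localCohomology m (j + 1)).map (ModuleCat.ofHom K.subtype)).hom k) = _
            rw [dualMap_natural, hk, map_zero]
            refine LinearMap.ext fun ψ => ?_
            change η (c (ψ ∘ₗ K.subtype)) = 0
            rw [(hc _).mpr ⟨ψ, rfl⟩, map_zero]
          obtain ⟨z, rfl⟩ := exists_of_map_f_eq_zero m hS j k hk0
          exact ⟨z, hk⟩
      exact ⟨LinearEquiv.ofInjective e₁ h1 ≪≫ₗ LinearEquiv.ofEq _ _ hr ≪≫ₗ (LinearEquiv.ofInjective e₂ h2).symm⟩
    · haveI := hF (j + 1) (by omega)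
      have hsurj : Function.Surjective (δ m hS j) := fun k =>
        exists_of_map_f_eq_zero m hS j k (Subsingleton.elim _ _)
      have hDi : Function.Injective D := (injective_iff_map_eq_zero _).mpr fun z hz => by
        obtain ⟨y, hy⟩ := Abelian.Ext.contravariant_sequence_exact₁ hS AA z (show 1 + (q + 1) = q + 1 + 1 by omega) hz
        rw [← hy, Abelian.Ext.eq_zero_of_projective y, Abelian.Ext.comp_zero]
      obtain ⟨e⟩ := ih (j + 1) (by omega) K
      exact ⟨LinearEquiv.ofBijective _ ⟨hinj, hsurj⟩ ≪≫ₗ e ≪≫ₗ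
        (LinearEquiv.ofBijective D ⟨hDi, hDs⟩).arrowCongr (LinearEquiv.refl A _)⟩

/-- `Hom(-, E)` detects zero and has the same annihilator. -/
lemma smul_dual_eq_zero_iff {E : Type u} [AddCommGroup E] [Module A E] {g : ResidueField A →ₗ[A] E}
    (hg : InjHull.IsInjectiveHull g) {N : Type u} [AddCommGroup N] [Module A N] (a : A) :
    (∀ ξ : N →ₗ[A] E, a • ξ = 0) ↔ ∀ x : N, a • x = 0 := by
  refine ⟨fun h x => by_contra fun hx => ?_, fun h ξ => LinearMap.ext fun x => ?_⟩
  · obtain ⟨ξ, hξ⟩ := InjHullLib.exists_ne_zero hg hx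
    exact hξ ((map_smul ξ a x).trans (LinearMap.congr_fun (h ξ) x))
  · rw [LinearMap.smul_apply, ← map_smul, h, map_zero, LinearMap.zero_apply]

/-- `H^j(M) = 0` iff `Ext^(d-j)(M, A) = 0`. -/
theorem subsingleton_H_iff_ext (hG : LocCoh.IsGorensteinLocalRing A) {d : ℕ} (hd : ringKrullDim A = d)
    (M : Type u) [AddCommGroup M] [Module A M] [Module.Finite A M] (j p : ℕ) (hjp : j + p = d) :
    Subsingleton ((localCohomology (maximalIdeal A) j).obj (ModuleCat.of A M) : Type u) ↔
      Subsingleton (Abelian.Ext (ModuleCat.of A M) (ModuleCat.of A A) p) := by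
  obtain ⟨e⟩ := local_duality hG hd p j hjp M
  obtain ⟨g, hg⟩ := exists_hull_H hG hd
  constructor
  · intro h
    refine subsingleton_of_forall_eq 0 fun x => by_contra fun hx => ?_
    obtain ⟨ξ, hξ⟩ := InjHullLib.exists_ne_zero hg hx
    haveI := e.symm.toEquiv.subsingleton
    exact hξ (by rw [Subsingleton.elim ξ 0]; rfl)
  · intro h
    haveI : Subsingleton (Abelian.Ext (ModuleCat.of A M) (ModuleCat.of A A) p →ₗ[A]
        ((localCohomology (maximalIdeal A) d).obj (ModuleCat.of A A) : Type u)) :=
      subsingleton_of_forall_eq 0 fun ξ => LinearMap.ext fun x => by rw [Subsingleton.elim x 0, map_zero, map_zero]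
    exact e.toEquiv.subsingleton

/-- `a` kills `H^j(M)` iff it kills `Ext^(d-j)(M, A)`. -/
theorem smul_H_iff_ext (hG : LocCoh.IsGorensteinLocalRing A) {d : ℕ} (hd : ringKrullDim A = d)
    (M : Type u) [AddCommGroup M] [Module A M] [Module.Finite A M] (j p : ℕ) (hjp : j + p = d) (a : A) :
    (∀ x : (localCohomology (maximalIdeal A) j).obj (ModuleCat.of A M), a • x = 0) ↔
      ∀ x : Abelian.Ext (ModuleCat.of A M) (ModuleCat.of A A) p, a • x = 0 := by
  obtain ⟨e⟩ := local_duality hG hd p j hjp M
  obtain ⟨g, hg⟩ := exists_hull_H hG hd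
  rw [← smul_dual_eq_zero_iff (N := Abelian.Ext (ModuleCat.of A M) (ModuleCat.of A A) p) hg a]
  exact ⟨fun h ξ => by rw [← e.apply_symm_apply ξ, ← map_smul, h, map_zero],
    fun h x => e.injective (by rw [map_smul, h, map_zero])⟩

/-- Over a local ring, `H^j_m(M)` vanishes above `dim A`. -/
theorem subsingleton_H_above {d : ℕ} (hd : ringKrullDim A ≤ d) (M : Type u) [AddCommGroup M] [Module A M]
    (j : ℕ) (hj : d < j) : Subsingleton ((localCohomology (maximalIdeal A) j).obj (ModuleCat.of A M) : Type u) :=
  cdLE_of_ringKrullDim_local _ d hd M j hj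

end Groth.Agent.GorLib
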