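import Mathlib
import Groth.Agent.GorLib.ExtLoc
import Groth.Agent.GorLib.Heights
import Groth.Agent.GorLib.LocalDuality
import Groth.Agent.LocCohLib.Flasque
import Groth.Prelude.Def_SGA2

/-! Vanishing and annihilation of local cohomology at the points, over Gorenstein rings and their quotients. -/

set_option autoImplicit false
universe u

namespace Groth.Agent.GorLib

open CategoryTheory Limits IsLocalRing LocCohLib

/-- The group `H^j` at the prime `P`. -/
abbrev LocH {R : Type u} [CommRing R] (P : Ideal R) [P.IsPrime] (j : ℕ) (M : Type u) [AddCommGroup M] [Module R M] :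
    Type u :=
  (localCohomology (maximalIdeal (Localization.AtPrime P)) j).obj
    (ModuleCat.of (Localization.AtPrime P) (LocalizedModule P.primeCompl M))

lemma subsingleton_ext_congr_right {R : Type u} [CommRing R] {X Y Y' : ModuleCat.{u} R} (e : Y ≅ Y') (n : ℕ) :
    Subsingleton (Abelian.Ext X Y n) ↔ Subsingleton (Abelian.Ext X Y' n) := by
  constructor
  · intro h
    refine subsingleton_of_forall_eq 0 fun a => ?_
    have : a = (a.comp (Abelian.Ext.mk₀ e.inv) (add_zero n)).comp (Abelian.Ext.mk₀ e.hom) (add_zero n) := by simp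
    rw [this, Subsingleton.elim (a.comp (Abelian.Ext.mk₀ e.inv) (add_zero n)) 0, Abelian.Ext.zero_comp]
  · intro h
    refine subsingleton_of_forall_eq 0 fun a => ?_
    have : a = (a.comp (Abelian.Ext.mk₀ e.hom) (add_zero n)).comp (Abelian.Ext.mk₀ e.inv) (add_zero n) := by simp
    rw [this, Subsingleton.elim (a.comp (Abelian.Ext.mk₀ e.hom) (add_zero n)) 0, Abelian.Ext.zero_comp]

variable {R : Type u} [CommRing R] [IsNoetherianRing R]

lemma ringKrullDim_localization {P : Ideal R} [P.IsPrime] {n : ℕ} (h : P.height = n) :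
    ringKrullDim (Localization.AtPrime P) = n := by
  rw [IsLocalization.AtPrime.ringKrullDim_eq_height P (Localization.AtPrime P), h]
  rfl

theorem subsingleton_localized_ext_iff (hR : LocCoh.IsGorensteinRing R) (P : Ideal R) [P.IsPrime] (M : Type u)
    [AddCommGroup M] [Module R M] [Module.Finite R M] (k j n : ℕ) (hn : P.height = n) (hkj : k + j = n) :
    Subsingleton (LocalizedModule P.primeCompl (Abelian.Ext (ModuleCat.of R M) (ModuleCat.of R R) k)) ↔
      Subsingleton (LocH P j M) := by
  haveI hG := hR.isGorensteinLocalRing_localization P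
  rw [subsingleton_ext_localized_iff P.primeCompl k M R,
    subsingleton_ext_congr_right (Depth.localizedSelfEquiv P).toModuleIso k]
  exact (subsingleton_H_iff_ext hG (ringKrullDim_localization hn) _ j k (by omega)).symm

theorem subsingleton_localized_ext_of_height_lt (hR : LocCoh.IsGorensteinRing R) (P : Ideal R) [P.IsPrime] (M : Type u)
    [AddCommGroup M] [Module R M] [Module.Finite R M] (k n : ℕ) (hn : P.height = n) (hk : n < k) :
    Subsingleton (LocalizedModule P.primeCompl (Abelian.Ext (ModuleCat.of R M) (ModuleCat.of R R) k)) := by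
  haveI hG := hR.isGorensteinLocalRing_localization P
  rw [subsingleton_ext_localized_iff P.primeCompl k M R,
    subsingleton_ext_congr_right (Depth.localizedSelfEquiv P).toModuleIso k]
  haveI := (injectiveDimension_local n (Localization.AtPrime P) hG (ringKrullDim_localization hn).le).1
  exact HasInjectiveDimensionLT.subsingleton (ModuleCat.of (Localization.AtPrime P) (Localization.AtPrime P))
    (n + 1) k (by omega) (ModuleCat.of (Localization.AtPrime P) (LocalizedModule P.primeCompl M))

lemma subsingleton_LocH_of_height_lt (P : Ideal R) [P.IsPrime] (M : Type u) [AddCommGroup M] [Module R M]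
    (j n : ℕ) (hn : P.height = n) (hj : n < j) : Subsingleton (LocH P j M) :=
  subsingleton_H_above (ringKrullDim_localization hn).le _ j hj

lemma exists_height_eq (P : Ideal R) [hP : P.IsPrime] : ∃ n : ℕ, P.height = n :=
  ENat.ne_top_iff_exists.mp (Ideal.height_ne_top hP.ne_top) |>.imp fun _ hx => hx.symm

/-- One step up: `H^(j+1)` at `Q` controls `H^j` at `P` if `ht Q = ht P + 1`. -/
theorem subsingleton_LocH_of_adjacent (hR : LocCoh.IsGorensteinRing R) (P Q : Ideal R) [P.IsPrime] [Q.IsPrime]
    (hPQ : P ≤ Q) (hht : Q.height = P.height + 1) (M : Type u) [AddCommGroup M] [Module R M] [Module.Finite R M]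
    (j : ℕ) (h : Subsingleton (LocH Q (j + 1) M)) : Subsingleton (LocH P j M) := by
  obtain ⟨n, hn⟩ := exists_height_eq P
  rcases lt_or_ge n j with hj | hj
  · exact subsingleton_LocH_of_height_lt P M j n hn hj
  have hQn : Q.height = (n + 1 : ℕ) := by rw [hht, hn]; rfl
  have h1 := (subsingleton_localized_ext_iff hR Q M (n - j) (j + 1) (n + 1) hQn (by omega)).mpr h
  rw [← subsingleton_localized_ext_iff hR P M (n - j) j n hn (by omega)]
  rw [LocalizedModule.subsingleton_iff] at h1 ⊢
  exact fun x => let ⟨r, hr, hrx⟩ := h1 x; ⟨r, fun hrP => hr (hPQ hrP), hrx⟩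

/-- Over a Gorenstein local ring: the support of the annihilated part. -/
theorem le_radical_annihilator_iff [IsLocalRing R] (hG : LocCoh.IsGorensteinLocalRing R) (M : Type u) [AddCommGroup M]
    [Module R M] [Module.Finite R M] (J : Ideal R) (i : ℕ) :
    J ≤ (Module.annihilator R ((localCohomology (maximalIdeal R) i).obj (ModuleCat.of R M) : Type u)).radical ↔
      ∀ (P : Ideal R) [P.IsPrime], ¬ J ≤ P → ∀ j : ℕ, (j : WithBot ℕ∞) + ringKrullDim (R ⧸ P) = i →
        Subsingleton (LocH P j M) := by
  have hR := gorensteinRing_of_local hG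
  obtain ⟨d, hd⟩ := RegLocal.exists_nat_ringKrullDim R
  have hdim : ∀ (P : Ideal R) [P.IsPrime] (n e : ℕ), P.height = n → ringKrullDim (R ⧸ P) = e → n + e = d := by
    intro P _ n e hn he
    have := height_add_ringKrullDim_quotient hG P
    rw [hn, he, hd] at this
    exact_mod_cast this
  rcases lt_or_ge d i with hi | hi
  · haveI := subsingleton_H_above hd.le M i hi
    refine iff_of_true (le_trans (fun x _ => Module.mem_annihilator.mpr fun y => Subsingleton.elim _ _)
      Ideal.le_radical) fun P hP _ j hj => ?_
    obtain ⟨n, hn⟩ := exists_height_eq P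
    haveI : Nontrivial (R ⧸ P) := Ideal.Quotient.nontrivial_iff.mpr hP.ne_top
    haveI : IsLocalRing (R ⧸ P) := .of_surjective' (Ideal.Quotient.mk P) Ideal.Quotient.mk_surjective
    obtain ⟨e, he⟩ := RegLocal.exists_nat_ringKrullDim (R ⧸ P)
    rw [he] at hj
    have hj' : j + e = i := by exact_mod_cast hj
    exact subsingleton_LocH_of_height_lt P M j n hn (by have := hdim P n e hn he; omega)
  · obtain ⟨k, rfl⟩ := Nat.exists_eq_add_of_le hi
    let E := Abelian.Ext (ModuleCat.of R M) (ModuleCat.of R R) k
    haveI : Module.Finite R E := finite_ext k (ModuleCat.of R M) (ModuleCat.of R R)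
    have hann : Module.annihilator R ((localCohomology (maximalIdeal R) i).obj (ModuleCat.of R M) : Type u) =
        Module.annihilator R E := by
      ext a
      simp only [Module.mem_annihilator]
      exact smul_H_iff_ext hG hd M i k rfl a
    rw [hann, Ideal.radical_eq_sInf, le_sInf_iff]
    constructor
    · intro h P hP hJP j hj
      obtain ⟨n, hn⟩ := exists_height_eq P
      haveI : Nontrivial (R ⧸ P) := Ideal.Quotient.nontrivial_iff.mpr hP.ne_top
      haveI : IsLocalRing (R ⧸ P) := .of_surjective' (Ideal.Quotient.mk P) Ideal.Quotient.mk_surjective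
      obtain ⟨e, he⟩ := RegLocal.exists_nat_ringKrullDim (R ⧸ P)
      rw [he] at hj
      have hj' : j + e = i := by exact_mod_cast hj
      have hne := hdim P n e hn he
      refine (subsingleton_localized_ext_iff hR P M k j n hn (by omega)).mp ?_
      rw [← Module.notMem_support_iff (p := (⟨P, hP⟩ : PrimeSpectrum R)), Module.mem_support_iff_of_finite]
      exact fun hle => hJP (h P ⟨hle, hP⟩)
    · rintro h P ⟨hle, hP⟩
      by_contra hJP
      haveI := hP
      obtain ⟨n, hn⟩ := exists_height_eq P
      haveI : Nontrivial (R ⧸ P) := Ideal.Quotient.nontrivial_iff.mpr hP.ne_top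
      haveI : IsLocalRing (R ⧸ P) := .of_surjective' (Ideal.Quotient.mk P) Ideal.Quotient.mk_surjective
      obtain ⟨e, he⟩ := RegLocal.exists_nat_ringKrullDim (R ⧸ P)
      have hne := hdim P n e hn he
      have hsup : (⟨P, hP⟩ : PrimeSpectrum R) ∈ Module.support R E := Module.mem_support_iff_of_finite.mpr hle
      refine absurd ?_ (Module.notMem_support_iff (p := (⟨P, hP⟩ : PrimeSpectrum R)).not_right.mp hsup)
      rcases lt_or_ge i e with hie | hie
      · exact subsingleton_localized_ext_of_height_lt hR P M k n hn (by omega)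
      · refine (subsingleton_localized_ext_iff hR P M k (i - e) n hn (by omega)).mpr (h P hJP (i - e) ?_)
        rw [he]
        exact_mod_cast Nat.sub_add_cancel hie

/-- `ht Q = ht P + dim (chains between)`. -/
theorem height_Ici_add (hR : LocCoh.IsGorensteinRing R) (P Q : PrimeSpectrum R) (h : P ≤ Q) :
    Order.height (⟨Q, h⟩ : Set.Ici P) + P.asIdeal.height = Q.asIdeal.height := by
  classical
  obtain ⟨a, ha⟩ := exists_height_eq P.asIdeal
  obtain ⟨b, hb⟩ := exists_height_eq Q.asIdeal
  have hup : ∀ l : LTSeries (Set.Ici P), ((l.length : ℕ∞) + P.asIdeal.height) ≤ l.last.1.asIdeal.height := by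
    intro l
    suffices ∀ i : Fin (l.length + 1), ((i.val : ℕ∞) + P.asIdeal.height) ≤ (l i).1.asIdeal.height from this (Fin.last _)
    intro i
    induction i using Fin.induction with
    | zero =>
      rw [Fin.val_zero, Nat.cast_zero, zero_add]
      exact Ideal.height_mono (show P.asIdeal ≤ (l 0).1.asIdeal from (l 0).2)
    | succ i ih =>
      have hlt : (l i.castSucc).1.asIdeal < (l i.succ).1.asIdeal := l.step i
      refine le_trans ?_ (Ideal.height_add_one_le_of_lt_of_isPrime hlt)
      rw [Fin.val_succ, Nat.cast_add, Nat.cast_one, add_right_comm]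
      exact add_le_add ih le_rfl
  suffices key : ∀ (m : ℕ) (P : PrimeSpectrum R), P ≤ Q → ∀ a : ℕ, P.asIdeal.height = a → b = a + m →
      ∃ l : LTSeries (Set.Ici P), l.last.1 = Q ∧ l.length = m by
    refine le_antisymm ?_ ?_
    · have hle : ∀ l : LTSeries (Set.Ici P), l.last ≤ ⟨Q, h⟩ → (l.length : ℕ∞) ≤ ((b - a : ℕ) : ℕ∞) := by
        intro l hl
        have := (hup l).trans (Ideal.height_mono (show l.last.1.asIdeal ≤ Q.asIdeal from hl))
        rw [ha, hb] at this
        norm_cast at this ⊢
        omega
      refine le_trans (add_le_add (Order.height_le fun l hl => hle l hl.le) le_rfl) ?_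
      have hab : a ≤ b := by
        have := Ideal.height_mono (show P.asIdeal ≤ Q.asIdeal from h)
        rw [ha, hb] at this
        exact_mod_cast this
      rw [ha, hb]
      norm_cast
      omega
    · have hab : a ≤ b := by
        have := Ideal.height_mono (show P.asIdeal ≤ Q.asIdeal from h)
        rw [ha, hb] at this
        exact_mod_cast this
      obtain ⟨l, hl, hlen⟩ := key (b - a) P h a ha (by omega)
      refine le_trans ?_ (add_le_add (Order.length_le_height (p := l) (show l.last ≤ ⟨Q, h⟩ from le_of_eq (Subtype.ext hl))) le_rfl)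
      rw [hlen, ha, hb]
      norm_cast
      omega
  intro m
  induction m with
  | zero =>
    intro P hPQ a ha hab
    have : P = Q := by
      by_contra hne
      have hlt : P.asIdeal < Q.asIdeal := lt_of_le_of_ne hPQ fun he => hne (PrimeSpectrum.ext he)
      have := Ideal.height_add_one_le_of_lt_of_isPrime hlt
      rw [ha, hb] at this
      norm_cast at this
      omega
    subst this
    exact ⟨RelSeries.singleton _ ⟨P, Set.mem_Ici.mpr le_rfl⟩, rfl, rfl⟩
  | succ m ih =>
    intro P hPQ a ha hab
    have hlt : P < Q := lt_of_le_of_ne hPQ fun he => by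
      subst he
      rw [ha] at hb
      norm_cast at hb
      omega
    -- a prime just above `P`
    let T : Set (PrimeSpectrum R) := {p | P < p ∧ p ≤ Q}
    let ht : PrimeSpectrum R → ℕ∞ := fun p => p.asIdeal.height
    obtain ⟨P1, hP1, hmin⟩ : ∃ P1 ∈ T, ∀ p ∈ T, ¬ ht p < ht P1 :=
      ⟨_, Function.argminOn_mem ht T ⟨Q, hlt, le_rfl⟩, fun p hp => Function.not_lt_argminOn ht T hp⟩
    haveI := P1.2
    haveI hG := hR.isGorensteinLocalRing_localization P1.asIdeal
    let L := Localization.AtPrime P1.asIdeal
    let PL := P.asIdeal.map (algebraMap R L)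
    have hd : Disjoint (P1.asIdeal.primeCompl : Set R) (P.asIdeal : Set R) :=
      Set.disjoint_left.mpr fun x hx hx' => hx ((PrimeSpectrum.asIdeal_le_asIdeal _ _).mpr hP1.1.le hx')
    haveI hPL : PL.IsPrime := IsLocalization.isPrime_of_isPrime_disjoint P1.asIdeal.primeCompl L _ P.2 hd
    have hPc : PL.comap (algebraMap R L) = P.asIdeal :=
      IsLocalization.comap_map_of_isPrime_disjoint P1.asIdeal.primeCompl L P.2 hd
    have hPh : PL.height = a := by
      rw [← IsLocalization.height_comap P1.asIdeal.primeCompl PL, Ideal.under_def, hPc, ha]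
    have h1 : ringKrullDim (L ⧸ PL) ≤ (1 : ℕ) := by
      rw [← Ring.krullDimLE_iff, Ring.krullDimLE_one_iff_of_noZeroDivisors]
      intro J hJ0 hJp
      haveI := hJp
      let J' := J.comap (Ideal.Quotient.mk PL)
      have hle : PL ≤ J' := (Ideal.mk_ker (I := PL)).symm.le.trans (Ideal.comap_mono bot_le)
      have hne : PL ≠ J' := fun he => hJ0 (by
        rw [← Ideal.map_comap_of_surjective _ Ideal.Quotient.mk_surjective J]
        change J'.map _ = ⊥
        rw [← he, Ideal.map_quotient_self])
      let p : PrimeSpectrum R := ⟨J'.comap (algebraMap R L), inferInstance⟩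
      have hpT : p ∈ T := by
        refine ⟨lt_of_le_of_ne ?_ ?_, le_trans ?_ hP1.2⟩
        · exact hPc.ge.trans (Ideal.comap_mono hle)
        · intro he
          refine hne ?_
          have := congrArg (fun q : PrimeSpectrum R => q.asIdeal.map (algebraMap R L)) he
          simpa [p, IsLocalization.map_comap P1.asIdeal.primeCompl L J'] using this
        · intro x hx
          by_contra hx'
          exact (Ideal.IsPrime.ne_top inferInstance : J' ≠ ⊤)
            (Ideal.eq_top_of_isUnit_mem _ hx (IsLocalization.map_units L (⟨x, hx'⟩ : P1.asIdeal.primeCompl)))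
      have hp1 : p.asIdeal ≤ P1.asIdeal := by
        intro x hx
        by_contra hx'
        exact (Ideal.IsPrime.ne_top inferInstance : J' ≠ ⊤)
          (Ideal.eq_top_of_isUnit_mem _ hx (IsLocalization.map_units L (⟨x, hx'⟩ : P1.asIdeal.primeCompl)))
      have hpe : p.asIdeal = P1.asIdeal := by
        rcases hp1.eq_or_lt with he | hl
        · exact he
        · exfalso
          haveI := p.2
          refine hmin p hpT ?_
          have := Ideal.height_add_one_le_of_lt_of_isPrime hl
          exact (ENat.add_one_le_iff (Ideal.height_ne_top p.2.ne_top)).mp this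
      have hJ'm : J'.IsMaximal := by
        rw [← IsLocalization.map_comap P1.asIdeal.primeCompl L J', Ideal.under_def, show J'.comap (algebraMap R L) = P1.asIdeal from hpe,
          Localization.AtPrime.map_eq_maximalIdeal]
        exact maximalIdeal.isMaximal L
      have h' := Ideal.map_eq_top_or_isMaximal_of_surjective (Ideal.Quotient.mk PL) Ideal.Quotient.mk_surjective hJ'm
      rw [Ideal.map_comap_of_surjective _ Ideal.Quotient.mk_surjective] at h'
      exact h'.resolve_left hJp.ne_top
    have h2 := height_add_ringKrullDim_quotient hG PL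
    obtain ⟨c, hc⟩ := exists_height_eq P1.asIdeal
    rw [hPh, ringKrullDim_localization hc] at h2
    have hca : a + 1 ≤ c := by
      have := Ideal.height_add_one_le_of_lt_of_isPrime (show P.asIdeal < P1.asIdeal from hP1.1)
      rw [ha, hc] at this
      exact_mod_cast this
    haveI : Nontrivial (L ⧸ PL) := Ideal.Quotient.nontrivial_iff.mpr hPL.ne_top
    haveI : IsLocalRing (L ⧸ PL) := .of_surjective' (Ideal.Quotient.mk PL) Ideal.Quotient.mk_surjective
    obtain ⟨e, he⟩ := RegLocal.exists_nat_ringKrullDim (L ⧸ PL)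
    rw [he] at h1 h2
    have h1' : e ≤ 1 := by exact_mod_cast h1
    have h2' : a + e = c := by exact_mod_cast h2
    obtain rfl : c = a + 1 := by omega
    obtain ⟨l, hl, hlen⟩ := ih P1 hP1.2 (a + 1) hc (by omega)
    let l' : LTSeries (Set.Ici P) := l.map (fun x => ⟨x.1, hP1.1.le.trans x.2⟩) fun _ _ hxy => hxy
    refine ⟨l'.cons ⟨P, Set.mem_Ici.mpr le_rfl⟩ (lt_of_lt_of_le (show P < P1 from hP1.1) (l.head.2)), ?_, ?_⟩
    · rw [RelSeries.last_cons]; exact hl
    · simp [l', hlen]

section Quotient

variable {A : Type u} [CommRing A] [IsNoetherianRing A] (π : R →+* A) (hπ : Function.Surjective π)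
variable (M : Type u) [AddCommGroup M] [Module A M] [Module R M] (hcompat : ∀ (r : R) (m : M), r • m = π r • m)

include hπ hcompat

lemma finite_of_quotient [Module.Finite A M] : Module.Finite R M := by
  letI := π.toAlgebra
  haveI : IsScalarTower R A M := IsScalarTower.of_algebraMap_smul fun r m => (hcompat r m).symm
  haveI : Module.Finite R A := Module.Finite.of_surjective (Algebra.linearMap R A) hπ
  exact Module.Finite.trans A M

/-- Change of rings for the groups at a prime. -/
theorem subsingleton_LocH_quotient (p : Ideal A) [p.IsPrime] (j : ℕ) :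
    Subsingleton (LocH p j M) ↔ Subsingleton (LocH (p.comap π) j M) := by
  letI := π.toAlgebra
  haveI : IsScalarTower R A M := IsScalarTower.of_algebraMap_smul fun r m => (hcompat r m).symm
  let P := p.comap π
  let RP := Localization.AtPrime P
  let Ap := Localization.AtPrime p
  letI : Algebra RP Ap := (Localization.localRingHom P p π rfl).toAlgebra
  haveI : IsScalarTower R RP Ap := IsScalarTower.of_algebraMap_eq fun r => by
    change algebraMap R Ap r = Localization.localRingHom P p π rfl (algebraMap R RP r)
    rw [Localization.localRingHom_to_map, IsScalarTower.algebraMap_apply R A Ap]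
    rfl
  let Mp := LocalizedModule p.primeCompl M
  letI : Module RP Mp := Module.compHom Mp (algebraMap RP Ap)
  haveI : IsScalarTower RP Ap Mp := IsScalarTower.of_algebraMap_smul fun _ _ => rfl
  haveI : IsScalarTower R RP Mp := IsScalarTower.of_algebraMap_smul fun r x => by
    change algebraMap RP Ap (algebraMap R RP r) • x = r • x
    rw [← IsScalarTower.algebraMap_apply R RP Ap, IsScalarTower.algebraMap_apply R A Ap, algebraMap_smul,
      algebraMap_smul]
  let g : M →ₗ[R] Mp := (LocalizedModule.mkLinearMap p.primeCompl M).restrictScalars R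
  haveI : IsLocalizedModule P.primeCompl g := by
    refine ⟨fun s => ?_, fun y => ?_, fun {x y} hxy => ?_⟩
    · rw [Module.End.isUnit_iff]
      have := (Module.End.isUnit_iff _).mp (IsLocalizedModule.map_units
        (LocalizedModule.mkLinearMap p.primeCompl M) (⟨π s.1, s.2⟩ : p.primeCompl))
      convert this using 1
      funext z
      exact (IsScalarTower.algebraMap_smul A (s : R) z).symm
    · obtain ⟨⟨m, t⟩, hmt⟩ := IsLocalizedModule.surj p.primeCompl (LocalizedModule.mkLinearMap p.primeCompl M) y
      obtain ⟨s, hs⟩ := hπ t.1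
      refine ⟨⟨m, ⟨s, fun hmem => t.2 (hs ▸ hmem)⟩⟩, ?_⟩
      refine Eq.trans ?_ hmt
      change s • y = (t : A) • y
      rw [← hs]
      exact (IsScalarTower.algebraMap_smul A s y).symm
    · obtain ⟨t, ht⟩ := IsLocalizedModule.exists_of_eq (S := p.primeCompl) (f := LocalizedModule.mkLinearMap p.primeCompl M) hxy
      obtain ⟨s, hs⟩ := hπ t.1
      refine ⟨⟨s, fun hmem => t.2 (hs ▸ hmem)⟩, ?_⟩
      change s • x = s • y
      rw [hcompat, hcompat, hs]
      exact ht
  let e : LocalizedModule P.primeCompl M ≃ₗ[RP] Mp :=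
    LinearEquiv.extendScalarsOfIsLocalization P.primeCompl RP (IsLocalizedModule.iso P.primeCompl g)
  haveI : IsNoetherianRing RP := IsLocalization.isNoetherianRing P.primeCompl RP inferInstance
  haveI : IsNoetherianRing Ap := IsLocalization.isNoetherianRing p.primeCompl Ap inferInstance
  have hmax : (maximalIdeal RP).map (algebraMap RP Ap) = maximalIdeal Ap := by
    rw [← Localization.AtPrime.map_eq_maximalIdeal, Ideal.map_map, ← IsScalarTower.algebraMap_eq R RP Ap,
      IsScalarTower.algebraMap_eq R A Ap, ← Ideal.map_map, ← Localization.AtPrime.map_eq_maximalIdeal]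
    exact congrArg (Ideal.map _) (Ideal.map_comap_of_surjective π hπ p)
  obtain ⟨φ, -⟩ := hmax ▸ exists_indep (R := RP) (R' := Ap) (maximalIdeal RP) Mp j
  exact φ.toEquiv.subsingleton_congr.trans
    ((localCohomology (maximalIdeal RP) j).mapIso e.toModuleIso).toLinearEquiv.toEquiv.subsingleton_congr.symm

lemma subsingleton_LocH_of_not_le (P : Ideal R) [P.IsPrime] (h : ¬ RingHom.ker π ≤ P) (j : ℕ) :
    Subsingleton (LocH P j M) := by
  obtain ⟨r, hr, hrP⟩ := SetLike.not_le_iff_exists.mp h
  haveI : Subsingleton (LocalizedModule P.primeCompl M) := LocalizedModule.subsingleton_iff.mpr fun m =>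
    ⟨r, hrP, by rw [hcompat, RingHom.mem_ker.mp hr, zero_smul]⟩
  exact ModuleCat.subsingleton_of_isZero
    ((localCohomology _ j).map_isZero (ModuleCat.isZero_of_subsingleton _))

/-- The annihilation criterion over a quotient of a Gorenstein local ring. -/
theorem le_radical_annihilator_iff_quotient [IsLocalRing R] [IsLocalRing A] (hG : LocCoh.IsGorensteinLocalRing R)
    [Module.Finite A M] (J : Ideal A) (i : ℕ) :
    J ≤ (Module.annihilator A ((localCohomology (maximalIdeal A) i).obj (ModuleCat.of A M) : Type u)).radical ↔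
      ∀ (p : Ideal A) [p.IsPrime], ¬ J ≤ p → ∀ j : ℕ, (j : WithBot ℕ∞) + ringKrullDim (A ⧸ p) = i →
        Subsingleton (LocH p j M) := by
  letI := π.toAlgebra
  haveI : IsScalarTower R A M := IsScalarTower.of_algebraMap_smul fun r m => (hcompat r m).symm
  haveI := finite_of_quotient π hπ M hcompat
  haveI : IsLocalHom π := hπ.isLocalHom
  have hmax : (maximalIdeal R).map (algebraMap R A) = maximalIdeal A := by
    haveI := Ideal.comap_isMaximal_of_surjective π hπ (K := maximalIdeal A)
    rw [← IsLocalRing.eq_maximalIdeal (this : ((maximalIdeal A).comap π).IsMaximal)]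
    exact Ideal.map_comap_of_surjective π hπ _
  obtain ⟨φ, hφ⟩ := hmax ▸ exists_indep (R := R) (R' := A) (maximalIdeal R) M i
  have hann : (Module.annihilator A ((localCohomology (maximalIdeal A) i).obj (ModuleCat.of A M) : Type u)).comap π =
      Module.annihilator R ((localCohomology (maximalIdeal R) i).obj (ModuleCat.of R M) : Type u) := by
    ext r
    rw [Ideal.mem_comap, Module.mem_annihilator, Module.mem_annihilator]
    constructor
    · intro h x
      obtain ⟨y, rfl⟩ := φ.surjective x
      rw [← hφ, show algebraMap R A r • y = 0 from h y, map_zero]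
    · intro h y
      exact φ.injective (by rw [show π r = algebraMap R A r from rfl, hφ, h, map_zero])
  have hdim : ∀ (p : Ideal A), ringKrullDim (R ⧸ p.comap π) = ringKrullDim (A ⧸ p) := fun p =>
    ringKrullDim_eq_of_ringEquiv (RingEquiv.ofBijective
      (Ideal.quotientMap p π le_rfl) ⟨Ideal.quotientMap_injective, Ideal.quotientMap_surjective hπ⟩)
  have hcr : J ≤ (Module.annihilator A ((localCohomology (maximalIdeal A) i).obj (ModuleCat.of A M) : Type u)).radical ↔
      J.comap π ≤ (Module.annihilator R ((localCohomology (maximalIdeal R) i).obj (ModuleCat.of R M) : Type u)).radical := by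
    rw [← hann, ← Ideal.comap_radical, Ideal.comap_le_comap_iff_of_surjective π hπ]
  rw [hcr, le_radical_annihilator_iff hG M (J.comap π) i]
  constructor
  · intro h p _ hJp j hj
    rw [subsingleton_LocH_quotient π hπ M hcompat p j]
    exact h (p.comap π) (fun hle => hJp ((Ideal.comap_le_comap_iff_of_surjective π hπ _ _).mp hle)) j (by rw [hdim]; exact hj)
  · intro h P _ hJP j hj
    by_cases hker : RingHom.ker π ≤ P
    · haveI : (P.map π).IsPrime := Ideal.map_isPrime_of_surjective hπ hker
      have hPc : (P.map π).comap π = P := by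
        rw [Ideal.comap_map_of_surjective π hπ, ← RingHom.ker_eq_comap_bot, sup_eq_left.mpr hker]
      have h1 := h (P.map π) (fun hle => hJP (by rw [← hPc]; exact Ideal.comap_mono hle)) j
        (by rw [← hdim, hPc]; exact hj)
      rw [subsingleton_LocH_quotient π hπ M hcompat (P.map π) j] at h1
      convert h1 using 3 <;> simp [hPc]
    · exact subsingleton_LocH_of_not_le π hπ M hcompat P hker j

omit [IsNoetherianRing R] [IsNoetherianRing A] in
lemma height_Ici_comap (p q : PrimeSpectrum A) (h : p ≤ q) :
    Order.height (⟨PrimeSpectrum.comap π q, Ideal.comap_mono h⟩ : Set.Ici (PrimeSpectrum.comap π p)) =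
      Order.height (⟨q, h⟩ : Set.Ici p) := by
  let f : Set.Ici p → Set.Ici (PrimeSpectrum.comap π p) := fun x => ⟨PrimeSpectrum.comap π x.1, Ideal.comap_mono x.2⟩
  have hle : ∀ x y, f x ≤ f y ↔ x ≤ y := fun x y => Ideal.comap_le_comap_iff_of_surjective π hπ x.1.asIdeal y.1.asIdeal
  have hs : Function.Surjective f := fun ⟨P, hP⟩ => by
    have hker : RingHom.ker π ≤ P.asIdeal := le_trans (Ideal.comap_mono bot_le) hP
    haveI := P.2
    haveI : (P.asIdeal.map π).IsPrime := Ideal.map_isPrime_of_surjective hπ hker
    have hPc : (P.asIdeal.map π).comap π = P.asIdeal := by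
      rw [Ideal.comap_map_of_surjective π hπ, ← RingHom.ker_eq_comap_bot, sup_eq_left.mpr hker]
    refine ⟨⟨⟨P.asIdeal.map π, inferInstance⟩, ?_⟩, Subtype.ext (PrimeSpectrum.ext hPc)⟩
    exact (Ideal.comap_le_comap_iff_of_surjective π hπ _ _).mp (hP.trans hPc.ge)
  let e : Set.Ici p ≃o Set.Ici (PrimeSpectrum.comap π p) :=
    { Equiv.ofBijective f ⟨fun x y hxy => le_antisymm ((hle _ _).mp hxy.le) ((hle _ _).mp hxy.ge), hs⟩ with
      map_rel_iff' := fun {x y} => hle x y }
  exact Order.height_orderIso e ⟨q, h⟩

/-- The propagation from relative codimension one. -/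
theorem subsingleton_LocH_of_relCodim (hR : LocCoh.IsGorensteinRing R) [Module.Finite A M] (I : Ideal A) (i : ℕ)
    (h1 : ∀ p : PrimeSpectrum A, ¬ I ≤ p.asIdeal → SGA2.relCodim I p = 1 → ∀ j : ℕ, j + 1 = i →
      Subsingleton (LocH p.asIdeal j M)) :
    ∀ (c : ℕ) (p : PrimeSpectrum A), ¬ I ≤ p.asIdeal → SGA2.relCodim I p = c → ∀ j : ℕ, j + c = i →
      Subsingleton (LocH p.asIdeal j M) := by
  haveI := finite_of_quotient π hπ M hcompat
  intro c
  induction c with
  | zero =>
    intro p hp hc j hj
    exfalso
    haveI : Nonempty {q : PrimeSpectrum A // p ≤ q ∧ I ≤ q.asIdeal} := by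
      by_contra hne
      rw [not_nonempty_iff] at hne
      rw [SGA2.relCodim, iInf_of_empty] at hc
      exact absurd hc.symm (ENat.natCast_ne_top 0)
    obtain ⟨⟨q, hpq, hIq⟩, hq⟩ := ENat.exists_eq_iInf
      fun q : {q : PrimeSpectrum A // p ≤ q ∧ I ≤ q.asIdeal} => Order.height (⟨q.1, q.2.1⟩ : Set.Ici p)
    rw [show (⨅ q : {q : PrimeSpectrum A // p ≤ q ∧ I ≤ q.asIdeal}, Order.height (⟨q.1, q.2.1⟩ : Set.Ici p)) =
      SGA2.relCodim I p from rfl, hc, Nat.cast_zero, Order.height_eq_zero] at hq
    exact hp (le_trans hIq (hq (show (⟨p, Set.mem_Ici.mpr le_rfl⟩ : Set.Ici p) ≤ ⟨q, hpq⟩ from hpq)))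
  | succ c ih =>
    intro p hp hc j hj
    rcases Nat.eq_zero_or_pos c with rfl | hc0
    · exact h1 p hp (by simpa using hc) j hj
    haveI : Nonempty {q : PrimeSpectrum A // p ≤ q ∧ I ≤ q.asIdeal} := by
      by_contra hne
      rw [not_nonempty_iff] at hne
      rw [SGA2.relCodim, iInf_of_empty] at hc
      exact absurd hc.symm (ENat.natCast_ne_top _)
    obtain ⟨⟨q, hpq, hIq⟩, hq⟩ := ENat.exists_eq_iInf
      fun q : {q : PrimeSpectrum A // p ≤ q ∧ I ≤ q.asIdeal} => Order.height (⟨q.1, q.2.1⟩ : Set.Ici p)
    have hq' : Order.height (⟨q, hpq⟩ : Set.Ici p) = (c + 1 : ℕ) := hq.trans hc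
    obtain ⟨l, hl, hlen⟩ := Order.exists_series_of_height_eq_coe _ hq'
    let P := p.asIdeal.comap π
    let p1 : PrimeSpectrum A := (l ⟨1, by omega⟩).1
    have hlt : p < p1 := by
      refine lt_of_le_of_lt (show p ≤ (l 0).1 from (l 0).2) ?_
      exact l.strictMono (show (0 : Fin (l.length + 1)) < ⟨1, by omega⟩ from Nat.zero_lt_one)
    have hp1q : p1 ≤ q := by
      have := l.monotone (Fin.le_last ⟨1, by omega⟩)
      rw [show l (Fin.last l.length) = l.last from rfl, hl] at this
      exact this
    have hH : ∀ (a b : PrimeSpectrum A) (hab : a ≤ b), Order.height (⟨b, hab⟩ : Set.Ici a) + (a.asIdeal.comap π).height =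
        (b.asIdeal.comap π).height := fun a b hab => by
      rw [← height_Ici_comap π hπ M hcompat a b hab]
      exact height_Ici_add hR _ _ _
    have hge : ∀ (r : PrimeSpectrum A) (hr : p1 ≤ r), I ≤ r.asIdeal →
        ((c + 1 : ℕ) : ℕ∞) ≤ Order.height (⟨r, hlt.le.trans hr⟩ : Set.Ici p) := fun r hr hIr =>
      hc.symm.le.trans (iInf_le (fun q : {q : PrimeSpectrum A // p ≤ q ∧ I ≤ q.asIdeal} =>
        Order.height (⟨q.1, q.2.1⟩ : Set.Ici p)) ⟨r, hlt.le.trans hr, hIr⟩)
    obtain ⟨a, ha⟩ := exists_height_eq (p.asIdeal.comap π)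
    obtain ⟨a1, ha1⟩ := exists_height_eq (p1.asIdeal.comap π)
    obtain ⟨b, hb⟩ := exists_height_eq (q.asIdeal.comap π)
    have e0 : (c + 1 : ℕ) + a = b := by
      have := hH p q hpq
      rw [hq', ha, hb] at this
      exact_mod_cast this
    have hlow : a + 1 ≤ a1 := by
      haveI := p.2
      haveI := p1.2
      have := Ideal.height_add_one_le_of_lt_of_isPrime (show p.asIdeal.comap π < p1.asIdeal.comap π from
        lt_of_le_of_ne (Ideal.comap_mono hlt.le) fun he =>
          hlt.ne (PrimeSpectrum.ext (Ideal.comap_injective_of_surjective π hπ he)))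
      rw [ha, ha1] at this
      exact_mod_cast this
    -- the tail of the series from `p1` to `q`
    have htail : (c : ℕ∞) ≤ Order.height (⟨q, hp1q⟩ : Set.Ici p1) := by
      let l' : LTSeries (Set.Ici p1) :=
        { length := c
          toFun := fun k => ⟨(l ⟨k.val + 1, by omega⟩).1, l.monotone (Nat.le_add_left 1 k.val)⟩
          step := fun k => l.strictMono (Nat.lt_succ_self _) }
      refine Order.length_le_height (p := l') (le_of_eq (Subtype.ext ?_))
      change (l ⟨c + 1, _⟩).1 = q
      rw [show (⟨c + 1, by omega⟩ : Fin (l.length + 1)) = Fin.last l.length from Fin.ext hlen.symm,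
        show l (Fin.last l.length) = l.last from rfl, hl]
    have e1 : a1 = a + 1 := by
      refine le_antisymm ?_ hlow
      have := (add_le_add htail le_rfl).trans (hH p1 q hp1q).le
      rw [ha1, hb] at this
      norm_cast at this
      omega
    have hI1 : ¬ I ≤ p1.asIdeal := by
      intro hle
      have h' := hge p1 le_rfl hle
      have h'' := (add_le_add h' le_rfl).trans (hH p p1 hlt.le).le
      rw [ha, ha1] at h''
      norm_cast at h''
      omega
    have hc1 : SGA2.relCodim I p1 = c := by
      refine le_antisymm ?_ (le_iInf fun r => ?_)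
      · refine (iInf_le (fun q : {q : PrimeSpectrum A // p1 ≤ q ∧ I ≤ q.asIdeal} =>
          Order.height (⟨q.1, q.2.1⟩ : Set.Ici p1)) ⟨q, hp1q, hIq⟩).trans ?_
        by_contra hcon
        rw [not_le] at hcon
        have h' := (add_le_add (Order.add_one_le_of_lt hcon) le_rfl).trans (hH p1 q hp1q).le
        rw [ha1, hb] at h'
        norm_cast at h'
        omega
      · obtain ⟨br, hbr⟩ := exists_height_eq (r.1.asIdeal.comap π)
        have h' := (add_le_add (hge r.1 r.2.1 r.2.2) le_rfl).trans (hH p r.1 (hlt.le.trans r.2.1)).le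
        rw [ha, hbr] at h'
        norm_cast at h'
        by_contra hcon
        rw [not_le] at hcon
        have h'' := hH p1 r.1 r.2.1
        rw [ha1, hbr] at h''
        obtain ⟨m, hm⟩ := ENat.ne_top_iff_exists.mp hcon.ne_top
        rw [← hm] at h'' hcon
        norm_cast at h'' hcon
        omega
    have hone := ih p1 hI1 hc1 (j + 1) (by omega)
    rw [subsingleton_LocH_quotient π hπ M hcompat] at hone ⊢
    exact subsingleton_LocH_of_adjacent hR (p.asIdeal.comap π) (p1.asIdeal.comap π) (Ideal.comap_mono hlt.le)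
      (by rw [ha, ha1, e1]; rfl) M j hone

end Quotient

end Groth.Agent.GorLib
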