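import Mathlib
import Groth.Agent.LocCohLib.Depth
import Groth.Agent.GorLib.LocalVanishing
import Groth.Agent.CAlgBasics.Depth
import Groth.Prelude.Def_CAlg

/-! Depth and vanishing of local cohomology at the maximal ideal. -/

set_option autoImplicit false
universe u

namespace Groth.Agent.GorLib

open CategoryTheory Limits IsLocalRing LocCohLib

variable {R : Type u} [CommRing R] [IsNoetherianRing R] [IsLocalRing R]

theorem natCast_le_depth_iff_subsingleton_H (M : Type u) [AddCommGroup M] [Module R M] [Module.Finite R M] (k : ℕ) :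
    (k : ℕ∞) ≤ LocCoh.depth R M ↔
      ∀ j : ℕ, j < k → Subsingleton ((localCohomology (maximalIdeal R) j).obj (ModuleCat.of R M) : Type u) := by
  rcases subsingleton_or_nontrivial M with hM | hM
  · rw [CAlgBasics.depth_eq_top]
    exact iff_of_true le_top fun j _ => ModuleCat.subsingleton_of_isZero
      ((localCohomology _ j).map_isZero (ModuleCat.isZero_of_subsingleton _))
  rw [CAlgBasics.natCast_le_depth_iff]
  constructor
  · rintro ⟨rs, rfl, hreg, hmem⟩ j hj
    exact subsingleton_of_isWeaklyRegular _ (ModuleCat.of R M) rs hreg hmem j hj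
  · intro h
    obtain ⟨rs, hrs⟩ := Depth.exists_isMaxSeq (I := maximalIdeal R) (M := M)
      CAlgBasics.maximalIdeal_smul_top_ne_top
    have hk : k ≤ rs.length := by
      by_contra hlt
      exact not_subsingleton_iff_nontrivial.mpr (nontrivial_of_isMaxSeq (maximalIdeal R) M hrs).1 (h _ (by omega))
    exact (CAlgBasics.natCast_le_depth_iff (R := R) (M := M) k).mp
      (le_trans (Nat.cast_le.mpr hk) ((CAlgBasics.natCast_le_depth_iff (R := R) (M := M) rs.length).mpr
        ⟨rs, rfl, hrs.1, hrs.2.1⟩))

/-- `n < depth + c` in terms of vanishing. -/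
theorem natCast_lt_depth_add_iff (M : Type u) [AddCommGroup M] [Module R M] [Module.Finite R M] (n c : ℕ) :
    (n : ℕ∞) < LocCoh.depth R M + c ↔
      ∀ j : ℕ, j + c ≤ n → Subsingleton ((localCohomology (maximalIdeal R) j).obj (ModuleCat.of R M) : Type u) := by
  rcases lt_or_ge n c with hc | hc
  · exact iff_of_true (lt_of_lt_of_le (Nat.cast_lt.mpr hc) le_add_self) fun j hj => absurd hj (by omega)
  · rw [show (∀ j : ℕ, j + c ≤ n → Subsingleton ((localCohomology (maximalIdeal R) j).obj (ModuleCat.of R M) : Type u))
      ↔ ∀ j : ℕ, j < n + 1 - c → Subsingleton ((localCohomology (maximalIdeal R) j).obj (ModuleCat.of R M) : Type u)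
      from forall_congr' fun j => imp_congr_left (by omega), ← natCast_le_depth_iff_subsingleton_H]
    induction LocCoh.depth R M using ENat.recTopCoe with
    | top => simp
    | coe d =>
      norm_cast
      omega

end Groth.Agent.GorLib
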