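import Mathlib
import Groth.Agent.GorLib.DepthVanish
import Groth.Agent.GorLib.Ring
import Groth.Agent.LocCohLib.AddElement
import Groth.Agent.LocCohLib.LocallyFree
import Groth.Agent.RegLocal.Consequences
import Groth.Agent.S14424
import Groth.Prelude.Def_W4bk5brsh7111920

/-! Faltings' annihilator theorem over regular rings. -/

set_option autoImplicit false
universe u

namespace Groth.Agent.GorLib

open CategoryTheory Limits IsLocalRing LocCohLib

/-- Auslander–Buchsbaum, one inequality, over a regular local ring. -/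
theorem hasProjectiveDimensionLE_of_depth (A : Type u) [CommRing A] [IsRegularLocalRing A] (d t : ℕ)
    (hd : ringKrullDim A = d) (M : Type u) [AddCommGroup M] [Module A M] [Module.Finite A M]
    (ht : (t : ℕ∞) ≤ LocCoh.depth A M) : HasProjectiveDimensionLE (ModuleCat.of A M) (d - t) :=
  RegLocal.projDimLT_of_ext_vanish A M d hd (d - t) fun j hj hjd =>
    (subsingleton_H_iff_ext (gorensteinLocal_of_regular A) hd M (d - j) j (by omega)).mp
      ((natCast_le_depth_iff_subsingleton_H M t).mp ht (d - j) (by omega))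

theorem cohenMacaulayRing_of_regular (R : Type u) [CommRing R] [IsRegularRing R] [IsNoetherianRing R] :
    LocCoh.IsCohenMacaulayRing R where
  isCohenMacaulayLocalRing_localization p _ :=
    isCohenMacaulay (Localization.AtPrime p) ((gorensteinRing_of_regular R).isGorensteinLocalRing_localization p)

variable {R : Type u} [CommRing R] [IsNoetherianRing R]

lemma height_quot_le_Ici (p P : PrimeSpectrum R) (h : p ≤ P) :
    (P.asIdeal.map (Ideal.Quotient.mk p.asIdeal)).height ≤ Order.height (⟨P, h⟩ : Set.Ici p) := by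
  haveI : (P.asIdeal.map (Ideal.Quotient.mk p.asIdeal)).IsPrime :=
    Ideal.map_isPrime_of_surjective Ideal.Quotient.mk_surjective (by rw [Ideal.mk_ker]; exact h)
  have hle : ∀ Q : PrimeSpectrum (R ⧸ p.asIdeal), p.asIdeal ≤ Q.asIdeal.comap (Ideal.Quotient.mk p.asIdeal) :=
    fun Q x hx => by
      rw [Ideal.mem_comap, Ideal.Quotient.eq_zero_iff_mem.mpr hx]
      exact Q.asIdeal.zero_mem
  let f : PrimeSpectrum (R ⧸ p.asIdeal) → Set.Ici p := fun Q =>
    ⟨PrimeSpectrum.comap (Ideal.Quotient.mk p.asIdeal) Q, hle Q⟩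
  have hf : StrictMono f := fun a b hab => by
    refine lt_of_le_of_ne (Ideal.comap_mono hab.le) fun he => hab.ne ?_
    exact PrimeSpectrum.ext (Ideal.comap_injective_of_surjective _ Ideal.Quotient.mk_surjective
      (congrArg (fun x : Set.Ici p => x.1.asIdeal) he))
  let Q0 : PrimeSpectrum (R ⧸ p.asIdeal) := ⟨P.asIdeal.map (Ideal.Quotient.mk p.asIdeal), inferInstance⟩
  rw [show (P.asIdeal.map (Ideal.Quotient.mk p.asIdeal)).height = Order.height Q0 from
    PrimeSpectrum.height_eq_orderHeight Q0]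
  refine (Order.height_le_height_apply_of_strictMono f hf Q0).trans (le_of_eq (congrArg Order.height ?_))
  refine Subtype.ext (PrimeSpectrum.ext ?_)
  change (P.asIdeal.map (Ideal.Quotient.mk p.asIdeal)).comap (Ideal.Quotient.mk p.asIdeal) = P.asIdeal
  rw [Ideal.comap_map_of_surjective _ Ideal.Quotient.mk_surjective, ← RingHom.ker_eq_comap_bot, Ideal.mk_ker]
  exact sup_eq_left.mpr h

lemma smul_H_eq_zero_of_smul {M : Type u} [AddCommGroup M] [Module R M] (a : Ideal R) (i : ℕ) (s : R)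
    (hs : ∀ m : M, s • m = 0) (x : LocCoh.H a i M) : s • x = 0 := by
  rw [← map_smul_id a i (ModuleCat.of R M) s x,
    show s • 𝟙 (ModuleCat.of R M) = 0 from ModuleCat.hom_ext (LinearMap.ext fun m => hs m), Functor.map_zero]
  rfl

/-- Near a prime below `P`, something kills `H^i_P`. -/
theorem exists_notMem_kill [IsRegularRing R] (a : Ideal R) (M : Type u) [AddCommGroup M] [Module R M]
    [Module.Finite R M] (i : ℕ) (P : Ideal R) [hP : P.IsPrime] (haP : a ≤ P) (p : PrimeSpectrum R)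
    (hpP : p.asIdeal ≤ P) (h : (i : ℕ∞) < LocCoh.adjDepth a M p) :
    ∃ s, s ∉ p.asIdeal ∧ ∀ x : LocCoh.H P i M, s • x = 0 := by
  rcases subsingleton_or_nontrivial (LocalizedModule p.asIdeal.primeCompl M) with hM | hM
  · have hp : ¬ Module.annihilator R M ≤ p.asIdeal := fun hle =>
      Module.notMem_support_iff.mpr hM (Module.mem_support_iff_of_finite.mpr hle)
    obtain ⟨s, hs, hsp⟩ := SetLike.not_le_iff_exists.mp hp
    exact ⟨s, hsp, smul_H_eq_zero_of_smul P i s (Module.mem_annihilator.mp hs)⟩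
  let L := Localization.AtPrime p.asIdeal
  let Mp := LocalizedModule p.asIdeal.primeCompl M
  haveI : Module.Finite L Mp :=
    Module.Finite.of_isLocalizedModule p.asIdeal.primeCompl (LocalizedModule.mkLinearMap p.asIdeal.primeCompl M)
  haveI : IsNoetherianRing L := IsLocalization.isNoetherianRing p.asIdeal.primeCompl L inferInstance
  obtain ⟨n, hn⟩ := exists_height_eq p.asIdeal
  have hdim : ringKrullDim L = n := ringKrullDim_localization hn
  have htn : LocCoh.depth L Mp ≤ n := by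
    have h1 := (QGorLib.depth_le_supportDim (R := L) Mp).trans (Module.supportDim_le_ringKrullDim L Mp)
    rw [hdim] at h1
    exact WithBot.coe_le_coe.mp h1
  obtain ⟨t, ht⟩ := ENat.ne_top_iff_exists.mp (ne_top_of_le_ne_top (ENat.natCast_ne_top n) htn)
  rw [← ht] at htn
  haveI : IsRegularLocalRing L := IsRegularRing.isRegularLocalRing_localization p.asIdeal
  have hpd := hasProjectiveDimensionLE_of_depth L n t hdim Mp ht.le
  obtain ⟨s, hs, hkill⟩ := exists_annihilator_of_projDim (n - t) M p.asIdeal hpd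
  refine ⟨s, hs, hkill P hP.ne_top i ?_⟩
  rw [(S14424.result R).mp (cohenMacaulayRing_of_regular R) P hP.ne_top]
  obtain ⟨m, hm⟩ := exists_height_eq P
  let P' : PrimeSpectrum R := ⟨P, hP⟩
  have hH := height_Ici_add (gorensteinRing_of_regular R) p P' hpP
  have hc : ((a ⊔ p.asIdeal).map (Ideal.Quotient.mk p.asIdeal)).height ≤ Order.height (⟨P', hpP⟩ : Set.Ici p) :=
    (Ideal.height_mono (Ideal.map_mono (sup_le haP hpP))).trans (height_quot_le_Ici p P' hpP)
  have h' : (i : ℕ∞) < (t : ℕ∞) + Order.height (⟨P', hpP⟩ : Set.Ici p) := by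
    refine lt_of_lt_of_le h (add_le_add ?_ hc)
    exact ht.ge
  rw [hn, show P'.asIdeal = P from rfl, hm] at hH
  rw [hm]
  revert h' hH
  induction Order.height (⟨P', hpP⟩ : Set.Ici p) using ENat.recTopCoe with
  | top => simp
  | coe c =>
    intro h1 h2
    norm_cast at h1 h2 htn ⊢
    omega

lemma exists_notMem_mem_all (T : Finset (Ideal R)) (P : Ideal R) [P.IsPrime] (hT : ∀ Q ∈ T, ¬ Q ≤ P) :
    ∃ z, z ∉ P ∧ ∀ Q ∈ T, z ∈ Q := by
  have h : ¬ T.inf id ≤ P := fun hle => by
    obtain ⟨Q, hQ, hQP⟩ := (Ideal.IsPrime.inf_le' inferInstance).mp hle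
    exact hT Q hQ hQP
  obtain ⟨z, hz, hzP⟩ := SetLike.not_le_iff_exists.mp h
  exact ⟨z, hzP, fun Q hQ => (Finset.inf_le (f := id) hQ) hz⟩

lemma exists_smul_mem_range (a P : Ideal R) (haP : a ≤ P) (z : R) (hz : Ideal.span {z} * P ≤ a.radical)
    (M : Type u) [AddCommGroup M] [Module R M] (i : ℕ) (x : LocCoh.H a i M) :
    ∃ m : ℕ, z ^ m • x ∈ LinearMap.range ((Dual2.HmapOfLE haP i).app (ModuleCat.of R M)).hom := by
  let J := injectiveResolution (ModuleCat.of R M)
  obtain ⟨w, rfl⟩ := tcls_surjective J a i x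
  obtain ⟨n, hn⟩ := w.2.1
  obtain ⟨k, hk⟩ := Ideal.exists_pow_le_of_le_radical_of_fg hz (IsNoetherian.noetherian _)
  refine ⟨k * n, ?_⟩
  have hmem : z ^ (k * n) • w.1 ∈ DRing.torsionSub P (J.cocomplex.X i) := ⟨k * n, fun b hb => by
    rw [smul_smul]
    refine hn _ ((Ideal.pow_right_mono hk n) ?_)
    rw [← pow_mul, mul_pow, mul_comm b]
    exact Ideal.mul_mem_mul (Ideal.pow_mem_pow (Ideal.mem_span_singleton_self z) _) hb⟩
  refine ⟨tcls J P i ⟨z ^ (k * n) • w.1, hmem, (z ^ (k * n) • w).2.2⟩, (HmapOfLE_tcls J haP i _).trans ?_⟩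
  rw [← map_smul]
  exact congrArg _ (Subtype.ext rfl)

/-- Faltings' annihilator theorem, for a regular ring. -/
theorem exists_pow_kill [IsRegularRing R] (M : Type u) [AddCommGroup M] [Module R M] [Module.Finite R M]
    (y : R) (i : ℕ) : ∀ a : Ideal R, (∀ p : PrimeSpectrum R, y ∉ p.asIdeal → (i : ℕ∞) < LocCoh.adjDepth a M p) →
      ∃ N : ℕ, ∀ x : LocCoh.H a i M, y ^ N • x = 0 := by
  intro a
  induction a using (WellFoundedGT.induction (α := Ideal R)) with
  | _ a ih =>
  intro hyp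
  by_cases htop : a = ⊤
  · refine ⟨0, fun x => ?_⟩
    obtain ⟨n, hn⟩ := isPowerTorsion_H a i (ModuleCat.of R M) x
    rw [pow_zero]
    exact hn 1 (by rw [htop, Ideal.top_pow]; trivial)
  classical
  obtain ⟨P, hPmin⟩ := Ideal.nonempty_minimalPrimes htop
  haveI := hPmin.1.1
  have hfin := Ideal.finite_minimalPrimes_of_isNoetherianRing R a
  obtain ⟨z, hzP, hz⟩ := exists_notMem_mem_all (hfin.toFinset.erase P) P fun Q hQ hle => by
    obtain ⟨hne, hQ'⟩ := Finset.mem_erase.mp hQ
    exact hne (le_antisymm hle (hPmin.2 (hfin.mem_toFinset.mp hQ').1 hle))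
  have hzPa : Ideal.span {z} * P ≤ a.radical := by
    rw [← Ideal.sInf_minimalPrimes, le_sInf_iff]
    intro Q hQ
    by_cases hQP : Q = P
    · exact hQP ▸ Ideal.mul_le_right
    · exact Ideal.mul_le_left.trans ((Ideal.span_singleton_le_iff_mem _).mpr
        (hz Q (Finset.mem_erase.mpr ⟨hQP, hfin.mem_toFinset.mpr hQ⟩)))
  let D : Ideal R :=
    { carrier := {r | ∀ x : LocCoh.H a i M, ∃ m : ℕ, z ^ m • r • x = 0}
      zero_mem' := fun x => ⟨0, by rw [zero_smul, smul_zero]⟩
      add_mem' := fun {r r'} hr hr' x => by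
        obtain ⟨m, hm⟩ := hr x
        obtain ⟨m', hm'⟩ := hr' x
        refine ⟨m' + m, ?_⟩
        rw [add_smul, smul_add, pow_add, mul_smul, hm, smul_zero, zero_add, mul_comm, mul_smul, hm', smul_zero]
      smul_mem' := fun c r hr x => by
        obtain ⟨m, hm⟩ := hr x
        exact ⟨m, by rw [smul_eq_mul, mul_smul, smul_comm (z ^ m) c, hm, smul_zero]⟩ }
  have hfinD := Ideal.finite_minimalPrimes_of_isNoetherianRing R D
  obtain ⟨z1, hz1P, hz1⟩ := exists_notMem_mem_all (hfinD.toFinset.filter fun Q => y ∉ Q) P fun Q hQ hle => by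
    obtain ⟨hQ', hyQ⟩ := Finset.mem_filter.mp hQ
    rw [hfinD.mem_toFinset] at hQ'
    let p : PrimeSpectrum R := ⟨Q, hQ'.1.1⟩
    obtain ⟨s, hs, hkill⟩ := exists_notMem_kill a M i P hPmin.1.2 p hle (hyp p hyQ)
    refine hs (hQ'.1.2 (show s ∈ D from fun x => ?_))
    obtain ⟨m, w, hw⟩ := exists_smul_mem_range a P hPmin.1.2 z hzPa M i x
    refine ⟨m, ?_⟩
    rw [smul_comm, ← hw, ← map_smul]
    exact (congrArg _ (hkill w)).trans (map_zero _)
  have hD : y * z1 ∈ D.radical := by
    rw [← Ideal.sInf_minimalPrimes, Submodule.mem_sInf]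
    intro Q hQ
    by_cases hy : y ∈ Q
    · exact Ideal.mul_mem_right z1 Q hy
    · exact Ideal.mul_mem_left Q y (hz1 Q (Finset.mem_filter.mpr ⟨hfinD.mem_toFinset.mpr hQ, hy⟩))
  obtain ⟨N, hN⟩ := hD
  let w := z * z1
  have hw : w ∉ P := fun hmem => (Ideal.IsPrime.mem_or_mem inferInstance hmem).elim hzP hz1P
  obtain ⟨N', hN'⟩ := ih (a ⊔ Ideal.span {w})
    (lt_of_le_of_ne le_sup_left fun he => hw (hPmin.1.2 (he.ge (Ideal.mem_sup_right (Ideal.mem_span_singleton_self w)))))
    fun p hp => lt_of_lt_of_le (hyp p hp)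
      (add_le_add le_rfl (Ideal.height_mono (Ideal.map_mono (sup_le_sup_right le_sup_left _))))
  refine ⟨N' + N, fun x => ?_⟩
  obtain ⟨m, hm⟩ := hN x
  have hwx : w ^ (m + N) • y ^ N • x = 0 := by
    have h0 : (z ^ N * z1 ^ m) • (z ^ m • (y * z1) ^ N • x) = 0 := by rw [hm, smul_zero]
    rw [smul_smul, smul_smul] at h0
    rw [smul_smul, show w ^ (m + N) * y ^ N = z ^ N * z1 ^ m * z ^ m * (y * z1) ^ N by
      simp only [w, mul_pow, pow_add]; ring]
    exact h0
  obtain ⟨x', hx'⟩ :=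
    (range_HmapOfLE (injectiveResolution (ModuleCat.of R M)) a w i (y ^ N • x)).mpr ⟨m + N, hwx⟩
  rw [pow_add, mul_smul, ← hx', ← map_smul]
  exact (congrArg _ (hN' x')).trans (map_zero _)

end Groth.Agent.GorLib
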