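import Mathlib
import Groth.Agent.QGorLib.Depth

/-! The dimension of the support of a module and of its localizations. -/

set_option autoImplicit false
universe u

namespace Groth.Agent.GorLib

open Order

variable {A : Type u} [CommRing A] [IsNoetherianRing A] (M : Type u) [AddCommGroup M] [Module A M] [Module.Finite A M]

/-- `dim M_p + dim A/p ≤ dim M`. -/
theorem supportDim_localized_add_le (p : Ideal A) [hp : p.IsPrime] (hann : Module.annihilator A M ≤ p) :
    Module.supportDim (Localization.AtPrime p) (LocalizedModule p.primeCompl M) + ringKrullDim (A ⧸ p) ≤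
      Module.supportDim A M := by
  let P : Module.support A M := ⟨⟨p, hp⟩, Module.mem_support_iff_of_finite.mpr hann⟩
  haveI : Nonempty (Module.support A M) := ⟨P⟩
  have h1 : Module.supportDim (Localization.AtPrime p) (LocalizedModule p.primeCompl M) ≤ (height P : WithBot ℕ∞) := by
    rw [Module.supportDim, krullDim_eq_iSup_height]
    refine iSup_le fun Q => WithBot.coe_le_coe.mpr ?_
    let f : Module.support (Localization.AtPrime p) (LocalizedModule p.primeCompl M) → Module.support A M := fun Q =>
      ⟨PrimeSpectrum.comap (algebraMap A _) Q.1, (QGorLib.mem_support_localized_iff p Q.1).mp Q.2⟩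
    have hf : StrictMono f := fun a b hab => by
      refine lt_of_le_of_ne (Ideal.comap_mono hab.le) fun he => hab.ne (Subtype.ext ?_)
      exact PrimeSpectrum.localization_comap_injective _ p.primeCompl (congrArg Subtype.val he)
    refine (height_le_height_apply_of_strictMono f hf Q).trans (height_mono ?_)
    intro x hx
    by_contra hxp
    exact Q.1.isPrime.ne_top (Ideal.eq_top_of_isUnit_mem _ hx (IsLocalization.map_units _ (⟨x, hxp⟩ : p.primeCompl)))
  have h2 : ringKrullDim (A ⧸ p) ≤ (coheight P : WithBot ℕ∞) := by
    rw [ringKrullDim, krullDim_eq_iSup_coheight]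
    refine iSup_le fun Q => WithBot.coe_le_coe.mpr ?_
    have hle : ∀ Q : PrimeSpectrum (A ⧸ p), p ≤ Q.asIdeal.comap (Ideal.Quotient.mk p) := fun Q x hx => by
      rw [Ideal.mem_comap, Ideal.Quotient.eq_zero_iff_mem.mpr hx]
      exact Q.asIdeal.zero_mem
    let f : PrimeSpectrum (A ⧸ p) → Module.support A M := fun Q =>
      ⟨PrimeSpectrum.comap (Ideal.Quotient.mk p) Q, Module.mem_support_iff_of_finite.mpr (hann.trans (hle Q))⟩
    have hf : StrictMono f := fun a b hab => by
      refine lt_of_le_of_ne (Ideal.comap_mono hab.le) fun he => hab.ne ?_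
      exact PrimeSpectrum.ext (Ideal.comap_injective_of_surjective _ Ideal.Quotient.mk_surjective
        (congrArg (fun x : Module.support A M => x.1.asIdeal) he))
    exact (coheight_le_coheight_apply_of_strictMono f hf Q).trans
      (coheight_anti (show P ≤ f Q from hle Q))
  refine (add_le_add h1 h2).trans ?_
  rw [Module.supportDim, krullDim_eq_iSup_height_add_coheight_of_nonempty, ← WithBot.coe_add, WithBot.coe_le_coe]
  exact le_iSup (fun a : Module.support A M => height a + coheight a) P

/-- A chain from `q ∈ Supp M` up to `p` lives in the support of `M_p`. -/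
theorem height_Ici_le_supportDim_localized (q p : PrimeSpectrum A) (hq : Module.annihilator A M ≤ q.asIdeal)
    (h : q ≤ p) :
    (height (⟨p, h⟩ : Set.Ici q) : WithBot ℕ∞) ≤
      Module.supportDim (Localization.AtPrime p.asIdeal) (LocalizedModule p.asIdeal.primeCompl M) := by
  let e := IsLocalization.AtPrime.primeSpectrumOrderIso (Localization.AtPrime p.asIdeal) p.asIdeal
  have hmem : ∀ x : Set.Iic (⟨p.asIdeal, p.isPrime⟩ : PrimeSpectrum A), Module.annihilator A M ≤ x.1.asIdeal →
      e.symm x ∈ Module.support (Localization.AtPrime p.asIdeal) (LocalizedModule p.asIdeal.primeCompl M) :=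
    fun x hx => by
      rw [QGorLib.mem_support_localized_iff]
      have hx' : PrimeSpectrum.comap (algebraMap A (Localization.AtPrime p.asIdeal)) (e.symm x) = x.1 :=
        congrArg Subtype.val (e.apply_symm_apply x)
      rw [hx', Module.mem_support_iff_of_finite]
      exact hx
  haveI : Nonempty (Module.support (Localization.AtPrime p.asIdeal) (LocalizedModule p.asIdeal.primeCompl M)) :=
    ⟨⟨e.symm ⟨p, Set.mem_Iic.mpr le_rfl⟩, hmem ⟨p, Set.mem_Iic.mpr le_rfl⟩ (hq.trans h)⟩⟩
  rw [Module.supportDim, krullDim_eq_iSup_length, WithBot.coe_le_coe]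
  refine height_le fun l hl => ?_
  have hle : ∀ i, (l i).1 ≤ p := fun i => by
    have := l.monotone (Fin.le_last i)
    rw [show l (Fin.last l.length) = l.last from rfl, hl] at this
    exact this
  refine le_iSup_of_le (LTSeries.mk l.length
    (fun i => ⟨e.symm ⟨(l i).1, hle i⟩, hmem _ (hq.trans (l i).2)⟩)
    fun i j hij => e.symm.strictMono (show (l i).1 < (l j).1 from l.strictMono hij)) le_rfl

end Groth.Agent.GorLib
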