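import Mathlib
import Groth.Agent.S11660
import Groth.Agent.LocCohLib.Annihilated
import Groth.Agent.LocCohLib.FaltingsEasy
import Groth.Prelude.Def_SGA2

/-! Relative codimension and the finiteness criterion. -/

set_option autoImplicit false
universe u

namespace Groth.Agent.GorLib

open CategoryTheory Limits

variable {A : Type u} [CommRing A]

lemma le_comap_quot (p : Ideal A) (Q : PrimeSpectrum (A ⧸ p)) : p ≤ Q.asIdeal.comap (Ideal.Quotient.mk p) :=
  fun x hx => by
    rw [Ideal.mem_comap, Ideal.Quotient.eq_zero_iff_mem.mpr hx]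
    exact Q.asIdeal.zero_mem

/-- The primes of `A/p` are the primes above `p`. -/
noncomputable def quotIciIso (p : PrimeSpectrum A) : PrimeSpectrum (A ⧸ p.asIdeal) ≃o Set.Ici p :=
  RelIso.ofSurjective
    { toFun := fun Q => (⟨PrimeSpectrum.comap (Ideal.Quotient.mk p.asIdeal) Q, le_comap_quot p.asIdeal Q⟩ : Set.Ici p)
      inj' := fun a b he => PrimeSpectrum.ext (Ideal.comap_injective_of_surjective _ Ideal.Quotient.mk_surjective
        (congrArg (fun x : Set.Ici p => x.1.asIdeal) he))
      map_rel_iff' := fun {a b} =>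
        Ideal.comap_le_comap_iff_of_surjective _ Ideal.Quotient.mk_surjective a.asIdeal b.asIdeal }
    fun x => by
      haveI : (x.1.asIdeal.map (Ideal.Quotient.mk p.asIdeal)).IsPrime :=
        Ideal.map_isPrime_of_surjective Ideal.Quotient.mk_surjective (by rw [Ideal.mk_ker]; exact x.2)
      refine ⟨⟨x.1.asIdeal.map (Ideal.Quotient.mk p.asIdeal), inferInstance⟩, Subtype.ext (PrimeSpectrum.ext ?_)⟩
      change (x.1.asIdeal.map (Ideal.Quotient.mk p.asIdeal)).comap (Ideal.Quotient.mk p.asIdeal) = x.1.asIdeal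
      rw [Ideal.comap_map_of_surjective _ Ideal.Quotient.mk_surjective, ← RingHom.ker_eq_comap_bot, Ideal.mk_ker]
      exact sup_eq_left.mpr x.2

theorem relCodim_eq_height (I : Ideal A) (p : PrimeSpectrum A) :
    SGA2.relCodim I p = ((I ⊔ p.asIdeal).map (Ideal.Quotient.mk p.asIdeal)).height := by
  have hmem : ∀ Q : PrimeSpectrum (A ⧸ p.asIdeal),
      (I ⊔ p.asIdeal).map (Ideal.Quotient.mk p.asIdeal) ≤ Q.asIdeal ↔
        I ≤ ((quotIciIso p) Q).1.asIdeal := fun Q => by
    rw [Ideal.map_le_iff_le_comap]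
    exact ⟨fun h => le_sup_left.trans h, fun h => sup_le h (le_comap_quot _ Q)⟩
  have hval : ∀ Q : PrimeSpectrum (A ⧸ p.asIdeal), Order.height ((quotIciIso p) Q) = Q.asIdeal.height := fun Q => by
    rw [Order.height_orderIso, PrimeSpectrum.height_eq_orderHeight]
  apply le_antisymm
  · rw [Ideal.height_eq_inf_minimalPrimes]
    refine le_iInf₂ fun J hJ => ?_
    let Q : PrimeSpectrum (A ⧸ p.asIdeal) := ⟨J, hJ.1.1⟩
    refine le_trans ?_ (hval Q).le
    exact iInf_le (fun q : {q : PrimeSpectrum A // p ≤ q ∧ I ≤ q.asIdeal} => Order.height (⟨q.1, q.2.1⟩ : Set.Ici p))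
      ⟨((quotIciIso p) Q).1, ((quotIciIso p) Q).2, (hmem Q).mp hJ.1.2⟩
  · refine le_iInf fun q => ?_
    obtain ⟨Q, hQ⟩ := (quotIciIso p).surjective ⟨q.1, q.2.1⟩
    rw [← hQ, hval]
    exact Ideal.height_mono ((hmem Q).mpr (hQ ▸ q.2.2))

variable [IsNoetherianRing A]

/-- Grothendieck's finiteness criterion, for quotients of regular rings. -/
theorem finite_H_iff_adjDepth {R : Type u} [CommRing R] [IsRegularRing R] (π : R →+* A)
    (hπ : Function.Surjective π) (I : Ideal A) (M : Type u) [AddCommGroup M] [Module A M] [Module.Finite A M] (n : ℕ) :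
    (∀ i : ℕ, i ≤ n → Module.Finite A (LocCoh.H I i M)) ↔
      ∀ p : PrimeSpectrum A, ¬ I ≤ p.asIdeal → (n : ℕ∞) < LocCoh.adjDepth I M p := by
  constructor
  · intro h p hp
    refine lt_of_lt_of_le ?_ ((LocCohLib.finDimRel_le_minAdjDepth I I M).trans (iInf₂_le p hp))
    obtain ⟨J, hJ, hkill⟩ := LocCohLib.exists_annihilator_of_finite I M n h
    refine lt_of_lt_of_le (Nat.cast_lt.mpr (Nat.lt_succ_self n)) (le_iInf₂ fun i hi => ?_)
    by_contra hlt
    rw [not_le, Nat.cast_lt] at hlt
    exact hi (hJ.trans (Ideal.radical_mono fun a ha => Module.mem_annihilator.mpr (hkill i (by omega) a ha)))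
  · intro h
    have hrad : ∀ i : ℕ, i ≤ n → I ≤ (Module.annihilator A (LocCoh.H I i M)).radical := by
      intro i hi
      by_contra hbad
      have h1 : LocCoh.minAdjDepth I I M ≤ (i : ℕ∞) :=
        (S11660.result R A π hπ I I M).trans (iInf₂_le (f := fun (i : ℕ)
          (_ : ¬ I ≤ (Module.annihilator A (LocCoh.H I i M)).radical) => (i : ℕ∞)) i hbad)
      have h2 : ((i + 1 : ℕ) : ℕ∞) ≤ LocCoh.minAdjDepth I I M := le_iInf₂ fun p hp => by
        have := h p hp
        revert this
        induction LocCoh.adjDepth I M p using ENat.recTopCoe with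
        | top => simp
        | coe c => intro hc; norm_cast at hc ⊢; omega
      exact absurd (Nat.cast_le.mp (h2.trans h1)) (by omega)
    let J := (Finset.range (n + 1)).inf fun i => Module.annihilator A (LocCoh.H I i M)
    have hJ : I ≤ J.radical := fun x hx => by
      have hall : ∀ i ∈ Finset.range (n + 1), ∃ k, x ^ k ∈ Module.annihilator A (LocCoh.H I i M) := fun i hi =>
        hrad i (Nat.lt_succ_iff.mp (Finset.mem_range.mp hi)) hx
      choose k hk using hall
      let N := (Finset.range (n + 1)).attach.sup fun i => k i.1 i.2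
      refine ⟨N, ?_⟩
      rw [Submodule.mem_finsetInf]
      intro i hi
      exact Ideal.pow_mem_of_pow_mem _ (hk i hi)
        (Finset.le_sup (f := fun i : {x // x ∈ Finset.range (n + 1)} => k i.1 i.2) (Finset.mem_attach _ ⟨i, hi⟩))
    refine LocCohLib.finite_H_of_annihilated I n J hJ M fun i hi a ha x => ?_
    exact Module.mem_annihilator.mp
      ((Finset.inf_le (f := fun i => Module.annihilator A (LocCoh.H I i M)) (Finset.mem_range.mpr (by omega))) ha) x

end Groth.Agent.GorLib
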